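import Mathlib

set_option autoImplicit false

namespace Cfsg.Agent.Lib.Helper4

/-- A nontrivial normal subgroup of a finite `p`-group contains a nontrivial central element. -/
theorem exists_central_of_normal {R : Type*} [Group R] [Finite R] {p : ℕ} [Fact p.Prime]
    (hR : IsPGroup p R) (D : Subgroup R) [D.Normal] (hD : D ≠ ⊥) :
    ∃ z : R, z ∈ D ∧ z ≠ 1 ∧ z ∈ Subgroup.center R := by
  have hRc : IsPGroup p (ConjAct R) := hR
  have hDp : p ∣ Nat.card D := by
    rcases (hR.to_subgroup D).card_eq_or_dvd with h | h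
    · exact absurd (Subgroup.card_eq_one.mp h) hD
    · exact h
  have h1 : (1 : D) ∈ MulAction.fixedPoints (ConjAct R) D := by
    intro g
    exact smul_one g
  obtain ⟨b, hb, hb1⟩ := hRc.exists_fixed_point_of_prime_dvd_card_of_fixed_point D hDp h1
  refine ⟨(b : R), b.2, fun h => hb1 (Subtype.ext h.symm), ?_⟩
  rw [Subgroup.mem_center_iff]
  intro g
  have h2 := hb (ConjAct.toConjAct g)
  have h3 := congrArg Subtype.val h2
  rw [ConjAct.Subgroup.val_conj_smul, ConjAct.smul_def, ConjAct.ofConjAct_toConjAct] at h3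
  calc g * (b : R) = g * (b : R) * g⁻¹ * g := by group
    _ = (b : R) * g := by rw [h3]

/-- The cyclic subgroup generated by a central element is normal. -/
theorem zpowers_normal_of_central {R : Type*} [Group R] {z : R} (hz : z ∈ Subgroup.center R) :
    (Subgroup.zpowers z).Normal := by
  constructor
  intro y hy g
  have hyc : y ∈ Subgroup.center R := by
    obtain ⟨k, rfl⟩ := Subgroup.mem_zpowers_iff.1 hy
    exact Subgroup.zpow_mem _ hz k
  rw [Subgroup.mem_center_iff] at hyc
  rw [hyc g, mul_inv_cancel_right]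
  exact hy

/-- A maximal normal abelian subgroup of a finite `p`-group is self-centralizing. -/
theorem centralizer_le_of_max_normal_abelian {S : Type*} [Group S] [Finite S] {p : ℕ}
    [Fact p.Prime] (hS : IsPGroup p S) (A : Subgroup S) [hAn : A.Normal]
    (hAab : ∀ a ∈ A, ∀ b ∈ A, a * b = b * a)
    (hmax : ∀ B : Subgroup S, B.Normal → (∀ a ∈ B, ∀ b ∈ B, a * b = b * a) → A ≤ B → B = A) :
    Subgroup.centralizer (A : Set S) ≤ A := by
  by_contra hcon
  have hCn : (Subgroup.centralizer (A : Set S)).Normal := inferInstance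
  have hCmap : ((Subgroup.centralizer (A : Set S)).map (QuotientGroup.mk' A)).Normal :=
    hCn.map (QuotientGroup.mk' A) (QuotientGroup.mk'_surjective A)
  have hCne : (Subgroup.centralizer (A : Set S)).map (QuotientGroup.mk' A) ≠ ⊥ := by
    intro h
    apply hcon
    intro x hx
    have : QuotientGroup.mk' A x ∈ (Subgroup.centralizer (A : Set S)).map (QuotientGroup.mk' A) :=
      Subgroup.mem_map_of_mem _ hx
    rw [h, Subgroup.mem_bot] at this
    exact (QuotientGroup.eq_one_iff x).1 this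
  have hQ : IsPGroup p (S ⧸ A) := hS.to_quotient A
  obtain ⟨zbar, hz1, hz2, hz3⟩ := exists_central_of_normal hQ _ hCne
  obtain ⟨x, hxC, rfl⟩ := Subgroup.mem_map.1 hz1
  have hxA : x ∉ A := fun h => hz2 ((QuotientGroup.eq_one_iff x).2 h)
  have hZn : (Subgroup.zpowers (QuotientGroup.mk' A x)).Normal := zpowers_normal_of_central hz3
  have hBn : ((Subgroup.zpowers (QuotientGroup.mk' A x)).comap (QuotientGroup.mk' A)).Normal :=
    hZn.comap _
  have hxB : x ∈ (Subgroup.zpowers (QuotientGroup.mk' A x)).comap (QuotientGroup.mk' A) :=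
    Subgroup.mem_comap.2 (Subgroup.mem_zpowers _)
  have hAB : A ≤ (Subgroup.zpowers (QuotientGroup.mk' A x)).comap (QuotientGroup.mk' A) := by
    intro a ha
    rw [Subgroup.mem_comap]
    have : QuotientGroup.mk' A a = 1 := (QuotientGroup.eq_one_iff a).2 ha
    rw [this]
    exact Subgroup.one_mem _
  have hdecomp : ∀ y ∈ (Subgroup.zpowers (QuotientGroup.mk' A x)).comap (QuotientGroup.mk' A),
      ∃ (k : ℤ) (a : S), a ∈ A ∧ y = x ^ k * a := by
    intro y hy
    rw [Subgroup.mem_comap] at hy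
    obtain ⟨k, hk⟩ := Subgroup.mem_zpowers_iff.1 hy
    refine ⟨k, (x ^ k)⁻¹ * y, ?_, by group⟩
    have h1 : QuotientGroup.mk' A (x ^ k) = QuotientGroup.mk' A y := by
      rw [map_zpow]; exact hk
    exact QuotientGroup.eq.1 h1
  have hxcomm : ∀ a ∈ A, Commute x a := by
    intro a ha
    rw [Subgroup.mem_centralizer_iff] at hxC
    exact (hxC a ha).symm
  have hBab : ∀ y₁ ∈ (Subgroup.zpowers (QuotientGroup.mk' A x)).comap (QuotientGroup.mk' A),
      ∀ y₂ ∈ (Subgroup.zpowers (QuotientGroup.mk' A x)).comap (QuotientGroup.mk' A),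
      y₁ * y₂ = y₂ * y₁ := by
    intro y₁ h₁ y₂ h₂
    obtain ⟨k, a, ha, rfl⟩ := hdecomp y₁ h₁
    obtain ⟨l, b, hb, rfl⟩ := hdecomp y₂ h₂
    have c1 : Commute (x ^ k) (x ^ l) := (Commute.refl x).zpow_zpow k l
    have c2 : Commute (x ^ k) b := (hxcomm b hb).zpow_left k
    have c3 : Commute a (x ^ l) := ((hxcomm a ha).zpow_left l).symm
    have c4 : Commute a b := hAab a ha b hb
    exact ((c1.mul_right c2).mul_left (c3.mul_right c4)).eq
  have := hmax _ hBn hBab hAB
  rw [this] at hxB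
  exact hxA hxB

/-- In a group where `z * z = 1`, the powers of `z` are `1` and `z`. -/
theorem mem_zpowers_involution {R : Type*} [Group R] {z y : R} (hz : z * z = 1)
    (hy : y ∈ Subgroup.zpowers z) : y = 1 ∨ y = z := by
  obtain ⟨k, rfl⟩ := Subgroup.mem_zpowers_iff.1 hy
  have h2 : z ^ (2 : ℤ) = 1 := by
    rw [zpow_ofNat, pow_two]; exact hz
  rcases Int.emod_two_eq_zero_or_one k with h | h
  · left
    have : k = 2 * (k / 2) := by omega
    rw [this, zpow_mul, h2, one_zpow]
  · right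
    have : k = 2 * (k / 2) + 1 := by omega
    rw [this, zpow_add, zpow_mul, h2, one_zpow, one_mul, zpow_one]

/-- Noncyclic case: a normal elementary abelian subgroup `V` properly containing `⟨z⟩`, with `z`
a central involution, contains an involution `u ∉ ⟨z⟩` all of whose conjugates are `u` or `u z`. -/
theorem exists_almost_central {S : Type*} [Group S] [Finite S] (hS : IsPGroup 2 S)
    (V : Subgroup S) [hVn : V.Normal] {z : S} (hzc : z ∈ Subgroup.center S) (hzz : z * z = 1)
    (hv : ∃ v ∈ V, v ≠ 1 ∧ v ≠ z) :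
    ∃ u ∈ V, u ≠ 1 ∧ u ≠ z ∧ ∀ s : S, s * u * s⁻¹ = u ∨ s * u * s⁻¹ = u * z := by
  have h2 : Fact (Nat.Prime 2) := ⟨Nat.prime_two⟩
  have hZn : (Subgroup.zpowers z).Normal := zpowers_normal_of_central hzc
  have hVmap : (V.map (QuotientGroup.mk' (Subgroup.zpowers z))).Normal :=
    hVn.map _ (QuotientGroup.mk'_surjective _)
  have hVne : V.map (QuotientGroup.mk' (Subgroup.zpowers z)) ≠ ⊥ := by
    intro h
    obtain ⟨v, hvV, hv1, hvz⟩ := hv
    have : QuotientGroup.mk' (Subgroup.zpowers z) v ∈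
        V.map (QuotientGroup.mk' (Subgroup.zpowers z)) := Subgroup.mem_map_of_mem _ hvV
    rw [h, Subgroup.mem_bot] at this
    have hmem : v ∈ Subgroup.zpowers z := (QuotientGroup.eq_one_iff v).1 this
    rcases mem_zpowers_involution hzz hmem with h' | h'
    · exact hv1 h'
    · exact hvz h'
  have hQ : IsPGroup 2 (S ⧸ Subgroup.zpowers z) := hS.to_quotient _
  obtain ⟨ubar, hu1, hu2, hu3⟩ := exists_central_of_normal hQ _ hVne
  obtain ⟨u, huV, rfl⟩ := Subgroup.mem_map.1 hu1
  have hunot : u ∉ Subgroup.zpowers z := fun h => hu2 ((QuotientGroup.eq_one_iff u).2 h)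
  refine ⟨u, huV, ?_, ?_, ?_⟩
  · rintro rfl
    exact hunot (Subgroup.one_mem _)
  · rintro rfl
    exact hunot (Subgroup.mem_zpowers _)
  · intro s
    have h1 : QuotientGroup.mk' (Subgroup.zpowers z) (s * u * s⁻¹) =
        QuotientGroup.mk' (Subgroup.zpowers z) u := by
      rw [map_mul, map_mul, map_inv]
      have := Subgroup.mem_center_iff.1 hu3 (QuotientGroup.mk' (Subgroup.zpowers z) s)
      rw [this, mul_inv_cancel_right]
    have h2' : u⁻¹ * (s * u * s⁻¹) ∈ Subgroup.zpowers z := QuotientGroup.eq.1 h1.symm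
    rcases mem_zpowers_involution hzz h2' with h | h
    · left
      have := congrArg (fun y => u * y) h
      simpa using this
    · right
      have := congrArg (fun y => u * y) h
      simpa using this

/-- In a finite `2`-group, an element whose square is not `1` has a power whose square is an
involution. -/
theorem pow_to_involution {S : Type*} [Group S] [Finite S] (hS : IsPGroup 2 S) (b : S)
    (hb : b * b ≠ 1) :
    ∃ n : ℕ, (b ^ n) * (b ^ n) ≠ 1 ∧ ((b ^ n) * (b ^ n)) * ((b ^ n) * (b ^ n)) = 1 := by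
  have h2 : Fact (Nat.Prime 2) := ⟨Nat.prime_two⟩
  obtain ⟨m, hm⟩ := (IsPGroup.iff_orderOf.1 hS) b
  have hm2 : 2 ≤ m := by
    by_contra h
    push Not at h
    have h1 : b ^ 2 = 1 := by
      have : orderOf b ∣ 2 := by
        rw [hm]
        interval_cases m <;> simp
      exact orderOf_dvd_iff_pow_eq_one.1 this
    exact hb (by rw [← pow_two]; exact h1)
  refine ⟨2 ^ (m - 2), ?_, ?_⟩
  · rw [← pow_add]
    apply pow_ne_one_of_lt_orderOf
    · positivity
    · rw [hm]
      have : 2 ^ (m - 2) + 2 ^ (m - 2) = 2 ^ (m - 1) := by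
        have : m - 1 = (m - 2) + 1 := by omega
        rw [this, pow_succ]; ring
      rw [this]
      exact Nat.pow_lt_pow_right (by norm_num) (by omega)
  · rw [← pow_add, ← pow_add]
    have : 2 ^ (m - 2) + 2 ^ (m - 2) + (2 ^ (m - 2) + 2 ^ (m - 2)) = 2 ^ m := by
      have : m = (m - 2) + 2 := by omega
      conv_rhs => rw [this, pow_add]
      ring
    rw [this, ← hm]
    exact pow_orderOf_eq_one b

/-- A finite abelian `2`-subgroup with a unique involution is cyclic. -/
theorem exists_generator_of_unique_involution {S : Type*} [Group S] [Finite S]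
    (hS : IsPGroup 2 S) (A : Subgroup S) (hAab : ∀ a ∈ A, ∀ b ∈ A, a * b = b * a) {z : S}
    (huniq : ∀ a ∈ A, a * a = 1 → a = 1 ∨ a = z) :
    ∃ g ∈ A, ∀ a ∈ A, a ∈ Subgroup.zpowers g := by
  have h2 : Fact (Nat.Prime 2) := ⟨Nat.prime_two⟩
  obtain ⟨g, hg⟩ := Finite.exists_max (fun a : A => orderOf (a : S))
  refine ⟨g, g.2, ?_⟩
  by_contra hcon
  push Not at hcon
  obtain ⟨b₀, hb₀A, hb₀⟩ := hcon
  have hne : Nonempty {a : A // (a : S) ∉ Subgroup.zpowers (g : S)} := ⟨⟨⟨b₀, hb₀A⟩, hb₀⟩⟩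
  obtain ⟨b, hb⟩ := Finite.exists_min
    (fun a : {a : A // (a : S) ∉ Subgroup.zpowers (g : S)} => orderOf ((a : A) : S))
  have hbA : ((b : A) : S) ∈ A := (b : A).2
  have hbn : ((b : A) : S) ∉ Subgroup.zpowers (g : S) := b.2
  set b' : S := ((b : A) : S) with hb'
  set g' : S := (g : S) with hg'
  have hb1 : b' ≠ 1 := by
    intro h
    rw [h] at hbn
    exact hbn (Subgroup.one_mem _)
  -- the square of b lies in the powers of g
  have hsq : b' ^ 2 ∈ Subgroup.zpowers g' := by
    by_contra hnot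
    have hmin := hb ⟨⟨b' ^ 2, A.pow_mem hbA 2⟩, hnot⟩
    simp only at hmin
    obtain ⟨m, hm⟩ := (IsPGroup.iff_orderOf.1 hS) b'
    have hm1 : 1 ≤ m := by
      by_contra h
      have : m = 0 := by omega
      rw [this, pow_zero, orderOf_eq_one_iff] at hm
      exact hb1 hm
    have hdvd : 2 ∣ orderOf b' := by
      rw [hm]; exact dvd_pow_self 2 (by omega)
    have hord : orderOf (b' ^ 2) = orderOf b' / 2 := orderOf_pow_of_dvd (by norm_num) hdvd
    have hpos : 0 < orderOf b' := orderOf_pos b'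
    rw [hord] at hmin
    have : orderOf b' / 2 < orderOf b' := Nat.div_lt_self hpos (by norm_num)
    omega
  obtain ⟨k, hk⟩ := Subgroup.mem_zpowers_iff.1 hsq
  have hgA : g' ∈ A := g.2
  have hg1 : g' ≠ 1 := by
    intro h
    have h1 := hg ⟨b', hbA⟩
    simp only at h1
    rw [h, orderOf_one] at h1
    have hpos : 0 < orderOf b' := orderOf_pos b'
    have : orderOf b' = 1 := by omega
    exact hb1 (orderOf_eq_one_iff.1 this)
  -- the involution z lies in the powers of g
  have hzg : z ∈ Subgroup.zpowers g' := by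
    obtain ⟨n, hn⟩ := (IsPGroup.iff_orderOf.1 hS) g'
    have hn1 : 1 ≤ n := by
      by_contra h
      have : n = 0 := by omega
      rw [this, pow_zero, orderOf_eq_one_iff] at hn
      exact hg1 hn
    have hy1 : g' ^ (2 ^ (n - 1)) ≠ 1 := by
      apply pow_ne_one_of_lt_orderOf
      · positivity
      · rw [hn]; exact Nat.pow_lt_pow_right (by norm_num) (by omega)
    have hy2 : g' ^ (2 ^ (n - 1)) * g' ^ (2 ^ (n - 1)) = 1 := by
      rw [← pow_add]
      have : 2 ^ (n - 1) + 2 ^ (n - 1) = 2 ^ n := by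
        have : n = (n - 1) + 1 := by omega
        conv_rhs => rw [this, pow_succ]
        ring
      rw [this, ← hn]
      exact pow_orderOf_eq_one g'
    rcases huniq _ (A.pow_mem hgA _) hy2 with h | h
    · exact absurd h hy1
    · rw [← h]
      exact Subgroup.pow_mem _ (Subgroup.mem_zpowers g') _
  -- d = b * g^(-l)
  have hdA : b' * (g' ^ (k / 2))⁻¹ ∈ A := A.mul_mem hbA (A.inv_mem (A.zpow_mem hgA _))
  have hcomm : Commute b' g' := hAab b' hbA g' hgA
  have hdd : (b' * (g' ^ (k / 2))⁻¹) * (b' * (g' ^ (k / 2))⁻¹) = g' ^ (k % 2) := by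
    have c1 : Commute b' (g' ^ (k / 2))⁻¹ := (hcomm.zpow_right (k / 2)).inv_right
    have e1 : (b' * (g' ^ (k / 2))⁻¹) * (b' * (g' ^ (k / 2))⁻¹)
        = b' ^ 2 * ((g' ^ (k / 2))⁻¹ * (g' ^ (k / 2))⁻¹) := by
      rw [pow_two]
      calc (b' * (g' ^ (k / 2))⁻¹) * (b' * (g' ^ (k / 2))⁻¹)
          = b' * ((g' ^ (k / 2))⁻¹ * b') * (g' ^ (k / 2))⁻¹ := by group
        _ = b' * (b' * (g' ^ (k / 2))⁻¹) * (g' ^ (k / 2))⁻¹ := by rw [c1.eq]
        _ = b' * b' * ((g' ^ (k / 2))⁻¹ * (g' ^ (k / 2))⁻¹) := by group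
    rw [e1, ← hk, ← zpow_neg, ← zpow_add, ← zpow_add]
    congr 1
    omega
  rcases Int.emod_two_eq_zero_or_one k with hpar | hpar
  · rw [hpar, zpow_zero] at hdd
    rcases huniq _ hdA hdd with h | h
    · apply hbn
      have : b' = g' ^ (k / 2) := by
        have := congrArg (fun y => y * g' ^ (k / 2)) h
        simpa using this
      rw [this]
      exact Subgroup.zpow_mem _ (Subgroup.mem_zpowers g') _
    · apply hbn
      have : b' = z * g' ^ (k / 2) := by
        have := congrArg (fun y => y * g' ^ (k / 2)) h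
        simpa using this
      rw [this]
      exact Subgroup.mul_mem _ hzg (Subgroup.zpow_mem _ (Subgroup.mem_zpowers g') _)
  · rw [hpar, zpow_one] at hdd
    -- the order of d is twice the order of g
    have hd1 : b' * (g' ^ (k / 2))⁻¹ ≠ 1 := by
      intro h
      rw [h, one_mul] at hdd
      exact hg1 hdd.symm
    obtain ⟨m, hm⟩ := (IsPGroup.iff_orderOf.1 hS) (b' * (g' ^ (k / 2))⁻¹)
    have hm1 : 1 ≤ m := by
      by_contra h
      have : m = 0 := by omega
      rw [this, pow_zero, orderOf_eq_one_iff] at hm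
      exact hd1 hm
    have hdvd : 2 ∣ orderOf (b' * (g' ^ (k / 2))⁻¹) := by
      rw [hm]; exact dvd_pow_self 2 (by omega)
    have hord : orderOf ((b' * (g' ^ (k / 2))⁻¹) ^ 2) = orderOf (b' * (g' ^ (k / 2))⁻¹) / 2 :=
      orderOf_pow_of_dvd (by norm_num) hdvd
    rw [pow_two, hdd] at hord
    have hmax := hg ⟨_, hdA⟩
    simp only at hmax
    have hpos : 0 < orderOf g' := orderOf_pos g'
    omega


/-- A subgroup contained in a four-element list has at most four elements. -/
theorem card_le_four_of_subset {G : Type*} [Group G] (E : Subgroup G) (a b c d : G)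
    (h : ∀ e ∈ E, e = a ∨ e = b ∨ e = c ∨ e = d) : Nat.card E ≤ 4 := by
  classical
  have hsub : ∀ e ∈ E, e ∈ ({a, b, c, d} : Finset G) := by
    intro e he
    simp only [Finset.mem_insert, Finset.mem_singleton]
    exact h e he
  have hinj : Function.Injective
      (fun e : E => (⟨e.1, hsub e.1 e.2⟩ : ({a, b, c, d} : Finset G))) := by
    intro x y hxy
    have := congrArg (fun t : ({a, b, c, d} : Finset G) => (t : G)) hxy
    exact Subtype.ext this
  have h1 := Nat.card_le_card_of_injective _ hinj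
  have h2 : Nat.card ({a, b, c, d} : Finset G) ≤ 4 := by
    rw [Nat.card_eq_fintype_card, Fintype.card_coe]
    exact Finset.card_le_four
  omega

/-- In a finite `2`-group, a nontrivial element has a power that is an involution. -/
theorem exists_pow_involution {S : Type*} [Group S] [Finite S] (hS : IsPGroup 2 S) (a : S)
    (ha : a ≠ 1) : ∃ n : ℕ, a ^ n ≠ 1 ∧ a ^ n * a ^ n = 1 := by
  by_cases haa : a * a = 1
  · exact ⟨1, by rwa [pow_one], by rwa [pow_one]⟩
  · obtain ⟨n, h1, h2⟩ := pow_to_involution hS a haa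
    refine ⟨n + n, ?_, ?_⟩
    · rwa [pow_add]
    · rwa [pow_add]

/-- The cyclic case: a normal self-centralizing cyclic subgroup `A` of a `2`-group of
`2`-rank at least `3` yields a noncentral-in-`A` involution with at most two conjugates. -/
theorem exists_almost_central_cyclic {S : Type*} [Group S] [Finite S] (hS : IsPGroup 2 S)
    (A : Subgroup S) [hAn : A.Normal] (hcent : Subgroup.centralizer (A : Set S) ≤ A)
    {g z : S} (hgA : g ∈ A) (hgen : ∀ a ∈ A, a ∈ Subgroup.zpowers g)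
    (hzA : z ∈ A) (hzc : z ∈ Subgroup.center S) (hz1 : z ≠ 1) (hzz : z * z = 1)
    (huniq : ∀ a ∈ A, a * a = 1 → a = 1 ∨ a = z)
    (E : Subgroup S) (hE8 : Nat.card E = 8) (hE2 : ∀ e ∈ E, e * e = 1) :
    ∃ u : S, u * u = 1 ∧ u ≠ 1 ∧ u ≠ z ∧ ∀ s : S, s * u * s⁻¹ = u ∨ s * u * s⁻¹ = u * z := by
  classical
  have hzcomm : ∀ s : S, s * z = z * s := fun s => (Subgroup.mem_center_iff.1 hzc s)
  have hAab : ∀ a ∈ A, ∀ b ∈ A, a * b = b * a := by
    intro a ha b hb
    obtain ⟨i, rfl⟩ := Subgroup.mem_zpowers_iff.1 (hgen a ha)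
    obtain ⟨j, rfl⟩ := Subgroup.mem_zpowers_iff.1 (hgen b hb)
    rw [← zpow_add, ← zpow_add, add_comm]
  -- conjugations commute on A
  have hconj : ∀ s t : S, ∀ a ∈ A, s * (t * a * t⁻¹) * s⁻¹ = t * (s * a * s⁻¹) * t⁻¹ := by
    intro s t a ha
    obtain ⟨k, rfl⟩ := Subgroup.mem_zpowers_iff.1 (hgen a ha)
    obtain ⟨i, hi⟩ := Subgroup.mem_zpowers_iff.1 (hgen _ (hAn.conj_mem g hgA s))
    obtain ⟨j, hj⟩ := Subgroup.mem_zpowers_iff.1 (hgen _ (hAn.conj_mem g hgA t))
    have e1 : ∀ (r : S) (m : ℤ), r * g ^ m * r⁻¹ = (r * g * r⁻¹) ^ m := by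
      intro r m
      exact conj_zpow.symm
    rw [e1 t, e1 s, ← hj, ← hi, ← zpow_mul, ← zpow_mul, e1 s, e1 t, ← hi, ← hj, ← zpow_mul,
      ← zpow_mul]
    congr 1
    ring
  have hcommA : ∀ s t : S, s * t * s⁻¹ * t⁻¹ ∈ A := by
    intro s t
    apply hcent
    rw [Subgroup.mem_centralizer_iff]
    intro a ha
    have ha' : s⁻¹ * (t⁻¹ * a * t⁻¹⁻¹) * s⁻¹⁻¹ ∈ A :=
      hAn.conj_mem _ (hAn.conj_mem a ha t⁻¹) s⁻¹
    have h1 := hconj s t _ ha'
    have h2 : t * (s * (s⁻¹ * (t⁻¹ * a * t⁻¹⁻¹) * s⁻¹⁻¹) * s⁻¹) * t⁻¹ = a := by group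
    rw [h2] at h1
    calc a * (s * t * s⁻¹ * t⁻¹)
        = (s * (t * (s⁻¹ * (t⁻¹ * a * t⁻¹⁻¹) * s⁻¹⁻¹) * t⁻¹) * s⁻¹) * (s * t * s⁻¹ * t⁻¹) := by
          rw [h1]
      _ = s * t * s⁻¹ * t⁻¹ * a := by group
  have hEz : ¬ (E ≤ Subgroup.zpowers z) := by
    intro hle
    have hd := Subgroup.card_dvd_of_le hle
    have hoz : orderOf z = 2 := orderOf_eq_prime (by rw [pow_two]; exact hzz) hz1
    rw [Nat.card_zpowers, hoz, hE8] at hd
    omega
  have hEA : ∀ e ∈ E, e ∈ A → e ∈ Subgroup.zpowers z := by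
    intro e he heA
    rcases huniq e heA (hE2 e he) with h | h
    · rw [h]; exact Subgroup.one_mem _
    · rw [h]; exact Subgroup.mem_zpowers z
  obtain ⟨b, hbA, hbb⟩ : ∃ b ∈ A, b * b ≠ 1 := by
    by_contra hcon
    push Not at hcon
    apply hEz
    intro e he
    apply hEA e he
    apply hcent
    rw [Subgroup.mem_centralizer_iff]
    intro a ha
    rcases huniq a ha (hcon a ha) with h | h
    · rw [h, one_mul, mul_one]
    · rw [h]; exact (hzcomm e).symm
  obtain ⟨n, hn1, hn2⟩ := pow_to_involution hS b hbb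
  have hwA : b ^ n ∈ A := A.pow_mem hbA n
  generalize b ^ n = w at hn1 hn2 hwA
  have hww : w * w = z := by
    rcases huniq _ (A.mul_mem hwA hwA) hn2 with h | h
    · exact absurd h hn1
    · exact h
  have hsqz : ∀ x ∈ A, x * x = z → x = w ∨ x = w⁻¹ := by
    intro x hx hxx
    have hc : x * w⁻¹ = w⁻¹ * x := hAab x hx _ (A.inv_mem hwA)
    have h1 : (x * w⁻¹) * (x * w⁻¹) = 1 := by
      calc (x * w⁻¹) * (x * w⁻¹) = x * (w⁻¹ * x) * w⁻¹ := by group
        _ = x * (x * w⁻¹) * w⁻¹ := by rw [hc]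
        _ = (x * x) * (w * w)⁻¹ := by group
        _ = 1 := by rw [hxx, hww, mul_inv_cancel]
    rcases huniq _ (A.mul_mem hx (A.inv_mem hwA)) h1 with h | h
    · left
      have := congrArg (fun y => y * w) h
      simpa using this
    · right
      have h3 : x = w * w * w := by
        have := congrArg (fun y => y * w) h
        simp only [inv_mul_cancel_right] at this
        rw [this, hww]
      rw [h3, eq_inv_iff_mul_eq_one, mul_assoc (w * w) w w]
      exact hn2
  have hwz : w ≠ w⁻¹ := by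
    intro h
    have : w * w = 1 := by
      calc w * w = w * w⁻¹ := by rw [← h]
        _ = 1 := mul_inv_cancel w
    exact hn1 this
  have hconjw : ∀ e : S, e * w * e⁻¹ = w ∨ e * w * e⁻¹ = w⁻¹ := by
    intro e
    apply hsqz _ (hAn.conj_mem w hwA e)
    calc (e * w * e⁻¹) * (e * w * e⁻¹) = e * (w * w) * e⁻¹ := by group
      _ = z := by rw [hww, hzcomm e, mul_inv_cancel_right]
  obtain ⟨e, heE, heA, hew⟩ : ∃ e ∈ E, e ∉ A ∧ e * w = w * e := by
    by_contra hcon
    push Not at hcon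
    have hinv : ∀ e ∈ E, e ∉ A → e * w * e⁻¹ = w⁻¹ := by
      intro e he heA
      rcases hconjw e with h | h
      · exfalso
        apply hcon e he heA
        calc e * w = e * w * e⁻¹ * e := by group
          _ = w * e := by rw [h]
      · exact h
    obtain ⟨e₁, he₁, he₁A⟩ : ∃ e₁ ∈ E, e₁ ∉ A := by
      by_contra hc
      push Not at hc
      exact hEz (fun e he => hEA e he (hc e he))
    have hprod : ∀ e ∈ E, e ∉ A → e₁ * e ∈ A := by
      intro e he heA
      by_contra hnA
      have h1 := hinv (e₁ * e) (E.mul_mem he₁ he) hnA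
      have h2 : e₁ * e * w * (e₁ * e)⁻¹ = w := by
        calc e₁ * e * w * (e₁ * e)⁻¹ = e₁ * (e * w * e⁻¹) * e₁⁻¹ := by group
          _ = e₁ * w⁻¹ * e₁⁻¹ := by rw [hinv e he heA]
          _ = (e₁ * w * e₁⁻¹)⁻¹ := by group
          _ = w := by rw [hinv e₁ he₁ he₁A, inv_inv]
      exact hwz (h2.symm.trans h1)
    have he₁' : e₁⁻¹ = e₁ := by
      rw [inv_eq_iff_mul_eq_one]; exact hE2 e₁ he₁
    have hcard : Nat.card E ≤ 4 := by
      apply card_le_four_of_subset E 1 z e₁ (e₁ * z)
      intro e he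
      by_cases heA : e ∈ A
      · rcases huniq e heA (hE2 e he) with h | h
        · exact Or.inl h
        · exact Or.inr (Or.inl h)
      · have h1 := hprod e he heA
        have h2 : (e₁ * e) * (e₁ * e) = 1 := hE2 _ (E.mul_mem he₁ he)
        rcases huniq _ h1 h2 with h | h
        · right; right; left
          rw [eq_inv_of_mul_eq_one_right h, he₁']
        · right; right; right
          rw [eq_inv_mul_of_mul_eq h, he₁']
    omega
  have hee : e * e = 1 := hE2 e heE
  have heinv : e⁻¹ = e := by rw [inv_eq_iff_mul_eq_one]; exact hee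
  refine ⟨e, hee, ?_, ?_, ?_⟩
  · rintro rfl; exact heA A.one_mem
  · rintro rfl; exact heA hzA
  · intro s
    have hcA : s * e * s⁻¹ * e⁻¹ ∈ A := hcommA s e
    have hcinv : e * (s * e * s⁻¹ * e⁻¹) * e⁻¹ = (s * e * s⁻¹ * e⁻¹)⁻¹ := by
      have : e * (s * e * s⁻¹ * e⁻¹) * e⁻¹ * (s * e * s⁻¹ * e⁻¹) = 1 := by
        calc e * (s * e * s⁻¹ * e⁻¹) * e⁻¹ * (s * e * s⁻¹ * e⁻¹)
            = e * s * e * s⁻¹ * (e⁻¹ * e⁻¹) * s * e * s⁻¹ * e⁻¹ := by group
          _ = e * s * e * s⁻¹ * 1 * s * e * s⁻¹ * e⁻¹ := by rw [heinv, hee]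
          _ = e * s * (e * e) * s⁻¹ * e⁻¹ := by group
          _ = 1 := by rw [hee]; group
      exact eq_inv_of_mul_eq_one_left this
    have hce : s * e * s⁻¹ = (s * e * s⁻¹ * e⁻¹) * e := by group
    generalize s * e * s⁻¹ * e⁻¹ = c at hcA hcinv hce
    have hc1 : c * c = 1 := by
      by_contra hcc
      obtain ⟨m, hm1, hm2⟩ := pow_to_involution hS c hcc
      have hyA : c ^ m ∈ A := A.pow_mem hcA m
      have hyz : c ^ m * c ^ m = z := by
        rcases huniq _ (A.mul_mem hyA hyA) hm2 with h | h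
        · exact absurd h hm1
        · exact h
      have hy_inv : e * c ^ m * e⁻¹ = (c ^ m)⁻¹ := by
        rw [← conj_pow, hcinv, inv_pow]
      have hy_comm : e * c ^ m * e⁻¹ = c ^ m := by
        rcases hsqz _ hyA hyz with h | h
        · rw [h, hew, mul_inv_cancel_right]
        · rw [h]
          have : e * w⁻¹ = w⁻¹ * e := by
            calc e * w⁻¹ = w⁻¹ * (w * e) * w⁻¹ := by group
              _ = w⁻¹ * (e * w) * w⁻¹ := by rw [hew]
              _ = w⁻¹ * e := by group
          rw [this, mul_inv_cancel_right]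
      apply hm1
      have : c ^ m = (c ^ m)⁻¹ := hy_comm.symm.trans hy_inv
      calc c ^ m * c ^ m = c ^ m * (c ^ m)⁻¹ := by rw [← this]
        _ = 1 := mul_inv_cancel _
    rcases huniq c hcA hc1 with h | h
    · left
      rw [hce, h, one_mul]
    · right
      rw [hce, h]
      exact (hzcomm e).symm


/-- The subgroup of elements of square `1` in a commutative subgroup. -/
def omegaOne {S : Type*} [Group S] (A : Subgroup S)
    (hAab : ∀ a ∈ A, ∀ b ∈ A, a * b = b * a) : Subgroup S where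
  carrier := {a | a ∈ A ∧ a * a = 1}
  mul_mem' := by
    rintro a b ⟨ha, haa⟩ ⟨hb, hbb⟩
    refine ⟨A.mul_mem ha hb, ?_⟩
    calc a * b * (a * b) = a * (b * a) * b := by group
      _ = a * (a * b) * b := by rw [hAab b hb a ha]
      _ = (a * a) * (b * b) := by group
      _ = 1 := by rw [haa, hbb, one_mul]
  one_mem' := ⟨A.one_mem, one_mul 1⟩
  inv_mem' := by
    rintro a ⟨ha, haa⟩
    refine ⟨A.inv_mem ha, ?_⟩
    rw [← mul_inv_rev, haa, inv_one]

theorem mem_omegaOne {S : Type*} [Group S] (A : Subgroup S)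
    (hAab : ∀ a ∈ A, ∀ b ∈ A, a * b = b * a) (a : S) :
    a ∈ omegaOne A hAab ↔ a ∈ A ∧ a * a = 1 := Iff.rfl

theorem omegaOne_normal {S : Type*} [Group S] (A : Subgroup S) [hAn : A.Normal]
    (hAab : ∀ a ∈ A, ∀ b ∈ A, a * b = b * a) : (omegaOne A hAab).Normal := by
  constructor
  intro a ha s
  rw [mem_omegaOne] at ha ⊢
  refine ⟨hAn.conj_mem a ha.1 s, ?_⟩
  calc s * a * s⁻¹ * (s * a * s⁻¹) = s * (a * a) * s⁻¹ := by group
    _ = 1 := by rw [ha.2]; group

/-- A finite `2`-group of `2`-rank at least `3` has a central involution `z` and a further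
involution `u` all of whose conjugates lie in `{u, u * z}`. -/
theorem exists_pair {S : Type*} [Group S] [Finite S] (hS : IsPGroup 2 S)
    (E : Subgroup S) (hE8 : Nat.card E = 8) (hE2 : ∀ e ∈ E, e * e = 1) :
    ∃ z u : S, z ∈ Subgroup.center S ∧ z ≠ 1 ∧ z * z = 1 ∧ u * u = 1 ∧ u ≠ 1 ∧ u ≠ z ∧
      ∀ s : S, s * u * s⁻¹ = u ∨ s * u * s⁻¹ = u * z := by
  classical
  have h2 : Fact (Nat.Prime 2) := ⟨Nat.prime_two⟩
  have hne : Nonempty {B : Subgroup S // B.Normal ∧ ∀ a ∈ B, ∀ b ∈ B, a * b = b * a} := by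
    refine ⟨⟨⊥, Subgroup.normal_bot, ?_⟩⟩
    intro a ha b hb
    rw [Subgroup.mem_bot] at ha hb
    rw [ha, hb]
  obtain ⟨⟨A, hAn, hAab⟩, hA⟩ := Finite.exists_max
    (fun B : {B : Subgroup S // B.Normal ∧ ∀ a ∈ B, ∀ b ∈ B, a * b = b * a} =>
      Nat.card (B : Subgroup S))
  have hmax : ∀ B : Subgroup S, B.Normal → (∀ a ∈ B, ∀ b ∈ B, a * b = b * a) → A ≤ B →
      B = A := by
    intro B hBn hBab hle
    have h1 := hA ⟨B, hBn, hBab⟩
    simp only at h1
    exact (Subgroup.eq_of_le_of_card_ge hle h1).symm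
  have hcent := centralizer_le_of_max_normal_abelian hS A hAab hmax
  have hAbot : A ≠ ⊥ := by
    intro hbot
    have hall : ∀ s : S, s = 1 := by
      intro s
      have h1 : s ∈ Subgroup.centralizer (A : Set S) := by
        rw [Subgroup.mem_centralizer_iff]
        intro a ha
        have ha' : a ∈ A := ha
        rw [hbot, Subgroup.mem_bot] at ha'
        rw [ha', one_mul, mul_one]
      have h2 := hcent h1
      rwa [hbot, Subgroup.mem_bot] at h2
    have hEbot : E = ⊥ := by
      rw [Subgroup.eq_bot_iff_forall]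
      intro e _
      exact hall e
    subst hEbot
    rw [Subgroup.card_bot] at hE8
    omega
  -- V = Ω₁(A)
  have hVn : (omegaOne A hAab).Normal := omegaOne_normal A hAab
  have hVbot : omegaOne A hAab ≠ ⊥ := by
    intro hbot
    obtain ⟨a, haA, ha1⟩ := (Subgroup.ne_bot_iff_exists_ne_one (H := A)).1 hAbot |>.imp
      (fun a h => h) |> fun ⟨a, h⟩ => (⟨(a : S), a.2, fun h' => h (Subtype.ext h')⟩ :
        ∃ a : S, a ∈ A ∧ a ≠ 1)
    obtain ⟨n, hn1, hn2⟩ := exists_pow_involution hS a ha1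
    have : a ^ n ∈ omegaOne A hAab := (mem_omegaOne A hAab _).2 ⟨A.pow_mem haA n, hn2⟩
    rw [hbot, Subgroup.mem_bot] at this
    exact hn1 this
  obtain ⟨z, hzV, hz1, hzc⟩ := exists_central_of_normal hS (omegaOne A hAab) hVbot
  have hzA : z ∈ A := ((mem_omegaOne A hAab z).1 hzV).1
  have hzz : z * z = 1 := ((mem_omegaOne A hAab z).1 hzV).2
  by_cases hv : ∃ v ∈ omegaOne A hAab, v ≠ 1 ∧ v ≠ z
  · obtain ⟨u, huV, hu1, huz, hu⟩ := exists_almost_central hS (omegaOne A hAab) hzc hzz hv
    exact ⟨z, u, hzc, hz1, hzz, ((mem_omegaOne A hAab u).1 huV).2, hu1, huz, hu⟩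
  · push Not at hv
    have huniq : ∀ a ∈ A, a * a = 1 → a = 1 ∨ a = z := by
      intro a ha haa
      by_cases h1 : a = 1
      · exact Or.inl h1
      · exact Or.inr (hv a ((mem_omegaOne A hAab a).2 ⟨ha, haa⟩) h1)
    obtain ⟨g, hgA, hgen⟩ := exists_generator_of_unique_involution hS A hAab huniq
    obtain ⟨u, huu, hu1, huz, hu⟩ := exists_almost_central_cyclic hS A hcent hgA hgen hzA hzc
      hz1 hzz huniq E hE8 hE2
    exact ⟨z, u, hzc, hz1, hzz, huu, hu1, huz, hu⟩

/-- The closure of a set of pairwise commuting elements of square `1` has exponent `2`. -/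
theorem closure_sq_eq_one {G : Type*} [Group G] (X : Set G) (hX2 : ∀ a ∈ X, a * a = 1)
    (hXc : ∀ a ∈ X, ∀ b ∈ X, a * b = b * a) : ∀ t ∈ Subgroup.closure X, t * t = 1 := by
  have h1 : Subgroup.closure X ≤ Subgroup.centralizer X := by
    rw [Subgroup.closure_le]
    intro a ha
    rw [SetLike.mem_coe, Subgroup.mem_centralizer_iff]
    intro b hb
    exact hXc b hb a ha
  have h2 : Subgroup.closure X ≤ Subgroup.centralizer (Subgroup.closure X : Set G) := by
    rw [Subgroup.closure_le]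
    intro a ha
    rw [SetLike.mem_coe, Subgroup.mem_centralizer_iff]
    intro t ht
    have := h1 ht
    rw [Subgroup.mem_centralizer_iff] at this
    exact (this a ha).symm
  have hab : ∀ a ∈ Subgroup.closure X, ∀ b ∈ Subgroup.closure X, a * b = b * a := by
    intro a ha b hb
    have := h2 hb
    rw [Subgroup.mem_centralizer_iff] at this
    exact this a ha
  have h3 : Subgroup.closure X ≤ omegaOne (Subgroup.closure X) hab := by
    rw [Subgroup.closure_le]
    intro a ha
    exact (mem_omegaOne _ hab a).2 ⟨Subgroup.subset_closure ha, hX2 a ha⟩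
  intro t ht
  exact ((mem_omegaOne _ hab t).1 (h3 ht)).2

/-- A finite subgroup of exponent `2` with at least `5` elements contains a subgroup of
order `8`. -/
theorem exists_E8_of_five {G : Type*} [Group G] [Finite G] (T : Subgroup G)
    (hT2 : ∀ t ∈ T, t * t = 1) (h5 : 5 ≤ Nat.card T) :
    ∃ K : Subgroup G, K ≤ T ∧ Nat.card K = 8 ∧ ∀ e ∈ K, e * e = 1 := by
  have h2 : Fact (Nat.Prime 2) := ⟨Nat.prime_two⟩
  have hTp : IsPGroup 2 T := by
    intro t
    refine ⟨1, ?_⟩
    rw [pow_one, pow_two]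
    exact Subtype.ext (hT2 t.1 t.2)
  obtain ⟨n, hn⟩ := IsPGroup.iff_card.1 hTp
  have hn3 : 3 ≤ n := by
    by_contra h
    have hle : n ≤ 2 := by omega
    have : 2 ^ n ≤ 2 ^ 2 := Nat.pow_le_pow_right (by norm_num) hle
    omega
  have hdvd : 2 ^ 3 ∣ Nat.card T := by
    rw [hn]; exact pow_dvd_pow 2 hn3
  obtain ⟨K, hK⟩ := Sylow.exists_subgroup_card_pow_prime 2 hdvd
  refine ⟨K.map T.subtype, Subgroup.map_subtype_le K, ?_, ?_⟩
  · rw [Subgroup.card_map_of_injective T.subtype_injective, hK]; norm_num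
  · intro e he
    obtain ⟨k, _, rfl⟩ := Subgroup.mem_map.1 he
    exact hT2 _ k.2

/-- Five distinct elements in a subgroup. -/
theorem five_le_card {G : Type*} [Group G] [Finite G] (T : Subgroup G) {a b c d : G}
    (ha : a ∈ T) (hb : b ∈ T) (hc : c ∈ T) (hd : d ∈ T)
    (h1a : a ≠ 1) (h1b : b ≠ 1) (h1c : c ≠ 1) (h1d : d ≠ 1) (hab : a ≠ b) (hac : a ≠ c)
    (had : a ≠ d) (hbc : b ≠ c) (hbd : b ≠ d) (hcd : c ≠ d) : 5 ≤ Nat.card T := by
  classical
  have hs : ({1, a, b, c, d} : Finset G).card = 5 := by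
    rw [Finset.card_insert_of_notMem, Finset.card_insert_of_notMem,
      Finset.card_insert_of_notMem, Finset.card_insert_of_notMem, Finset.card_singleton]
    · simpa using hcd
    · simp only [Finset.mem_insert, Finset.mem_singleton, not_or]
      exact ⟨hbc, hbd⟩
    · simp only [Finset.mem_insert, Finset.mem_singleton, not_or]
      exact ⟨hab, hac, had⟩
    · simp only [Finset.mem_insert, Finset.mem_singleton, not_or]
      exact ⟨h1a.symm, h1b.symm, h1c.symm, h1d.symm⟩
  have hsub : ∀ x ∈ ({1, a, b, c, d} : Finset G), x ∈ T := by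
    intro x hx
    simp only [Finset.mem_insert, Finset.mem_singleton] at hx
    rcases hx with rfl | rfl | rfl | rfl | rfl
    · exact T.one_mem
    · exact ha
    · exact hb
    · exact hc
    · exact hd
  have hinj : Function.Injective
      (fun x : ({1, a, b, c, d} : Finset G) => (⟨x.1, hsub x.1 x.2⟩ : T)) := by
    intro x y hxy
    have := congrArg (fun t : T => (t : G)) hxy
    exact Subtype.ext this
  have h1 := Nat.card_le_card_of_injective _ hinj
  rw [Nat.card_eq_fintype_card, Fintype.card_coe, hs] at h1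
  exact h1

/-- Three independent commuting involutions inside a subgroup `C` give an elementary abelian
subgroup of order `8` inside `C`. -/
theorem exists_E8_of_three {G : Type*} [Group G] [Finite G] (C : Subgroup G) {z u e : G}
    (hzC : z ∈ C) (huC : u ∈ C) (heC : e ∈ C)
    (hzz : z * z = 1) (huu : u * u = 1) (hee : e * e = 1)
    (hzu : z * u = u * z) (hze : z * e = e * z) (hue : u * e = e * u)
    (hz1 : z ≠ 1) (hu1 : u ≠ 1) (huz : u ≠ z) (he1 : e ≠ 1) (hez : e ≠ z) (heu : e ≠ u)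
    (heuz : e ≠ u * z) :
    ∃ K : Subgroup G, K ≤ C ∧ Nat.card K = 8 ∧ ∀ k ∈ K, k * k = 1 := by
  have hX2 : ∀ a ∈ ({z, u, e} : Set G), a * a = 1 := by
    intro a ha
    simp only [Set.mem_insert_iff, Set.mem_singleton_iff] at ha
    rcases ha with rfl | rfl | rfl
    · exact hzz
    · exact huu
    · exact hee
  have hXc : ∀ a ∈ ({z, u, e} : Set G), ∀ b ∈ ({z, u, e} : Set G), a * b = b * a := by
    intro a ha b hb
    simp only [Set.mem_insert_iff, Set.mem_singleton_iff] at ha hb
    rcases ha with rfl | rfl | rfl <;> rcases hb with rfl | rfl | rfl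
    · rfl
    · exact hzu
    · exact hze
    · exact hzu.symm
    · rfl
    · exact hue
    · exact hze.symm
    · exact hue.symm
    · rfl
  have hT2 := closure_sq_eq_one _ hX2 hXc
  have hzT : z ∈ Subgroup.closure ({z, u, e} : Set G) :=
    Subgroup.subset_closure (by simp)
  have huT : u ∈ Subgroup.closure ({z, u, e} : Set G) :=
    Subgroup.subset_closure (by simp)
  have heT : e ∈ Subgroup.closure ({z, u, e} : Set G) :=
    Subgroup.subset_closure (by simp)
  have huz1 : u * z ≠ 1 := by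
    intro h
    apply huz
    have h1 : u = z⁻¹ := eq_inv_of_mul_eq_one_left h
    rw [h1, inv_eq_iff_mul_eq_one]
    exact hzz
  have h5 : 5 ≤ Nat.card (Subgroup.closure ({z, u, e} : Set G)) := by
    apply five_le_card _ hzT huT (Subgroup.mul_mem _ huT hzT) heT hz1 hu1 huz1 he1
      (Ne.symm huz)
    · intro h
      apply hu1
      have := congrArg (fun y => y * z⁻¹) h
      simpa using this.symm
    · exact Ne.symm hez
    · intro h
      apply hz1
      have := congrArg (fun y => u⁻¹ * y) h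
      simpa using this.symm
    · exact Ne.symm heu
    · exact Ne.symm heuz
  obtain ⟨K, hKT, hK8, hK2⟩ := exists_E8_of_five _ hT2 h5
  refine ⟨K, hKT.trans ?_, hK8, hK2⟩
  rw [Subgroup.closure_le]
  intro a ha
  simp only [Set.mem_insert_iff, Set.mem_singleton_iff] at ha
  rcases ha with rfl | rfl | rfl
  · exact hzC
  · exact huC
  · exact heC


/-- Conjugating an elementary abelian subgroup back. -/
theorem conj_back {G : Type*} [Group G] [Finite G] (c x : G) (K : Subgroup G)
    (hK : K ≤ Subgroup.centralizer ({c * x * c⁻¹} : Set G)) (hK8 : Nat.card K = 8)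
    (hK2 : ∀ k ∈ K, k * k = 1) :
    ∃ K' : Subgroup G, K' ≤ Subgroup.centralizer ({x} : Set G) ∧ Nat.card K' = 8 ∧
      ∀ k ∈ K', k * k = 1 := by
  refine ⟨K.map (MulAut.conj c⁻¹).toMonoidHom, ?_, ?_, ?_⟩
  · intro k hk
    obtain ⟨k₀, hk₀, rfl⟩ := Subgroup.mem_map.1 hk
    have h1 := hK hk₀
    rw [Subgroup.mem_centralizer_iff] at h1 ⊢
    intro y hy
    rw [Set.mem_singleton_iff] at hy
    subst hy
    have h2 := h1 (c * y * c⁻¹) rfl
    simp only [MulEquiv.coe_toMonoidHom, MulAut.conj_apply, inv_inv]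
    calc y * (c⁻¹ * k₀ * c) = c⁻¹ * ((c * y * c⁻¹) * k₀) * c := by group
      _ = c⁻¹ * (k₀ * (c * y * c⁻¹)) * c := by rw [h2]
      _ = c⁻¹ * k₀ * c * y := by group
  · rw [Subgroup.card_map_of_injective (MulEquiv.injective _), hK8]
  · intro k hk
    obtain ⟨k₀, hk₀, rfl⟩ := Subgroup.mem_map.1 hk
    rw [← map_mul, hK2 k₀ hk₀, map_one]

/-- The main step: inside a Sylow `2`-subgroup `Q` of `2`-rank at least `3` of a group
without subgroups of index `2`, some conjugate of a given involution of `Q` centralizes an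
elementary abelian subgroup of order `8`.  The Thompson transfer lemma is passed as a
hypothesis. -/
theorem two_rank_three_sylow {G : Type*} [Group G] [Finite G]
    (hno : ∀ H : Subgroup G, H.index ≠ 2) (Q : Sylow 2 G) (E₀ : Subgroup G)
    (hE₀Q : E₀ ≤ (Q : Subgroup G)) (hE₀8 : Nat.card E₀ = 8) (hE₀2 : ∀ e ∈ E₀, e * e = 1)
    (x : G) (hx : orderOf x = 2) (hxQ : x ∈ (Q : Subgroup G))
    (transfer : ∀ (M : Subgroup G), M ≤ (Q : Subgroup G) → M.relIndex (Q : Subgroup G) = 2 →
      x ∉ M → (∃ N : Subgroup G, N.Normal ∧ N.index = 2 ∧ x ∉ N) ∨ ∃ g : G, g * x * g⁻¹ ∈ M) :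
    ∃ c : G, ∃ K : Subgroup G, K ≤ Subgroup.centralizer ({c * x * c⁻¹} : Set G) ∧
      Nat.card K = 8 ∧ ∀ k ∈ K, k * k = 1 := by
  classical
  have h2 : Fact (Nat.Prime 2) := ⟨Nat.prime_two⟩
  have hS : IsPGroup 2 (Q : Subgroup G) := Q.isPGroup'
  have hE8' : Nat.card (E₀.subgroupOf (Q : Subgroup G)) = 8 := by
    rw [Nat.card_congr (Subgroup.subgroupOfEquivOfLe hE₀Q).toEquiv, hE₀8]
  have hE2' : ∀ e ∈ E₀.subgroupOf (Q : Subgroup G), e * e = 1 := by
    intro e he
    rw [Subgroup.mem_subgroupOf] at he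
    exact Subtype.ext (hE₀2 _ he)
  obtain ⟨z, u, hzQ, huQ, hz1, hzz, huu, hu1, huz, hzc, hconj⟩ : ∃ z u : G,
      z ∈ (Q : Subgroup G) ∧ u ∈ (Q : Subgroup G) ∧ z ≠ 1 ∧ z * z = 1 ∧ u * u = 1 ∧ u ≠ 1 ∧
      u ≠ z ∧ (∀ q ∈ (Q : Subgroup G), q * z = z * q) ∧
      (∀ q ∈ (Q : Subgroup G), q * u * q⁻¹ = u ∨ q * u * q⁻¹ = u * z) := by
    obtain ⟨z₀, u₀, hz₀c, hz₀1, hz₀z, hu₀u, hu₀1, hu₀z, hu₀⟩ := exists_pair hS _ hE8' hE2'
    refine ⟨(z₀ : G), (u₀ : G), z₀.2, u₀.2, fun h => hz₀1 (Subtype.ext h),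
      congrArg Subtype.val hz₀z, congrArg Subtype.val hu₀u, fun h => hu₀1 (Subtype.ext h),
      fun h => hu₀z (Subtype.ext h), ?_, ?_⟩
    · intro q hq
      exact congrArg Subtype.val (Subgroup.mem_center_iff.1 hz₀c ⟨q, hq⟩)
    · intro q hq
      rcases hu₀ ⟨q, hq⟩ with h | h
      · left; exact congrArg Subtype.val h
      · right; exact congrArg Subtype.val h
  have hzu : z * u = u * z := (hzc u huQ).symm
  obtain ⟨M, hMmem⟩ : ∃ M : Subgroup G, ∀ q : G, q ∈ M ↔ q ∈ (Q : Subgroup G) ∧ q * u = u * q := by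
    refine ⟨(Q : Subgroup G) ⊓ Subgroup.centralizer ({u} : Set G), ?_⟩
    intro q
    rw [Subgroup.mem_inf, Subgroup.mem_centralizer_iff]
    constructor
    · rintro ⟨h1, h2⟩
      exact ⟨h1, (h2 u rfl).symm⟩
    · rintro ⟨h1, h2⟩
      refine ⟨h1, ?_⟩
      intro y hy
      rw [Set.mem_singleton_iff] at hy
      rw [hy, h2]
  have hMQ : M ≤ (Q : Subgroup G) := fun m hm => ((hMmem m).1 hm).1
  have hnotM : ∀ q ∈ (Q : Subgroup G), q ∉ M → q * u * q⁻¹ = u * z := by
    intro q hq hqM
    rcases hconj q hq with h | h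
    · exfalso
      apply hqM
      rw [hMmem]
      refine ⟨hq, ?_⟩
      calc q * u = q * u * q⁻¹ * q := by group
        _ = u * q := by rw [h]
    · exact h
  have hM_of : ∀ q ∈ (Q : Subgroup G), q * u * q⁻¹ = u → q ∈ M := by
    intro q hq h
    rw [hMmem]
    refine ⟨hq, ?_⟩
    calc q * u = q * u * q⁻¹ * q := by group
      _ = u * q := by rw [h]
  have hprod : ∀ a ∈ (Q : Subgroup G), ∀ b ∈ (Q : Subgroup G), a ∉ M → b ∉ M →
      b * a ∈ M := by
    intro a ha b hb haM hbM
    apply hM_of _ (Subgroup.mul_mem _ hb ha)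
    calc b * a * u * (b * a)⁻¹ = b * (a * u * a⁻¹) * b⁻¹ := by group
      _ = b * (u * z) * b⁻¹ := by rw [hnotM a ha haM]
      _ = (b * u * b⁻¹) * (b * z) * b⁻¹ := by group
      _ = (u * z) * (z * b) * b⁻¹ := by rw [hnotM b hb hbM, hzc b hb]
      _ = u * (z * z) := by group
      _ = u := by rw [hzz, mul_one]
  have hrel : ∀ q₀ ∈ (Q : Subgroup G), q₀ ∉ M → M.relIndex (Q : Subgroup G) = 2 := by
    intro q₀ hq₀ hq₀M
    rw [Subgroup.relIndex_eq_two_iff]
    refine ⟨q₀, hq₀, ?_⟩
    intro b hb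
    by_cases hbM : b ∈ M
    · right
      refine ⟨hbM, ?_⟩
      intro h
      apply hq₀M
      have := M.mul_mem (M.inv_mem hbM) h
      simpa using this
    · left
      exact ⟨hprod q₀ hq₀ b hb hq₀M hbM, hbM⟩
  obtain ⟨c, hcM⟩ : ∃ c : G, c * x * c⁻¹ ∈ M := by
    by_cases hxM : x ∈ M
    · exact ⟨1, by simpa using hxM⟩
    · rcases transfer M hMQ (hrel x hxQ hxM) hxM with ⟨N, hN, hN2, _⟩ | h
      · exact absurd hN2 (hno N)
      · exact h
  refine ⟨c, ?_⟩
  have hyy : (c * x * c⁻¹) * (c * x * c⁻¹) = 1 := by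
    have : x * x = 1 := by rw [← pow_two, ← hx]; exact pow_orderOf_eq_one x
    calc (c * x * c⁻¹) * (c * x * c⁻¹) = c * (x * x) * c⁻¹ := by group
      _ = 1 := by rw [this]; group
  have hy1 : c * x * c⁻¹ ≠ 1 := by
    intro h
    have : x = 1 := by
      calc x = c⁻¹ * (c * x * c⁻¹) * c := by group
        _ = 1 := by rw [h]; group
    rw [this, orderOf_one] at hx
    omega
  generalize c * x * c⁻¹ = y at hcM hyy hy1 ⊢
  obtain ⟨hyQ, hyu⟩ := (hMmem y).1 hcM
  have hzy : z * y = y * z := (hzc y hyQ).symm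
  have hzM : z ∈ M := (hMmem z).2 ⟨hzQ, hzu⟩
  have huM : u ∈ M := (hMmem u).2 ⟨huQ, rfl⟩
  by_cases hcase : y ≠ z ∧ y ≠ u ∧ y ≠ u * z
  · obtain ⟨hyz, hyu', hyuz⟩ := hcase
    apply exists_E8_of_three (Subgroup.centralizer ({y} : Set G)) (z := z) (u := u) (e := y)
      ?_ ?_ ?_ hzz huu hyy hzu hzy hyu.symm hz1 hu1 huz hy1 hyz hyu' hyuz
    · rw [Subgroup.mem_centralizer_iff]
      intro t ht
      rw [Set.mem_singleton_iff] at ht
      rw [ht]; exact hzy.symm
    · rw [Subgroup.mem_centralizer_iff]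
      intro t ht
      rw [Set.mem_singleton_iff] at ht
      rw [ht]; exact hyu
    · rw [Subgroup.mem_centralizer_iff]
      intro t ht
      rw [Set.mem_singleton_iff] at ht
      rw [ht]
  · have hMy : M ≤ Subgroup.centralizer ({y} : Set G) := by
      intro m hm
      obtain ⟨hmQ, hmu⟩ := (hMmem m).1 hm
      have hmz := hzc m hmQ
      rw [Subgroup.mem_centralizer_iff]
      intro t ht
      rw [Set.mem_singleton_iff] at ht
      rw [ht]
      by_cases h1 : y = z
      · rw [h1]; exact hmz.symm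
      · by_cases h2 : y = u
        · rw [h2]; exact hmu.symm
        · have h3 : y = u * z := by
            by_contra h3
            exact hcase ⟨h1, h2, h3⟩
          rw [h3]
          calc u * z * m = u * (z * m) := by group
            _ = u * (m * z) := by rw [hmz]
            _ = (u * m) * z := by group
            _ = (m * u) * z := by rw [hmu]
            _ = m * (u * z) := by group
    by_cases hEM : E₀ ≤ M
    · exact ⟨E₀, hEM.trans hMy, hE₀8, hE₀2⟩
    · obtain ⟨e₀, he₀E, he₀M⟩ := SetLike.not_le_iff_exists.1 hEM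
      have he₀Q := hE₀Q he₀E
      have hEab : ∀ a ∈ E₀, ∀ b ∈ E₀, a * b = b * a := by
        intro a ha b hb
        have h1 := hE₀2 (a * b) (E₀.mul_mem ha hb)
        have h2 := hE₀2 a ha
        have h3 := hE₀2 b hb
        symm
        calc b * a = a * a * (b * a) * (b * b) := by rw [h2, h3, one_mul, mul_one]
          _ = a * ((a * b) * (a * b)) * b := by group
          _ = a * b := by rw [h1, mul_one]
      have he₀e₀ := hE₀2 e₀ he₀E
      have he₀inv : e₀⁻¹ = e₀ := by rw [inv_eq_iff_mul_eq_one]; exact he₀e₀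
      have hu_not : u ∉ E₀ := by
        intro hu
        apply he₀M
        rw [hMmem]
        exact ⟨he₀Q, hEab e₀ he₀E u hu⟩
      have huz_not : u * z ∉ E₀ := by
        intro huzE
        apply he₀M
        rw [hMmem]
        refine ⟨he₀Q, ?_⟩
        have h1 := hEab e₀ he₀E (u * z) huzE
        have h2 := hzc e₀ he₀Q
        calc e₀ * u = e₀ * (u * z) * z := by rw [mul_assoc e₀, mul_assoc u, hzz, mul_one]
          _ = u * z * e₀ * z := by rw [h1]
          _ = u * z * (e₀ * z) := by group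
          _ = u * z * (z * e₀) := by rw [h2]
          _ = u * (z * z) * e₀ := by group
          _ = u * e₀ := by rw [hzz, mul_one]
      obtain ⟨e, heE, heM, he1, hez, heu, heuz⟩ :
          ∃ e ∈ E₀, e ∈ M ∧ e ≠ 1 ∧ e ≠ z ∧ e ≠ u ∧ e ≠ u * z := by
        by_contra hcon
        push Not at hcon
        have hEM' : ∀ e ∈ E₀, e ∈ M → e = 1 ∨ e = z := by
          intro e he heM
          by_contra h
          push Not at h
          have hne_u : e ≠ u := fun h' => hu_not (h' ▸ he)
          have := hcon e he heM h.1 h.2 hne_u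
          exact huz_not (this ▸ he)
        have hcard : Nat.card E₀ ≤ 4 := by
          apply card_le_four_of_subset E₀ 1 z e₀ (z * e₀)
          intro b hb
          by_cases hbM : b ∈ M
          · rcases hEM' b hb hbM with h | h
            · exact Or.inl h
            · exact Or.inr (Or.inl h)
          · have h1 := hprod e₀ he₀Q b (hE₀Q hb) he₀M hbM
            rcases hEM' _ (E₀.mul_mem hb he₀E) h1 with h | h
            · right; right; left
              rw [eq_inv_of_mul_eq_one_left h, he₀inv]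
            · right; right; right
              rw [eq_mul_inv_of_mul_eq h, he₀inv]
        omega
      have hee := hE₀2 e heE
      have hze : z * e = e * z := (hzc e ((hMmem e).1 heM).1).symm
      have hue : u * e = e * u := ((hMmem e).1 heM).2.symm
      obtain ⟨K, hKM, hK8, hK2⟩ := exists_E8_of_three M hzM huM heM hzz huu hee hzu hze hue
        hz1 hu1 huz he1 hez heu heuz
      exact ⟨K, hKM.trans hMy, hK8, hK2⟩

end Cfsg.Agent.Lib.Helper4
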