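import Mathlib
import Cfsg.Prelude.Def_LieExceptional
import Cfsg.Prelude.Def_OddOrderLocal
import Cfsg.Agent.S1477

/-!
# Basic facts on CN-groups and maximal nilpotent subgroups

Subgroups of a finite group `G` whose centralizers of non-identity elements are nilpotent.
-/

set_option autoImplicit false
set_option linter.style.haveILetI false

namespace Cfsg.Agent.Lib.Helper4.CN

open Cfsg

variable {G : Type*} [Group G]

/-- A subgroup of a nilpotent subgroup is nilpotent. -/
theorem nilpotent_of_le {H K : Subgroup G} (hK : Group.IsNilpotent K) (h : H ≤ K) :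
    Group.IsNilpotent H := by
  haveI := hK
  exact Group.nilpotent_of_mulEquiv (Subgroup.subgroupOfEquivOfLe h)

/-- The image of a nilpotent subgroup is nilpotent. -/
theorem nilpotent_map {G' : Type*} [Group G'] {K : Subgroup G} (hK : Group.IsNilpotent K)
    (f : G →* G') : Group.IsNilpotent (K.map f) := by
  haveI := hK
  exact Group.nilpotent_of_surjective (f.subgroupMap K) (f.subgroupMap_surjective K)

/-- Nilpotency of a subgroup of a subgroup, seen in the big group. -/
theorem nilpotent_map_subtype_iff {L : Subgroup G} (K : Subgroup L) :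
    Group.IsNilpotent (K.map L.subtype) ↔ Group.IsNilpotent K := by
  constructor
  · intro h
    haveI := h
    exact Group.nilpotent_of_mulEquiv (K.equivMapOfInjective L.subtype L.subtype_injective).symm
  · intro h
    exact nilpotent_map h _

/-- A subgroup of a CN-group is a CN-group. -/
theorem isCN_subgroup (hCN : IsCNGroup G) (L : Subgroup G) : IsCNGroup L := by
  intro g hg
  have hg' : (g : G) ≠ 1 := fun h => hg (Subtype.ext h)
  rw [← nilpotent_map_subtype_iff]
  refine nilpotent_of_le (hCN _ hg') ?_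
  rintro _ ⟨c, hc, rfl⟩
  rw [SetLike.mem_coe, Subgroup.mem_centralizer_singleton_iff] at hc
  rw [Subgroup.mem_centralizer_singleton_iff]
  exact congrArg Subtype.val hc

/-- `H` is a maximal nilpotent subgroup of `G`. -/
def IsMaxNilp (H : Subgroup G) : Prop :=
  Group.IsNilpotent H ∧ ∀ L : Subgroup G, Group.IsNilpotent L → H ≤ L → L = H

theorem map_conj_map_conj_inv (g : G) (H : Subgroup G) :
    (H.map (MulAut.conj g).toMonoidHom).map (MulAut.conj g⁻¹).toMonoidHom = H := by
  ext x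
  simp only [Subgroup.mem_map, MulEquiv.coe_toMonoidHom, MulAut.conj_apply, exists_exists_and_eq_and]
  constructor
  · rintro ⟨a, ha, rfl⟩
    have : g⁻¹ * (g * a * g⁻¹) * g⁻¹⁻¹ = a := by group
    rwa [this]
  · intro hx
    exact ⟨x, hx, by group⟩

theorem map_conj_inv_map_conj (g : G) (H : Subgroup G) :
    (H.map (MulAut.conj g⁻¹).toMonoidHom).map (MulAut.conj g).toMonoidHom = H := by
  have := map_conj_map_conj_inv g⁻¹ H
  rwa [inv_inv] at this

/-- A conjugate of a maximal nilpotent subgroup is maximal nilpotent. -/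
theorem IsMaxNilp.conj {H : Subgroup G} (hH : IsMaxNilp H) (g : G) :
    IsMaxNilp (H.map (MulAut.conj g).toMonoidHom) := by
  refine ⟨nilpotent_map hH.1 _, fun L hL hle => ?_⟩
  have h1 : H ≤ L.map (MulAut.conj g⁻¹).toMonoidHom := by
    have := Subgroup.map_mono (f := (MulAut.conj g⁻¹).toMonoidHom) hle
    rwa [map_conj_map_conj_inv] at this
  have h2 := hH.2 _ (nilpotent_map hL _) h1
  rw [← h2, map_conj_inv_map_conj]

/-- Every nilpotent subgroup of a finite group lies in a maximal nilpotent subgroup. -/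
theorem exists_maxNilp_ge [Finite G] {K : Subgroup G} (hK : Group.IsNilpotent K) :
    ∃ H : Subgroup G, K ≤ H ∧ IsMaxNilp H := by
  obtain ⟨H, hKH, hmax⟩ := (Set.toFinite {L : Subgroup G | Group.IsNilpotent L}).exists_le_maximal
    (show K ∈ {L : Subgroup G | Group.IsNilpotent L} from hK)
  refine ⟨H, hKH, hmax.prop, fun L hL hle => ?_⟩
  exact le_antisymm (hmax.le_of_ge hL hle) hle

theorem isPGroup_zpowers_iff [Finite G] {p : ℕ} [Fact p.Prime] {x : G} :
    IsPGroup p (Subgroup.zpowers x) ↔ ∃ k, orderOf x = p ^ k := by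
  rw [IsPGroup.iff_card, Nat.card_zpowers]

/-- In a nilpotent subgroup containing a Sylow `p`-subgroup `S` of `G`, every `p`-element
lies in `S`. -/
theorem mem_sylow_of_nilpotent [Finite G] {p : ℕ} [Fact p.Prime] {H : Subgroup G}
    (hH : Group.IsNilpotent H) (S : Sylow p G) (hS : (S : Subgroup G) ≤ H) {y : G} (hy : y ∈ H)
    (hyo : ∃ k, orderOf y = p ^ k) : y ∈ (S : Subgroup G) := by
  haveI := hH
  have hS' : IsPGroup p ((S : Subgroup G).subgroupOf H) := S.isPGroup'.comap_subtype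
  obtain ⟨Q, hQ⟩ := hS'.exists_le_sylow
  have hyp : IsPGroup p (Subgroup.zpowers (⟨y, hy⟩ : H)) := by
    rw [isPGroup_zpowers_iff]
    obtain ⟨k, hk⟩ := hyo
    exact ⟨k, by rw [Subgroup.orderOf_mk, hk]⟩
  obtain ⟨Q', hQ'⟩ := hyp.exists_le_sylow
  have hQQ : Q' = Q := by
    obtain ⟨g, hg⟩ := MulAction.exists_smul_eq H Q Q'
    rw [← hg, Sylow.smul_eq_of_normal]
  have hyQ : (⟨y, hy⟩ : H) ∈ (Q : Subgroup H) := hQQ ▸ hQ' (Subgroup.mem_zpowers _)
  have hmap : IsPGroup p ((Q : Subgroup H).map H.subtype) := Q.isPGroup'.map _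
  have hle : (S : Subgroup G) ≤ (Q : Subgroup H).map H.subtype := by
    intro s hs
    exact ⟨⟨s, hS hs⟩, hQ (Subgroup.mem_subgroupOf.2 hs), rfl⟩
  have heq := S.is_maximal' hmap hle
  rw [← heq]
  exact ⟨⟨y, hy⟩, hyQ, rfl⟩

/-- In a CN-group, a maximal nilpotent subgroup containing a Sylow `p`-subgroup `S` is the
centralizer of every non-identity central element of `S`. -/
theorem cent_eq_of_sylow [Finite G] (hCN : IsCNGroup G) {H : Subgroup G} (hH : IsMaxNilp H)
    {p : ℕ} [Fact p.Prime] (S : Sylow p G) (hS : (S : Subgroup G) ≤ H) {z : G}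
    (hz : z ∈ (S : Subgroup G)) (hz1 : z ≠ 1) (hzc : ∀ s ∈ (S : Subgroup G), s * z = z * s) :
    Subgroup.centralizer ({z} : Set G) = H := by
  apply Cfsg.Agent.S1477.cent_eq hCN hH.2 hz1
  have hzo : ∃ k, orderOf z = p ^ k := by
    obtain ⟨k, hk⟩ := (IsPGroup.iff_orderOf.mp S.isPGroup') ⟨z, hz⟩
    exact ⟨k, by rw [← hk, Subgroup.orderOf_mk]⟩
  have hle : H ≤ Subgroup.centralizer ({z} : Set G) := by
    apply Cfsg.Agent.S1477.le_of_parts H _ p
    · intro y hy hyp
      rw [Subgroup.mem_centralizer_singleton_iff]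
      apply Cfsg.Agent.S1477.comm_of_coprime hH.1 hy (hS hz)
      obtain ⟨k, hk⟩ := hzo
      rw [hk]
      exact Nat.Coprime.pow_right k hyp
    · intro y hy hyp
      rw [Subgroup.mem_centralizer_singleton_iff]
      exact hzc y (mem_sylow_of_nilpotent hH.1 S hS hy hyp)
  intro h hh
  have := hle hh
  rw [Subgroup.mem_centralizer_singleton_iff] at this
  exact this

/-- A nontrivial Sylow subgroup has a non-identity central element. -/
theorem exists_central_sylow [Finite G] {p : ℕ} [Fact p.Prime] (S : Sylow p G)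
    (hS : (S : Subgroup G) ≠ ⊥) :
    ∃ z ∈ (S : Subgroup G), z ≠ 1 ∧ ∀ s ∈ (S : Subgroup G), s * z = z * s := by
  haveI : Nontrivial (S : Subgroup G) := (Subgroup.nontrivial_iff_ne_bot _).2 hS
  haveI hcent := S.isPGroup'.center_nontrivial
  obtain ⟨t, ht⟩ := exists_ne (1 : Subgroup.center (S : Subgroup G))
  refine ⟨((t : ↥(S : Subgroup G)) : G), (t : ↥(S : Subgroup G)).2, ?_, ?_⟩
  · intro h
    apply ht
    apply Subtype.ext
    apply Subtype.ext
    exact h
  · intro s hs
    have h1 := Subgroup.mem_center_iff.1 t.2 ⟨s, hs⟩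
    exact congrArg Subtype.val h1

/-- In a CN-group, a nontrivial Sylow subgroup lies in a unique maximal nilpotent subgroup. -/
theorem maxNilp_unique_of_sylow [Finite G] (hCN : IsCNGroup G) {H₁ H₂ : Subgroup G}
    (h₁ : IsMaxNilp H₁) (h₂ : IsMaxNilp H₂) {p : ℕ} [Fact p.Prime] (S : Sylow p G)
    (hS : (S : Subgroup G) ≠ ⊥) (hS₁ : (S : Subgroup G) ≤ H₁) (hS₂ : (S : Subgroup G) ≤ H₂) :
    H₁ = H₂ := by
  obtain ⟨z, hz, hz1, hzc⟩ := exists_central_sylow S hS
  rw [← cent_eq_of_sylow hCN h₁ S hS₁ hz hz1 hzc, ← cent_eq_of_sylow hCN h₂ S hS₂ hz hz1 hzc]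

theorem sylow_le_map_conj [Finite G] {p : ℕ} [Fact p.Prime] (S : Sylow p G) (g : G)
    {H : Subgroup G} (hS : (S : Subgroup G) ≤ H) :
    ((g • S : Sylow p G) : Subgroup G) ≤ H.map (MulAut.conj g).toMonoidHom := by
  intro x hx
  rw [Sylow.smul_def, Sylow.pointwise_smul_def, Subgroup.mem_pointwise_smul_iff_inv_smul_mem] at hx
  refine ⟨(MulAut.conj g)⁻¹ • x, hS hx, ?_⟩
  simp only [MulAut.smul_def, MulEquiv.coe_toMonoidHom, MulAut.conj_apply, MulAut.conj_inv_apply]
  group

/-- In a CN-group, two maximal nilpotent subgroups are conjugate or have coprime orders. -/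
theorem maxNilp_conj_or_coprime [Finite G] (hCN : IsCNGroup G) {H₁ H₂ : Subgroup G}
    (h₁ : IsMaxNilp H₁) (h₂ : IsMaxNilp H₂) :
    (∃ g : G, H₂ = H₁.map (MulAut.conj g).toMonoidHom) ∨
      (Nat.card H₁).Coprime (Nat.card H₂) := by
  by_contra hcon
  push Not at hcon
  obtain ⟨hnc, hncop⟩ := hcon
  obtain ⟨p, hp, hp1, hp2⟩ := Nat.Prime.not_coprime_iff_dvd.1 hncop
  haveI : Fact p.Prime := ⟨hp⟩
  obtain ⟨S₁, hS₁⟩ := Cfsg.Agent.S1477.sylow_le hCN h₁.1 h₁.2 p hp1
  obtain ⟨S₂, hS₂⟩ := Cfsg.Agent.S1477.sylow_le hCN h₂.1 h₂.2 p hp2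
  obtain ⟨g, hg⟩ := MulAction.exists_smul_eq G S₁ S₂
  have hS₂' : (S₂ : Subgroup G) ≤ H₁.map (MulAut.conj g).toMonoidHom := by
    rw [← hg]
    exact sylow_le_map_conj S₁ g hS₁
  have hne : (S₂ : Subgroup G) ≠ ⊥ :=
    Sylow.ne_bot_of_dvd_card S₂ (hp2.trans (Subgroup.card_subgroup_dvd_card H₂))
  exact hnc g (maxNilp_unique_of_sylow hCN h₂ (h₁.conj g) S₂ hne hS₂ hS₂')

end Cfsg.Agent.Lib.Helper4.CN
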