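import Mathlib
import Cfsg.Agent.Lib.Helper4.CNBasic
import Cfsg.Agent.Lib.Helper1.FrobFacts
import Cfsg.Agent.Lib.Helper30.CyclicSylow
import Cfsg.Agent.Lib.Helper71.Fitting
import Cfsg.Agent.Lib.Helper23.TypeP
import Cfsg.Agent.S0039
import Cfsg.Agent.S0040
import Cfsg.Agent.S0041

/-!
# Fixed-point-free complements in CN-groups

A complement `E` acting without fixed points on a nilpotent normal subgroup `F` has a
non-identity central element as soon as centralizers of non-identity elements of `E` are
"coprime-commutative" (which holds in CN-groups); hence `E` is nilpotent in a CN-group.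
-/

set_option autoImplicit false
set_option linter.style.haveILetI false

namespace Cfsg.Agent.Lib.Helper4.CN

open Cfsg
open scoped commutatorElement

theorem card_sup_of_normal_disjoint {X : Type*} [Group X] [Finite X] (H K : Subgroup X)
    [K.Normal] (h : Disjoint K H) :
    Nat.card (H ⊔ K : Subgroup X) = Nat.card K * Nat.card H := by
  have h1 : K.relIndex (H ⊔ K) = K.relIndex H := Subgroup.relIndex_sup_right H K
  have h2 : Nat.card K * K.relIndex (H ⊔ K) = Nat.card (H ⊔ K : Subgroup X) :=
    Cfsg.Agent.Lib.Helper23.card_mul_relIndex le_sup_right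
  have h3 : K.relIndex H = Nat.card H := by
    rw [Subgroup.relIndex, Subgroup.subgroupOf_eq_bot.2 h, Subgroup.index_bot]
  rw [← h2, h1, h3]

/-- The centre of a normal subgroup `F`, as a subgroup of `G`. -/
def centerOf {G : Type*} [Group G] (F : Subgroup G) : Subgroup G :=
  F ⊓ Subgroup.centralizer (F : Set G)

instance centerOf_normal {G : Type*} [Group G] (F : Subgroup G) [F.Normal] :
    (centerOf F).Normal := by
  unfold centerOf
  infer_instance

instance centerOf_comm {G : Type*} [Group G] (F : Subgroup G) :
    IsMulCommutative (centerOf F) :=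
  ⟨⟨fun a b => Subtype.ext (a.2.2 b b.2.1).symm⟩⟩

theorem centerOf_ne_bot {G : Type*} [Group G] [Finite G] {F : Subgroup G} (hF : F ≠ ⊥)
    (hFnil : Group.IsNilpotent F) : centerOf F ≠ ⊥ := by
  have hcard : Nat.card F ≠ 1 := by rwa [Ne, Subgroup.card_eq_one]
  obtain ⟨r, hr, hrdvd⟩ := Nat.exists_prime_and_dvd hcard
  haveI : Fact r.Prime := ⟨hr⟩
  obtain ⟨z, hzF, hz1, -, hzc⟩ := Cfsg.Agent.S1477.central_elt hFnil r hrdvd
  intro h
  apply hz1
  have hz : z ∈ centerOf F := ⟨hzF, fun f hf => (hzc f hf)⟩
  rw [h, Subgroup.mem_bot] at hz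
  exact hz

/-- A fixed-point-free complement `E` of a nontrivial nilpotent normal subgroup `F` has a
non-identity central element, provided any two elements of `E` of coprime orders commuting
with a common non-identity element of `E` commute. -/
theorem exists_central_of_fpf {G : Type*} [Group G] [Finite G] (F E : Subgroup G) [F.Normal]
    (hc : Subgroup.IsComplement' F E) (hF : F ≠ ⊥) (hFnil : Group.IsNilpotent F)
    (hfpf : ∀ e ∈ E, e ≠ 1 → F ⊓ Subgroup.centralizer {e} = ⊥) (hE : E ≠ ⊥)
    (hCNE : ∀ u ∈ E, u ≠ 1 → ∀ a ∈ E, ∀ b ∈ E, a * u = u * a → b * u = u * b →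
      (orderOf a).Coprime (orderOf b) → a * b = b * a) :
    ∃ z ∈ E, z ≠ 1 ∧ ∀ g ∈ E, g * z = z * g := by
  classical
  have hfix : ∀ e ∈ E, e ≠ 1 → ∀ n ∈ F, e * n = n * e → n = 1 := by
    intro e he he1 n hn hcomm
    have h1 : n ∈ F ⊓ Subgroup.centralizer {e} :=
      ⟨hn, Subgroup.mem_centralizer_singleton_iff.2 hcomm.symm⟩
    rw [hfpf e he he1, Subgroup.mem_bot] at h1
    exact h1
  by_cases hinv : ∃ t ∈ E, orderOf t = 2
  · obtain ⟨t, htE, ht2⟩ := hinv
    have htt : t * t = 1 := by rw [← pow_two, ← ht2]; exact pow_orderOf_eq_one t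
    have ht1 : t ≠ 1 := by intro h; rw [h, orderOf_one] at ht2; omega
    refine ⟨t, htE, ht1, fun g hg => ?_⟩
    obtain ⟨s, hs⟩ : ∃ s, s = g * t * g⁻¹ := ⟨_, rfl⟩
    have hsE : s ∈ E := by rw [hs]; exact E.mul_mem (E.mul_mem hg htE) (E.inv_mem hg)
    have hss : s * s = 1 := by
      rw [hs]
      calc g * t * g⁻¹ * (g * t * g⁻¹) = g * (t * t) * g⁻¹ := by group
        _ = 1 := by rw [htt]; group
    have hs1 : s ≠ 1 := by
      intro h
      apply ht1
      have : t = g⁻¹ * s * g := by rw [hs]; group
      rw [this, h]; group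
    have hsinv := Cfsg.Agent.Lib.Helper1.inverts_of_fpf_involution F s hss (hfix s hsE hs1)
    have htinv := Cfsg.Agent.Lib.Helper1.inverts_of_fpf_involution F t htt (hfix t htE ht1)
    have htinv' : t⁻¹ = t := inv_eq_of_mul_eq_one_right htt
    by_contra hne
    have hu1 : s * t⁻¹ ≠ 1 := by
      intro h
      apply hne
      have hst : s = t := mul_inv_eq_one.mp h
      calc g * t = (g * t * g⁻¹) * g := by group
        _ = t * g := by rw [← hs, hst]
    obtain ⟨n, hn, hn1⟩ : ∃ n ∈ F, n ≠ 1 := by
      by_contra hcon
      push Not at hcon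
      exact hF ((Subgroup.eq_bot_iff_forall F).2 hcon)
    apply hn1
    apply hfix (s * t⁻¹) (E.mul_mem hsE (E.inv_mem htE)) hu1 n hn
    have h2 := htinv n hn
    have h3 := hsinv n⁻¹ (F.inv_mem hn)
    rw [inv_inv] at h3
    rw [htinv']
    calc s * t * n = s * (t * n * t⁻¹) * t := by group
      _ = (s * n⁻¹ * s⁻¹) * s * t := by rw [h2]; group
      _ = n * (s * t) := by rw [h3]; group
  · push Not at hinv
    have hodd : ¬ 2 ∣ Nat.card E := by
      intro h2
      haveI : Fact (Nat.Prime 2) := ⟨Nat.prime_two⟩
      obtain ⟨t, ht⟩ := exists_prime_orderOf_dvd_card' 2 h2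
      exact hinv t.1 t.2 (by rw [← ht, Subgroup.orderOf_coe])
    have hZ : IsZGroup E := by
      refine ⟨fun q hq Q => ?_⟩
      haveI : Fact q.Prime := ⟨hq⟩
      rcases Cfsg.Agent.S0040.result F E hc hF hfpf q Q with h | ⟨n, ⟨φ⟩⟩
      · exact h
      · exfalso
        apply hodd
        have hcard : Nat.card Q = 4 * 2 ^ n := by
          rw [Nat.card_congr φ.toEquiv, Nat.card_eq_fintype_card, QuaternionGroup.card]
        have h1 : Nat.card Q ∣ Nat.card E := Subgroup.card_subgroup_dvd_card _
        rw [hcard] at h1
        exact (Dvd.intro_left _ (by ring : 2 * 2 ^ n * 2 = 4 * 2 ^ n)).trans h1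
    haveI := hZ
    have hcyc : IsCyclic (commutator E) := IsZGroup.isCyclic_commutator E
    by_cases hcomm : commutator E = ⊥
    · obtain ⟨e, he, he1⟩ : ∃ e ∈ E, e ≠ 1 := by
        by_contra hcon
        push Not at hcon
        exact hE ((Subgroup.eq_bot_iff_forall E).2 hcon)
      refine ⟨e, he, he1, fun g hg => ?_⟩
      have h1 : ⁅(⟨g, hg⟩ : E), ⟨e, he⟩⁆ ∈ commutator E :=
        Subgroup.commutator_mem_commutator (Subgroup.mem_top _) (Subgroup.mem_top _)
      rw [hcomm, Subgroup.mem_bot, commutatorElement_eq_one_iff_mul_comm] at h1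
      exact congrArg Subtype.val h1
    · have hcard : Nat.card (commutator E) ≠ 1 := by rwa [Ne, Subgroup.card_eq_one]
      obtain ⟨r, hr, hrdvd⟩ := Nat.exists_prime_and_dvd hcard
      haveI : Fact r.Prime := ⟨hr⟩
      obtain ⟨z₀, hz₀⟩ := exists_prime_orderOf_dvd_card' r hrdvd
      obtain ⟨z, hz⟩ : ∃ z : E, z = (z₀ : E) := ⟨_, rfl⟩
      have hzo : orderOf z = r := by rw [hz, ← hz₀, Subgroup.orderOf_coe]
      have hz1 : z ≠ 1 := by
        intro h
        rw [h, orderOf_one] at hzo
        exact hr.one_lt.ne hzo
      have hnorm : ∀ g : E, g * z * g⁻¹ ∈ Subgroup.zpowers z := by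
        intro g
        have hmem : g * z * g⁻¹ ∈ commutator E := by
          rw [hz]
          exact (inferInstance : (commutator E).Normal).conj_mem _ z₀.2 g
        have hpow : (⟨g * z * g⁻¹, hmem⟩ : commutator E) ^ r = 1 := by
          apply Subtype.ext
          rw [Subgroup.coe_pow, Subgroup.coe_one]
          change (g * z * g⁻¹) ^ r = 1
          rw [conj_pow, ← hzo, pow_orderOf_eq_one]
          group
        have := Cfsg.Agent.Lib.Helper30.mem_zpowers_of_orderOf_eq (C := commutator E) hr.pos
          (a := z₀) (b := ⟨g * z * g⁻¹, hmem⟩) hz₀ hpow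
        obtain ⟨k, hk⟩ := Subgroup.mem_zpowers_iff.1 this
        refine Subgroup.mem_zpowers_iff.2 ⟨k, ?_⟩
        have hk' : ((z₀ ^ k : commutator E) : E) = g * z * g⁻¹ := congrArg Subtype.val hk
        rw [Subgroup.coe_zpow, ← hz] at hk'
        exact hk'
      haveI hzn : (Subgroup.zpowers z).Normal := ⟨fun x hx g => by
        obtain ⟨k, rfl⟩ := Subgroup.mem_zpowers_iff.1 hx
        rw [← conj_zpow]
        exact Subgroup.zpow_mem _ (hnorm g) k⟩
      have hV : centerOf F ≠ ⊥ := centerOf_ne_bot hF hFnil
      have hprime : ∀ u : E, (orderOf u).Prime → u * z = z * u := by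
        intro u hu
        by_cases hmem : u ∈ Subgroup.zpowers z
        · obtain ⟨k, rfl⟩ := Subgroup.mem_zpowers_iff.1 hmem
          exact ((Commute.refl z).zpow_left k).eq
        · have hdisj : Disjoint (Subgroup.zpowers z) (Subgroup.zpowers u) := by
            rw [disjoint_iff]
            by_contra hne
            have h1 : Nat.card ↥(Subgroup.zpowers z ⊓ Subgroup.zpowers u) ∣ orderOf u := by
              rw [← Nat.card_zpowers]
              exact Subgroup.card_dvd_of_le inf_le_right
            rcases (Nat.dvd_prime hu).1 h1 with h | h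
            · exact hne (Subgroup.card_eq_one.1 h)
            · apply hmem
              have h2 : Subgroup.zpowers z ⊓ Subgroup.zpowers u = Subgroup.zpowers u := by
                apply Subgroup.eq_of_le_of_card_ge inf_le_right
                rw [h, Nat.card_zpowers]
              have hu' : u ∈ Subgroup.zpowers z ⊓ Subgroup.zpowers u := by
                rw [h2]; exact Subgroup.mem_zpowers u
              exact hu'.1
          have hcardA : Nat.card ↥(Subgroup.zpowers u ⊔ Subgroup.zpowers z) = r * orderOf u := by
            rw [card_sup_of_normal_disjoint _ _ hdisj, Nat.card_zpowers, Nat.card_zpowers, hzo]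
          obtain ⟨A, hA⟩ : ∃ A : Subgroup G,
              A = (Subgroup.zpowers u ⊔ Subgroup.zpowers z).map E.subtype := ⟨_, rfl⟩
          have hAcard : Nat.card A = r * orderOf u := by
            rw [hA, Subgroup.card_map_of_injective E.subtype_injective, hcardA]
          have hAE : A ≤ E := by
            rw [hA]
            rintro _ ⟨a, -, rfl⟩
            exact a.2
          have hcycA : IsCyclic A := by
            apply Cfsg.Agent.S0041.result A (centerOf F) hV
            · rw [Subgroup.normalizer_eq_top]
              exact le_top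
            · intro a ha ha1
              rw [eq_bot_iff]
              intro x hx
              obtain ⟨hx1, hx2⟩ := Subgroup.mem_inf.1 hx
              have : x ∈ F ⊓ Subgroup.centralizer {a} := Subgroup.mem_inf.2 ⟨hx1.1, hx2⟩
              rwa [hfpf a (hAE ha) ha1] at this
            · exact Or.inr ⟨r, orderOf u, hr, hu, hAcard⟩
          have huA : (u : G) ∈ A := by
            rw [hA]
            exact ⟨u, Subgroup.mem_sup_left (Subgroup.mem_zpowers u), rfl⟩
          have hzA : (z : G) ∈ A := by
            rw [hA]
            exact ⟨z, Subgroup.mem_sup_right (Subgroup.mem_zpowers z), rfl⟩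
          have hcm := mul_comm' (⟨(u : G), huA⟩ : A) ⟨(z : G), hzA⟩
          apply Subtype.ext
          exact congrArg (fun x : A => (x : G)) hcm
      -- every element of `E` centralizes `z`
      have hall : Subgroup.centralizer ({z} : Set E) = ⊤ := by
        apply Cfsg.Agent.Lib.Helper73.eq_top_of_forall_sylow_le
        intro q _
        by_cases hqr : q = r
        · subst hqr
          have hzp : IsPGroup q (Subgroup.zpowers z) := by
            rw [isPGroup_zpowers_iff]
            exact ⟨1, by rw [hzo, pow_one]⟩
          obtain ⟨R, hR⟩ := hzp.exists_le_sylow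
          refine ⟨R, fun g hg => ?_⟩
          rw [Subgroup.mem_centralizer_singleton_iff]
          have hzR : z ∈ (R : Subgroup E) := hR (Subgroup.mem_zpowers z)
          have hcm := mul_comm' (⟨g, hg⟩ : (R : Subgroup E)) ⟨z, hzR⟩
          exact congrArg Subtype.val hcm
        · obtain ⟨Q⟩ : Nonempty (Sylow q E) := inferInstance
          refine ⟨Q, fun g hg => ?_⟩
          rw [Subgroup.mem_centralizer_singleton_iff]
          by_cases hg1 : g = 1
          · rw [hg1]; simp
          obtain ⟨k, hk⟩ := (IsPGroup.iff_orderOf.mp Q.isPGroup') ⟨g, hg⟩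
          rw [Subgroup.orderOf_mk] at hk
          have hk0 : k ≠ 0 := by
            rintro rfl
            rw [pow_zero, orderOf_eq_one_iff] at hk
            exact hg1 hk
          have hqdvd : q ∣ orderOf g := by rw [hk]; exact dvd_pow_self q hk0
          obtain ⟨u, hu⟩ : ∃ u : E, u = g ^ (orderOf g / q) := ⟨_, rfl⟩
          have huo : orderOf u = q := by
            rw [hu]
            exact orderOf_pow_orderOf_div (orderOf_pos g).ne' hqdvd
          have hqp : q.Prime := Fact.out
          have huz : u * z = z * u := hprime u (by rw [huo]; exact hqp)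
          have hu1 : (u : G) ≠ 1 := by
            intro h
            have : u = 1 := Subtype.ext h
            rw [this, orderOf_one] at huo
            exact hqp.one_lt.ne huo
          have hgu : (g : G) * (u : G) = (u : G) * (g : G) := by
            rw [hu]
            have : g * g ^ (orderOf g / q) = g ^ (orderOf g / q) * g :=
              ((Commute.refl g).pow_right _).eq
            exact congrArg Subtype.val this
          have hzu : (z : G) * (u : G) = (u : G) * (z : G) := (congrArg Subtype.val huz).symm
          have := hCNE (u : G) u.2 hu1 (g : G) g.2 (z : G) z.2 hgu hzu (by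
            rw [Subgroup.orderOf_coe, Subgroup.orderOf_coe, hk, hzo]
            exact Nat.Coprime.pow_left k ((Nat.coprime_primes hqp hr).2 hqr))
          exact Subtype.ext this
      refine ⟨(z : G), z.2, fun h => hz1 (Subtype.ext h), fun g hg => ?_⟩
      have h1 : (⟨g, hg⟩ : E) ∈ Subgroup.centralizer ({z} : Set E) := by rw [hall]; trivial
      rw [Subgroup.mem_centralizer_singleton_iff] at h1
      exact congrArg Subtype.val h1

end Cfsg.Agent.Lib.Helper4.CN
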