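import Mathlib
import Cfsg.Agent.Lib.Helper4.CNFrob
import Cfsg.Agent.Lib.Helper4.TwoRank

/-!
# The largest normal nilpotent Hall subgroup of a CN-group

`Cfsg.fittingHall G` is a normal nilpotent Hall subgroup; in a CN-group every element of order
coprime to it acts on it without fixed points; a CN-group with a nontrivial normal Sylow
subgroup which is not nilpotent is a Frobenius group with kernel `fittingHall G` and nilpotent
complement.
-/

set_option autoImplicit false
set_option linter.style.haveILetI false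

namespace Cfsg.Agent.Lib.Helper4.CN

open Cfsg

theorem fittingHall_nilpotent (M : Type*) [Group M] [Finite M] :
    Group.IsNilpotent (Cfsg.fittingHall M) := by
  let s : Set (Subgroup M) := {N | N.Normal ∧ Group.IsNilpotent N}
  have hs : SupClosed s := by
    rintro N₁ ⟨hN₁, hc₁⟩ N₂ ⟨hN₂, hc₂⟩
    haveI := hN₁
    haveI := hN₂
    exact ⟨Subgroup.sup_normal N₁ N₂,
      Cfsg.Agent.Lib.Helper71.isNilpotent_sup_of_normal N₁ N₂ hc₁ hc₂⟩
  have hbot : (⊥ : Subgroup M) ∈ s := ⟨inferInstance, inferInstance⟩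
  have hmem : Cfsg.fittingHall M ∈ s := by
    unfold Cfsg.fittingHall
    refine hs.sSup_mem (Set.toFinite _) hbot ?_
    rintro N ⟨h1, h2, -⟩
    exact ⟨h1, h2⟩
  exact hmem.2

theorem le_fittingHall {M : Type*} [Group M] (N : Subgroup M) [N.Normal]
    (hN : Group.IsNilpotent N) (hc : (Nat.card N).Coprime N.index) : N ≤ Cfsg.fittingHall M :=
  le_sSup ⟨inferInstance, hN, hc⟩

theorem sylow_le_fittingHall {M : Type*} [Group M] [Finite M] {p : ℕ} [Fact p.Prime]
    (S : Sylow p M) [(S : Subgroup M).Normal] : (S : Subgroup M) ≤ Cfsg.fittingHall M :=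
  le_fittingHall _ S.isPGroup'.isNilpotent S.card_coprime_index

/-- In a CN-group, a non-identity element of order coprime to `|fittingHall G|` has no
non-identity fixed point on `fittingHall G`. -/
theorem fittingHall_fpf {G : Type*} [Group G] [Finite G] (hCN : IsCNGroup G) {e : G}
    (he1 : e ≠ 1) (hcop : (orderOf e).Coprime (Nat.card (Cfsg.fittingHall G))) :
    Cfsg.fittingHall G ⊓ Subgroup.centralizer {e} = ⊥ := by
  obtain ⟨F, hFdef⟩ : ∃ F : Subgroup G, F = Cfsg.fittingHall G := ⟨_, rfl⟩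
  rw [← hFdef] at hcop ⊢
  have hFnil : Group.IsNilpotent F := by rw [hFdef]; exact fittingHall_nilpotent G
  haveI hFn : F.Normal := by rw [hFdef]; infer_instance
  rw [eq_bot_iff]
  intro w hw
  obtain ⟨hwF, hwe⟩ := Subgroup.mem_inf.1 hw
  rw [Subgroup.mem_bot]
  by_contra hw1
  have hwe' : w * e = e * w := Subgroup.mem_centralizer_singleton_iff.1 hwe
  obtain ⟨s, k, hs, hko⟩ := Cfsg.Agent.S1477.prime_power_elt he1
  haveI : Fact s.Prime := ⟨hs⟩
  obtain ⟨e', he'⟩ : ∃ e', e' = e ^ k := ⟨_, rfl⟩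
  rw [← he'] at hko
  have hsdvd : s ∣ orderOf e := by rw [← hko, he']; exact orderOf_pow_dvd k
  have hsF : ¬ s ∣ Nat.card F := fun h => hs.one_lt.ne' (Nat.eq_one_of_dvd_coprimes hcop hsdvd h)
  have he'1 : e' ≠ 1 := by
    intro h
    rw [h, orderOf_one] at hko
    exact hs.one_lt.ne hko
  have hwe'' : w * e' = e' * w := by
    rw [he']
    exact ((Commute.pow_right (show Commute w e from hwe') k)).eq
  have hFcard : Nat.card F ≠ 1 := by
    intro h
    apply hw1
    have h2 := Subgroup.card_eq_one.1 h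
    rw [h2, Subgroup.mem_bot] at hwF
    exact hwF
  obtain ⟨r, hr, hrdvd⟩ := Nat.exists_prime_and_dvd hFcard
  haveI : Fact r.Prime := ⟨hr⟩
  obtain ⟨z, hzF, hz1, hzo, hzc⟩ := Cfsg.Agent.S1477.central_elt hFnil r hrdvd
  have hrs : r ≠ s := by rintro rfl; exact hsF hrdvd
  have hordF : ∀ f ∈ F, (orderOf f).Coprime s := by
    intro f hf
    rw [Nat.coprime_comm, Nat.Prime.coprime_iff_not_dvd hs]
    intro h
    exact hsF (h.trans (Subgroup.orderOf_dvd_natCard F hf))
  have h1 : e' * z = z * e' := by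
    apply Cfsg.Agent.S1477.comm_of_coprime (hCN w hw1) (x := e') (y := z)
    · exact Subgroup.mem_centralizer_singleton_iff.2 hwe''.symm
    · exact Subgroup.mem_centralizer_singleton_iff.2 (hzc w hwF).symm
    · rw [hko, hzo]; exact (Nat.coprime_primes hs hr).2 hrs.symm
  have h2 : ∀ f ∈ F, e' * f = f * e' := by
    intro f hf
    apply Cfsg.Agent.S1477.comm_of_coprime (hCN z hz1)
    · exact Subgroup.mem_centralizer_singleton_iff.2 h1
    · exact Subgroup.mem_centralizer_singleton_iff.2 (hzc f hf)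
    · rw [hko]; exact (hordF f hf).symm
  have hpg : IsPGroup s (Subgroup.zpowers e') := isPGroup_zpowers_iff.2 ⟨1, by rw [hko, pow_one]⟩
  obtain ⟨T, hT⟩ := hpg.exists_le_sylow
  have he'T : e' ∈ (T : Subgroup G) := hT (Subgroup.mem_zpowers e')
  obtain ⟨K, hK⟩ : ∃ K : Subgroup G, K = Subgroup.centralizer (F : Set G) := ⟨_, rfl⟩
  haveI hKn : K.Normal := by rw [hK]; infer_instance
  have hKmem : ∀ c : G, c ∈ K ↔ ∀ f ∈ F, f * c = c * f := by
    intro c
    rw [hK, Subgroup.mem_centralizer_iff]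
    rfl
  have hDne : K.subgroupOf (T : Subgroup G) ≠ ⊥ := by
    intro h
    have h3 : (⟨e', he'T⟩ : (T : Subgroup G)) ∈ K.subgroupOf (T : Subgroup G) :=
      Subgroup.mem_subgroupOf.2 ((hKmem e').2 (fun f hf => (h2 f hf).symm))
    rw [h, Subgroup.mem_bot] at h3
    exact he'1 (congrArg Subtype.val h3)
  obtain ⟨v, hvD, hv1, hvc⟩ := Cfsg.Agent.Lib.Helper4.exists_central_of_normal T.isPGroup'
    (K.subgroupOf (T : Subgroup G)) hDne
  have hvG1 : (v : G) ≠ 1 := fun h => hv1 (Subtype.ext h)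
  have hvK : ∀ f ∈ F, f * (v : G) = (v : G) * f := (hKmem _).1 (Subgroup.mem_subgroupOf.1 hvD)
  have hvT : ∀ t ∈ (T : Subgroup G), t * (v : G) = (v : G) * t := by
    intro t ht
    have := Subgroup.mem_center_iff.1 hvc ⟨t, ht⟩
    exact congrArg Subtype.val this
  have hTF : ∀ t ∈ (T : Subgroup G), ∀ f ∈ F, t * f = f * t := by
    intro t ht f hf
    apply Cfsg.Agent.S1477.comm_of_coprime (hCN (v : G) hvG1)
    · exact Subgroup.mem_centralizer_singleton_iff.2 (hvT t ht)
    · exact Subgroup.mem_centralizer_singleton_iff.2 (hvK f hf)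
    · obtain ⟨j, hj⟩ := (IsPGroup.iff_orderOf.mp T.isPGroup') ⟨t, ht⟩
      rw [Subgroup.orderOf_mk] at hj
      rw [hj]
      exact Nat.Coprime.pow_left j (hordF f hf).symm
  have hTK : (T : Subgroup G) ≤ K := fun t ht => (hKmem t).2 (fun f hf => (hTF t ht f hf).symm)
  have hKnil : Group.IsNilpotent K := by
    refine nilpotent_of_le (hCN z hz1) (fun c hc => ?_)
    exact Subgroup.mem_centralizer_singleton_iff.2 ((hKmem c).1 hc z hzF).symm
  have hTn : (T : Subgroup G).Normal := by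
    refine ⟨fun t ht g => ?_⟩
    apply mem_sylow_of_nilpotent hKnil T hTK
    · exact hKn.conj_mem t (hTK ht) g
    · obtain ⟨j, hj⟩ := (IsPGroup.iff_orderOf.mp T.isPGroup') ⟨t, ht⟩
      exact ⟨j, by rw [Cfsg.Agent.S1477.orderOf_conj', ← hj, Subgroup.orderOf_mk]⟩
  have hTF' : (T : Subgroup G) ≤ F := by
    haveI := hTn
    rw [hFdef]
    exact sylow_le_fittingHall T
  apply hsF
  rw [← hko]
  exact Subgroup.orderOf_dvd_natCard F (hTF' he'T)

/-- Structure of a non-nilpotent CN-group with a nontrivial normal Sylow subgroup. -/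
theorem frobenius_of_normal_sylow {G : Type*} [Group G] [Finite G] (hCN : IsCNGroup G)
    (hnn : ¬ Group.IsNilpotent G) (hF1 : Cfsg.fittingHall G ≠ ⊥) :
    Cfsg.fittingHall G ≠ ⊤ ∧
      (∃ E : Subgroup G, Subgroup.IsComplement' (Cfsg.fittingHall G) E ∧
        Cfsg.IsFrobeniusComplement E ∧ Group.IsNilpotent E ∧ E ≠ ⊥ ∧
        ∀ e ∈ E, e ≠ 1 → Cfsg.fittingHall G ⊓ Subgroup.centralizer ({e} : Set G) = ⊥) ∧
      Group.IsNilpotent (G ⧸ Cfsg.fittingHall G) := by
  have hFnil := fittingHall_nilpotent G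
  have hFcop := Cfsg.Agent.Lib.Helper23.fittingHall_coprime G
  have hF2 : Cfsg.fittingHall G ≠ ⊤ := by
    intro h
    apply hnn
    rw [h] at hFnil
    haveI := hFnil
    exact Group.nilpotent_of_mulEquiv Subgroup.topEquiv
  obtain ⟨E, hE⟩ := Subgroup.exists_right_complement'_of_coprime hFcop
  have hEidx : Nat.card E = (Cfsg.fittingHall G).index := by
    have h1 := hE.card_mul_card
    have h2 := (Cfsg.fittingHall G).card_mul_index
    have hpos : 0 < Nat.card (Cfsg.fittingHall G) := Nat.card_pos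
    exact Nat.eq_of_mul_eq_mul_left hpos (h1.trans h2.symm)
  have hfpf : ∀ e ∈ E, e ≠ 1 → Cfsg.fittingHall G ⊓ Subgroup.centralizer {e} = ⊥ := by
    intro e he he1
    apply fittingHall_fpf hCN he1
    have h1 : orderOf e ∣ (Cfsg.fittingHall G).index := by
      rw [← hEidx]; exact Subgroup.orderOf_dvd_natCard E he
    exact Nat.Coprime.coprime_dvd_left h1 hFcop.symm
  have hE1 : E ≠ ⊥ := by
    intro h
    apply hF2
    rw [h] at hE
    exact Subgroup.isComplement'_bot_right.1 hE
  have hFrob : IsFrobeniusComplement E := (Cfsg.Agent.S0039.result _ E hE hF1 hE1).2 hfpf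
  have hEnil : Group.IsNilpotent E := by
    obtain ⟨z, hzE, hz1, hzc⟩ := exists_central_of_fpf _ E hE hF1 hFnil hfpf hE1
      (fun u hu hu1 a ha b hb hau hbu hcop =>
        Cfsg.Agent.S1477.comm_of_coprime (hCN u hu1)
          (Subgroup.mem_centralizer_singleton_iff.2 hau)
          (Subgroup.mem_centralizer_singleton_iff.2 hbu) hcop)
    exact nilpotent_of_le (hCN z hz1)
      (fun g hg => Subgroup.mem_centralizer_singleton_iff.2 (hzc g hg))
  refine ⟨hF2, ⟨E, hE, hFrob, hEnil, hE1, hfpf⟩, ?_⟩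
  haveI := hEnil
  apply Group.nilpotent_of_surjective ((QuotientGroup.mk' (Cfsg.fittingHall G)).comp E.subtype)
  intro x
  obtain ⟨g, rfl⟩ := QuotientGroup.mk'_surjective (Cfsg.fittingHall G) x
  obtain ⟨⟨f, e⟩, hfe, -⟩ := hE.existsUnique g
  refine ⟨e, ?_⟩
  simp only [MonoidHom.coe_comp, Subgroup.coe_subtype, Function.comp_apply, QuotientGroup.mk'_apply]
  rw [QuotientGroup.eq]
  have : (e : G)⁻¹ * g = (e : G)⁻¹ * (f : G) * (e : G) := by
    rw [← hfe]; group
  rw [this]
  have h3 := (inferInstance : (Cfsg.fittingHall G).Normal).conj_mem (f : G) f.2 (e : G)⁻¹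
  simpa using h3

end Cfsg.Agent.Lib.Helper4.CN
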