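import Mathlib
import Cfsg.Prelude.Def_Involutions

set_option autoImplicit false

namespace Cfsg.Agent.Lib.Helper4

variable {G : Type*} [Group G]

lemma mem_map_conj {H : Subgroup G} {g x : G} :
    x ∈ H.map (MulAut.conj g).toMonoidHom ↔ g⁻¹ * x * g ∈ H := by
  constructor
  · rintro ⟨h, hh, rfl⟩
    have : g⁻¹ * (MulAut.conj g).toMonoidHom h * g = h := by
      simp [MulAut.conj_apply, mul_assoc]
    rw [this]; exact hh
  · intro h
    refine ⟨g⁻¹ * x * g, h, ?_⟩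
    simp [MulAut.conj_apply, mul_assoc]

lemma conj_mem_map_conj {H : Subgroup G} {g t : G} (ht : t ∈ H) :
    g * t * g⁻¹ ∈ H.map (MulAut.conj g).toMonoidHom := by
  rw [mem_map_conj]
  have : g⁻¹ * (g * t * g⁻¹) * g = t := by group
  rw [this]; exact ht

lemma orderOf_conj_eq (g t : G) : orderOf (g * t * g⁻¹) = orderOf t := by
  have := orderOf_injective (MulAut.conj g).toMonoidHom (MulAut.conj g).injective t
  simpa [MulAut.conj_apply] using this

/-- In a strongly embedded subgroup, an element conjugating an involution of `H` into `H`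
lies in `H`. -/
lemma se_mem_of_conj_mem [Finite G] {H : Subgroup G} (hSE : Cfsg.IsStronglyEmbedded H) {t g : G}
    (ht : t ∈ H) (ht2 : orderOf t = 2) (hg : g * t * g⁻¹ ∈ H) : g ∈ H := by
  by_contra hgH
  have hodd := hSE.2.2 g hgH
  have hmem : g * t * g⁻¹ ∈ H ⊓ H.map (MulAut.conj g).toMonoidHom :=
    ⟨hg, conj_mem_map_conj ht⟩
  have h2 : orderOf (⟨g * t * g⁻¹, hmem⟩ : ↥(H ⊓ H.map (MulAut.conj g).toMonoidHom)) = 2 := by
    rw [Subgroup.orderOf_mk, orderOf_conj_eq, ht2]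
  have hdvd := orderOf_dvd_natCard (⟨g * t * g⁻¹, hmem⟩ : ↥(H ⊓ H.map (MulAut.conj g).toMonoidHom))
  rw [h2] at hdvd
  exact (Nat.not_even_iff_odd.mpr hodd) (even_iff_two_dvd.mpr hdvd)

/-- If `H ⊓ gHg⁻¹` has even order, then some involution `t ∈ H` has `g t g⁻¹ ∈ H`. -/
lemma exists_invol_of_not_odd [Finite G] {H : Subgroup G} {g : G}
    (he : ¬ Odd (Nat.card ↥(H ⊓ H.map (MulAut.conj g).toMonoidHom))) :
    ∃ t ∈ H, orderOf t = 2 ∧ g * t * g⁻¹ ∈ H := by
  rw [Nat.not_odd_iff_even, even_iff_two_dvd] at he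
  obtain ⟨k, hk⟩ := exists_prime_orderOf_dvd_card' 2 he
  have hk1 : (k : G) ∈ H := k.2.1
  have hk2 : g⁻¹ * (k : G) * g ∈ H := mem_map_conj.mp k.2.2
  refine ⟨g⁻¹ * (k : G) * g, hk2, ?_, ?_⟩
  · have := orderOf_conj_eq g⁻¹ (k : G)
    rw [inv_inv] at this
    rw [this, Subgroup.orderOf_coe, hk]
  · have : g * (g⁻¹ * (k : G) * g) * g⁻¹ = k := by group
    rw [this]; exact hk1

end Cfsg.Agent.Lib.Helper4
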