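import Mathlib
import Cfsg.Agent.Lib.Helper4.CNFit
import Cfsg.Agent.Lib.Helper84.PCoreBasic
import Cfsg.Agent.S0044
import Cfsg.Agent.S1473
import Cfsg.Agent.S0041
import Cfsg.Agent.Lib.Helper1.FpfSylow

/-!
# Solvable CN-groups

Structure of solvable groups in which centralizers of non-identity elements are nilpotent:
nilpotent, Frobenius with kernel `fittingHall G` and nilpotent complement, or a three-step group.
-/

set_option autoImplicit false
set_option linter.style.haveILetI false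

namespace Cfsg.Agent.Lib.Helper4.CN

open Cfsg

/-- A Sylow subgroup contained in a nilpotent normal subgroup is normal. -/
theorem sylow_normal_of_le_nilpotent_normal {G : Type*} [Group G] [Finite G] {p : ℕ}
    [Fact p.Prime] (T : Sylow p G) {N : Subgroup G} [N.Normal] (hN : Group.IsNilpotent N)
    (hT : (T : Subgroup G) ≤ N) : (T : Subgroup G).Normal := by
  refine ⟨fun t ht g => ?_⟩
  apply mem_sylow_of_nilpotent hN T hT
  · exact (inferInstance : N.Normal).conj_mem t (hT ht) g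
  · obtain ⟨j, hj⟩ := (IsPGroup.iff_orderOf.mp T.isPGroup') ⟨t, ht⟩
    exact ⟨j, by rw [Cfsg.Agent.S1477.orderOf_conj', ← hj, Subgroup.orderOf_mk]⟩

theorem orderOf_of_mem_sylow {G : Type*} [Group G] [Finite G] {p : ℕ} [Fact p.Prime]
    (P : Sylow p G) {t : G} (ht : t ∈ (P : Subgroup G)) : ∃ j, orderOf t = p ^ j := by
  obtain ⟨j, hj⟩ := (IsPGroup.iff_orderOf.mp P.isPGroup') ⟨t, ht⟩
  exact ⟨j, by rw [← hj, Subgroup.orderOf_mk]⟩

theorem orderOf_of_mem_pgroup {G : Type*} [Group G] [Finite G] {p : ℕ} [Fact p.Prime]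
    {P : Subgroup G} (hP : IsPGroup p P) {t : G} (ht : t ∈ P) : ∃ j, orderOf t = p ^ j := by
  obtain ⟨j, hj⟩ := (IsPGroup.iff_orderOf.mp hP) ⟨t, ht⟩
  exact ⟨j, by rw [← hj, Subgroup.orderOf_mk]⟩

/-- In a CN-group whose Fitting subgroup has order divisible by two primes, some Sylow subgroup
is normal and nontrivial. -/
theorem fittingHall_ne_bot_of_two_primes {G : Type*} [Group G] [Finite G] (hCN : IsCNGroup G)
    {p q : ℕ} (hp : p.Prime) (hq : q.Prime) (hpq : p ≠ q)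
    (hpF : p ∣ Nat.card (Cfsg.fittingSubgroup G)) (hqF : q ∣ Nat.card (Cfsg.fittingSubgroup G)) :
    Cfsg.fittingHall G ≠ ⊥ := by
  haveI : Fact p.Prime := ⟨hp⟩
  haveI : Fact q.Prime := ⟨hq⟩
  obtain ⟨Fit, hFit⟩ : ∃ F : Subgroup G, F = Cfsg.fittingSubgroup G := ⟨_, rfl⟩
  rw [← hFit] at hpF hqF
  have hFnil : Group.IsNilpotent Fit := by
    rw [hFit]; exact Cfsg.Agent.Lib.Helper71.fittingSubgroup_isNilpotent
  haveI hFn : Fit.Normal := by rw [hFit]; infer_instance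
  obtain ⟨x, hxF, hx1, hxo, -⟩ := Cfsg.Agent.S1477.central_elt hFnil p hpF
  obtain ⟨y₀, hy₀F, hy₀1, hy₀o, hy₀c⟩ := Cfsg.Agent.S1477.central_elt hFnil q hqF
  have hpg : IsPGroup p (Subgroup.zpowers x) := isPGroup_zpowers_iff.2 ⟨1, by rw [hxo, pow_one]⟩
  obtain ⟨P, hP⟩ := hpg.exists_le_sylow
  have hxP : x ∈ (P : Subgroup G) := hP (Subgroup.mem_zpowers x)
  have hDne : Fit.subgroupOf (P : Subgroup G) ≠ ⊥ := by
    intro h
    have h3 : (⟨x, hxP⟩ : (P : Subgroup G)) ∈ Fit.subgroupOf (P : Subgroup G) :=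
      Subgroup.mem_subgroupOf.2 hxF
    rw [h, Subgroup.mem_bot] at h3
    exact hx1 (congrArg Subtype.val h3)
  obtain ⟨v, hvD, hv1, hvc⟩ := Cfsg.Agent.Lib.Helper4.exists_central_of_normal P.isPGroup'
    (Fit.subgroupOf (P : Subgroup G)) hDne
  have hvG1 : (v : G) ≠ 1 := fun h => hv1 (Subtype.ext h)
  have hvF : (v : G) ∈ Fit := Subgroup.mem_subgroupOf.1 hvD
  have hvT : ∀ t ∈ (P : Subgroup G), t * (v : G) = (v : G) * t := by
    intro t ht
    have := Subgroup.mem_center_iff.1 hvc ⟨t, ht⟩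
    exact congrArg Subtype.val this
  obtain ⟨S, hS⟩ : ∃ S : Set G, S = {y | y ∈ Fit ∧ (orderOf y).Coprime p} := ⟨_, rfl⟩
  have hSmem : ∀ y, y ∈ S ↔ y ∈ Fit ∧ (orderOf y).Coprime p := by intro y; rw [hS]; rfl
  have hPS : ∀ t ∈ (P : Subgroup G), ∀ y ∈ S, t * y = y * t := by
    intro t ht y hy
    rw [hSmem] at hy
    obtain ⟨j, hj⟩ := orderOf_of_mem_sylow P ht
    obtain ⟨jv, hjv⟩ := orderOf_of_mem_sylow P v.2
    apply Cfsg.Agent.S1477.comm_of_coprime (hCN (v : G) hvG1)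
    · exact Subgroup.mem_centralizer_singleton_iff.2 (hvT t ht)
    · apply Subgroup.mem_centralizer_singleton_iff.2
      apply Cfsg.Agent.S1477.comm_of_coprime hFnil hy.1 hvF
      rw [hjv]; exact Nat.Coprime.pow_right jv hy.2
    · rw [hj]; exact Nat.Coprime.pow_left j hy.2.symm
  obtain ⟨K, hK⟩ : ∃ K : Subgroup G, K = Subgroup.centralizer S := ⟨_, rfl⟩
  have hKmem : ∀ c : G, c ∈ K ↔ ∀ y ∈ S, y * c = c * y := by
    intro c; rw [hK, Subgroup.mem_centralizer_iff]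
  haveI hKn : K.Normal := by
    refine ⟨fun c hc g => ?_⟩
    rw [hKmem] at hc ⊢
    intro y hy
    have hy' : g⁻¹ * y * g ∈ S := by
      rw [hSmem] at hy ⊢
      refine ⟨?_, ?_⟩
      · have := hFn.conj_mem y hy.1 g⁻¹
        simpa using this
      · have := Cfsg.Agent.S1477.orderOf_conj' g⁻¹ y
        rw [inv_inv] at this
        rw [this]; exact hy.2
    have h1 := hc _ hy'
    calc y * (g * c * g⁻¹) = g * ((g⁻¹ * y * g) * c) * g⁻¹ := by group
      _ = g * (c * (g⁻¹ * y * g)) * g⁻¹ := by rw [h1]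
      _ = g * c * g⁻¹ * y := by group
  have hy₀S : y₀ ∈ S := by
    rw [hSmem]
    exact ⟨hy₀F, by rw [hy₀o]; exact (Nat.coprime_primes hq hp).2 hpq.symm⟩
  have hKnil : Group.IsNilpotent K := by
    refine nilpotent_of_le (hCN y₀ hy₀1) (fun c hc => ?_)
    exact Subgroup.mem_centralizer_singleton_iff.2 ((hKmem c).1 hc y₀ hy₀S).symm
  have hKF : K ≤ Fit := by
    rw [hFit]; exact Cfsg.Agent.Lib.Helper71.le_fittingSubgroup K hKnil
  have hPK : (P : Subgroup G) ≤ K := fun t ht => (hKmem t).2 (fun y hy => (hPS t ht y hy).symm)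
  have hPn : (P : Subgroup G).Normal :=
    sylow_normal_of_le_nilpotent_normal P hFnil (hPK.trans hKF)
  intro hbot
  have h4 : (P : Subgroup G) ≤ Cfsg.fittingHall G := by
    haveI := hPn
    exact sylow_le_fittingHall P
  rw [hbot] at h4
  exact hx1 ((Subgroup.mem_bot).1 (h4 hxP))

theorem fitting_eq_pCore {G : Type*} [Group G] [Finite G] {p : ℕ} [Fact p.Prime]
    (h : IsPGroup p (Cfsg.fittingSubgroup G)) : Cfsg.fittingSubgroup G = Cfsg.pCore p G := by
  apply le_antisymm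
  · exact le_sSup ⟨inferInstance, h⟩
  · exact Cfsg.Agent.Lib.Helper71.le_fittingSubgroup _
      (Cfsg.Agent.Lib.Helper84.pCore_isPGroup p G).isNilpotent

/-- In a CN-group with a self-centralizing nontrivial normal `p`-subgroup `Q`, every non-identity
element of order prime to `p` acts on `Q` without fixed points. -/
theorem fpf_on_core {G : Type*} [Group G] [Finite G] (hCN : IsCNGroup G) {p : ℕ}
    [Fact p.Prime] {Q : Subgroup G} (hQp : IsPGroup p Q)
    (hcent : Subgroup.centralizer (Q : Set G) ≤ Q) (hne : Q ≠ ⊥) {y : G} (hy1 : y ≠ 1)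
    (hy : (orderOf y).Coprime p) : Q ⊓ Subgroup.centralizer {y} = ⊥ := by
  have hp : p.Prime := Fact.out
  have hQnil : Group.IsNilpotent Q := hQp.isNilpotent
  have hdvd : p ∣ Nat.card Q := by
    obtain ⟨k, hk⟩ := hQp.exists_card_eq
    rcases Nat.eq_zero_or_pos k with h0 | hpos
    · rw [h0, pow_zero] at hk
      exact absurd (Subgroup.card_eq_one.1 hk) hne
    · rw [hk]; exact dvd_pow_self p hpos.ne'
  obtain ⟨z, hzQ, hz1, hzo, hzc⟩ := Cfsg.Agent.S1477.central_elt hQnil p hdvd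
  rw [eq_bot_iff]
  intro w hw
  obtain ⟨hwQ, hwy⟩ := Subgroup.mem_inf.1 hw
  rw [Subgroup.mem_bot]
  by_contra hw1
  have hwy' : w * y = y * w := Subgroup.mem_centralizer_singleton_iff.1 hwy
  have h1 : y * z = z * y := by
    apply Cfsg.Agent.S1477.comm_of_coprime (hCN w hw1)
    · exact Subgroup.mem_centralizer_singleton_iff.2 hwy'.symm
    · exact Subgroup.mem_centralizer_singleton_iff.2 (hzc w hwQ).symm
    · rw [hzo]; exact hy
  have h2 : y ∈ Subgroup.centralizer (Q : Set G) := by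
    rw [Subgroup.mem_centralizer_iff]
    intro f hf
    obtain ⟨j, hj⟩ := orderOf_of_mem_pgroup hQp hf
    apply Cfsg.Agent.S1477.comm_of_coprime (hCN z hz1)
    · exact Subgroup.mem_centralizer_singleton_iff.2 (hzc f hf)
    · exact Subgroup.mem_centralizer_singleton_iff.2 h1
    · rw [hj]; exact Nat.Coprime.pow_left j hy.symm
  obtain ⟨j, hj⟩ := orderOf_of_mem_pgroup hQp (hcent h2)
  rw [hj] at hy
  apply hy1
  rw [← orderOf_eq_one_iff, hj]
  rcases Nat.eq_zero_or_pos j with h0 | hpos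
  · rw [h0, pow_zero]
  · exfalso
    have h3 : p ∣ p ^ j := dvd_pow_self p hpos.ne'
    exact hp.one_lt.ne' (Nat.eq_one_of_dvd_coprimes hy h3 (dvd_refl p))

theorem pCore_quotient_eq_bot {G : Type*} [Group G] (p : ℕ) (Q : Subgroup G) [Q.Normal]
    (hQ : Q = Cfsg.pCore p G) : Cfsg.pCore p (G ⧸ Q) = ⊥ := by
  have hN : IsPGroup p (Cfsg.pCore p (G ⧸ Q)) := Cfsg.Agent.Lib.Helper84.pCore_isPGroup p _
  have hP : IsPGroup p Q := by rw [hQ]; exact Cfsg.Agent.Lib.Helper84.pCore_isPGroup p G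
  obtain ⟨C, hC⟩ : ∃ C : Subgroup G, C = (Cfsg.pCore p (G ⧸ Q)).comap (QuotientGroup.mk' Q) :=
    ⟨_, rfl⟩
  have hCn : C.Normal := by rw [hC]; infer_instance
  have hCmem : ∀ g : G, g ∈ C ↔ (QuotientGroup.mk g : G ⧸ Q) ∈ Cfsg.pCore p (G ⧸ Q) := by
    intro g; rw [hC]; rfl
  have hCp : IsPGroup p C := by
    rintro ⟨g, hg⟩
    obtain ⟨k, hk⟩ := hN ⟨QuotientGroup.mk g, (hCmem g).1 hg⟩
    have h1 : g ^ p ^ k ∈ Q := by
      rw [← QuotientGroup.eq_one_iff]
      have := congrArg Subtype.val hk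
      simpa using this
    obtain ⟨j, hj⟩ := hP ⟨g ^ p ^ k, h1⟩
    refine ⟨k + j, Subtype.ext ?_⟩
    have h2 := congrArg Subtype.val hj
    simp only [Subgroup.coe_pow, Subgroup.coe_one] at h2 ⊢
    rw [pow_add, pow_mul]
    exact h2
  have hle : C ≤ Q := by rw [hQ]; exact le_sSup ⟨hCn, hCp⟩
  rw [eq_bot_iff]
  intro x hx
  obtain ⟨g, rfl⟩ := QuotientGroup.mk_surjective x
  rw [Subgroup.mem_bot]
  exact (QuotientGroup.eq_one_iff g).2 (hle ((hCmem g).2 hx))

/-- Two involutions acting without fixed points on a normal subgroup `N` differ by an element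
centralizing `N`. -/
theorem involutions_centralize {G : Type*} [Group G] [Finite G] (N : Subgroup G) [N.Normal]
    {s t : G} (hs : s * s = 1) (ht : t * t = 1) (hsfix : ∀ n ∈ N, s * n = n * s → n = 1)
    (htfix : ∀ n ∈ N, t * n = n * t → n = 1) :
    s * t⁻¹ ∈ Subgroup.centralizer (N : Set G) := by
  have hsinv := Cfsg.Agent.Lib.Helper1.inverts_of_fpf_involution N s hs hsfix
  have htinv := Cfsg.Agent.Lib.Helper1.inverts_of_fpf_involution N t ht htfix
  have htinv' : t⁻¹ = t := inv_eq_of_mul_eq_one_right ht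
  rw [Subgroup.mem_centralizer_iff]
  intro n hn
  have h2 := htinv n hn
  have h3 := hsinv n⁻¹ (N.inv_mem hn)
  rw [inv_inv] at h3
  rw [htinv']
  symm
  calc s * t * n = s * (t * n * t⁻¹) * t := by group
    _ = (s * n⁻¹ * s⁻¹) * s * t := by rw [h2]; group
    _ = n * (s * t) := by rw [h3]; group


/-- Commutators centralize a cyclic normal subgroup. -/
theorem comm_mem_centralizer_of_cyclic {X : Type*} [Group X] (N : Subgroup X) [N.Normal]
    [IsCyclic N] (x y : X) : x * y * x⁻¹ * y⁻¹ ∈ Subgroup.centralizer (N : Set X) := by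
  have hcomm : ∀ f g : MulAut N, f * g = g * f := by
    intro f g
    apply (IsCyclic.mulAutMulEquiv N).injective
    rw [map_mul, map_mul, mul_comm]
  have h1 : MulAut.conjNormal (H := N) (x * y * x⁻¹ * y⁻¹) = 1 := by
    rw [map_mul, map_mul, map_mul, map_inv, map_inv,
      hcomm (MulAut.conjNormal x) (MulAut.conjNormal y)]
    group
  rw [Subgroup.mem_centralizer_iff]
  intro n hn
  have h2 := congrArg (fun f : MulAut N => ((f ⟨n, hn⟩ : N) : X)) h1
  simp only [MulAut.conjNormal_apply, MulAut.one_apply] at h2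
  calc n * (x * y * x⁻¹ * y⁻¹) = (x * y * x⁻¹ * y⁻¹ * n * (x * y * x⁻¹ * y⁻¹)⁻¹) *
        (x * y * x⁻¹ * y⁻¹) := by rw [h2]
    _ = x * y * x⁻¹ * y⁻¹ * n := by group

/-- Lifting a `p'`-subgroup of a quotient by a normal `p`-subgroup (Schur–Zassenhaus). -/
theorem exists_lift_pprime {G : Type*} [Group G] [Finite G] {p : ℕ} [Fact p.Prime]
    (Q : Subgroup G) [Q.Normal] (hQ : IsPGroup p Q) (B : Subgroup (G ⧸ Q))
    (hB : (Nat.card B).Coprime p) :
    ∃ H : Subgroup G, H ⊓ Q = ⊥ ∧ H.map (QuotientGroup.mk' Q) = B ∧ Nat.card H = Nat.card B := by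
  obtain ⟨L, hL⟩ : ∃ L : Subgroup G, L = B.comap (QuotientGroup.mk' Q) := ⟨_, rfl⟩
  have hLmem : ∀ g, g ∈ L ↔ (QuotientGroup.mk g : G ⧸ Q) ∈ B := by intro g; rw [hL]; rfl
  have hQL : Q ≤ L := fun g hg => (hLmem g).2 (by
    rw [(QuotientGroup.eq_one_iff g).2 hg]; exact B.one_mem)
  have hidx : (Q.subgroupOf L).index = Nat.card B := by
    have h1 : Q = (⊥ : Subgroup (G ⧸ Q)).comap (QuotientGroup.mk' Q) := by
      rw [MonoidHom.comap_bot, QuotientGroup.ker_mk']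
    have h2 : L.map (QuotientGroup.mk' Q) = B := by
      rw [hL]
      exact Subgroup.map_comap_eq_self_of_surjective (QuotientGroup.mk'_surjective Q) B
    change Q.relIndex L = _
    conv_lhs => rw [h1]
    rw [Subgroup.relIndex_comap, h2, Subgroup.relIndex_bot_left]
  have hcard : Nat.card (Q.subgroupOf L) = Nat.card Q :=
    Nat.card_congr (Subgroup.subgroupOfEquivOfLe hQL).toEquiv
  have hcop : (Nat.card (Q.subgroupOf L)).Coprime (Q.subgroupOf L).index := by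
    rw [hidx, hcard]
    obtain ⟨k, hk⟩ := hQ.exists_card_eq
    rw [hk]
    exact Nat.Coprime.pow_left k hB.symm
  obtain ⟨H', hH'⟩ := Subgroup.exists_right_complement'_of_coprime hcop
  refine ⟨H'.map L.subtype, ?_, ?_, ?_⟩
  · rw [eq_bot_iff]
    intro g hg
    obtain ⟨hg1, hg2⟩ := Subgroup.mem_inf.1 hg
    obtain ⟨h, hh, rfl⟩ := Subgroup.mem_map.1 hg1
    have h3 : h ∈ Q.subgroupOf L ⊓ H' := ⟨Subgroup.mem_subgroupOf.2 hg2, hh⟩
    rw [disjoint_iff.1 hH'.disjoint, Subgroup.mem_bot] at h3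
    rw [Subgroup.mem_bot, h3]; rfl
  · apply le_antisymm
    · rintro _ ⟨g, hg, rfl⟩
      obtain ⟨h, hh, rfl⟩ := Subgroup.mem_map.1 hg
      exact (hLmem _).1 h.2
    · intro b hb
      obtain ⟨g, rfl⟩ := QuotientGroup.mk_surjective b
      have hgL : g ∈ L := (hLmem g).2 hb
      obtain ⟨⟨⟨n, hn⟩, ⟨h, hh⟩⟩, hnh⟩ := hH'.2 ⟨g, hgL⟩
      have h4 : (n : G) * (h : G) = g := congrArg Subtype.val hnh
      refine ⟨(h : G), Subgroup.mem_map.2 ⟨h, hh, rfl⟩, ?_⟩
      rw [← h4]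
      change (QuotientGroup.mk (h : G) : G ⧸ Q) = QuotientGroup.mk ((n : G) * (h : G))
      rw [QuotientGroup.mk_mul, (QuotientGroup.eq_one_iff (n : G)).2 (Subgroup.mem_subgroupOf.1 hn),
        one_mul]
  · rw [Subgroup.card_map_of_injective L.subtype_injective, ← hidx]
    exact hH'.symm.index_eq_card.symm


/-- If `O_p(X) = 1` then no normal nilpotent subgroup of `X` has order divisible by `p`. -/
theorem not_dvd_card_of_pCore_eq_bot {X : Type*} [Group X] [Finite X] {p : ℕ} [Fact p.Prime]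
    (hcore : Cfsg.pCore p X = ⊥) (N : Subgroup X) [N.Normal] (hN : Group.IsNilpotent N) :
    ¬ p ∣ Nat.card N := by
  intro hdvd
  obtain ⟨z, hzN, hz1, hzo, hzc⟩ := Cfsg.Agent.S1477.central_elt hN p hdvd
  let W : Subgroup X :=
    { carrier := {w | w ∈ centerOf N ∧ w ^ p = 1}
      mul_mem' := by
        rintro a b ⟨ha, hap⟩ ⟨hb, hbp⟩
        refine ⟨Subgroup.mul_mem _ ha hb, ?_⟩
        have hab : Commute a b := by
          have h1 := (Subgroup.mem_centralizer_iff.1 (Subgroup.mem_inf.1 hb).2) a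
            (Subgroup.mem_inf.1 ha).1
          exact h1
        rw [hab.mul_pow, hap, hbp, one_mul]
      one_mem' := ⟨Subgroup.one_mem _, one_pow p⟩
      inv_mem' := by
        rintro a ⟨ha, hap⟩
        exact ⟨Subgroup.inv_mem _ ha, by rw [inv_pow, hap, inv_one]⟩ }
  have hWn : W.Normal := by
    refine ⟨fun w hw g => ?_⟩
    obtain ⟨hw1, hw2⟩ := hw
    refine ⟨(inferInstance : (centerOf N).Normal).conj_mem w hw1 g, ?_⟩
    rw [conj_pow, hw2, mul_one, mul_inv_cancel]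
  have hWp : IsPGroup p W := by
    rintro ⟨w, hw⟩
    exact ⟨1, Subtype.ext (by simpa using hw.2)⟩
  have hzW : z ∈ W := by
    refine ⟨Subgroup.mem_inf.2 ⟨hzN, ?_⟩, ?_⟩
    · rw [Subgroup.mem_centralizer_iff]
      intro h hh
      exact hzc h hh
    · rw [← hzo]; exact pow_orderOf_eq_one z
  have h5 := Cfsg.Agent.Lib.Helper84.le_pCore hWn hWp hzW
  rw [hcore, Subgroup.mem_bot] at h5
  exact hz1 h5

/-- In a finite solvable CN-group with cyclic Fitting subgroup `F`: commutators lie in `F`,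
conjugation preserves cyclic subgroups of `F`, and no element outside `F` centralizes a
non-identity element of `F`. -/
theorem cyclic_fitting_facts {X : Type*} [Group X] [Finite X] [Group.IsSolvable X]
    (hCN : IsCNGroup X) (hcyc : IsCyclic (Cfsg.fittingSubgroup X)) :
    (∀ x y : X, x * y * x⁻¹ * y⁻¹ ∈ Cfsg.fittingSubgroup X) ∧
    (∀ x : X, ∀ a ∈ Cfsg.fittingSubgroup X, x * a * x⁻¹ ∈ Subgroup.zpowers a) ∧
    (∀ x : X, x ∉ Cfsg.fittingSubgroup X → ∀ a ∈ Cfsg.fittingSubgroup X, a ≠ 1 →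
      x * a ≠ a * x) := by
  obtain ⟨F, hF⟩ : ∃ F : Subgroup X, F = Cfsg.fittingSubgroup X := ⟨_, rfl⟩
  rw [← hF] at hcyc ⊢
  haveI hFn : F.Normal := by rw [hF]; infer_instance
  have hcentF : Subgroup.centralizer (F : Set X) ≤ F := by
    rw [hF]; exact Cfsg.Agent.S0044.result
  have hcomm : ∀ x y : X, x * y * x⁻¹ * y⁻¹ ∈ F := fun x y =>
    hcentF (comm_mem_centralizer_of_cyclic F x y)
  have hFab : ∀ a ∈ F, ∀ b ∈ F, a * b = b * a := by
    intro a ha b hb
    have := (IsCyclic.commGroup (α := F)).mul_comm ⟨a, ha⟩ ⟨b, hb⟩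
    exact congrArg Subtype.val this
  refine ⟨hcomm, ?_, ?_⟩
  · intro x a ha
    obtain ⟨g₀, hg₀⟩ := IsCyclic.exists_generator (α := F)
    obtain ⟨j, hj⟩ := Subgroup.mem_zpowers_iff.1 (hg₀ ⟨a, ha⟩)
    obtain ⟨i, hi⟩ := Subgroup.mem_zpowers_iff.1
      (hg₀ ⟨x * (g₀ : X) * x⁻¹, hFn.conj_mem _ g₀.2 x⟩)
    have hj' : (g₀ : X) ^ j = a := by
      have := congrArg Subtype.val hj
      simpa using this
    have hi' : (g₀ : X) ^ i = x * (g₀ : X) * x⁻¹ := by
      have := congrArg Subtype.val hi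
      simpa using this
    rw [Subgroup.mem_zpowers_iff]
    refine ⟨i, ?_⟩
    rw [← hj', ← zpow_mul, mul_comm, zpow_mul, hi', conj_zpow]
  · intro x hx a ha ha1 hxa
    obtain ⟨L, hL⟩ : ∃ L : Subgroup X, L = F ⊔ Subgroup.zpowers x := ⟨_, rfl⟩
    have hFL : F ≤ L := by rw [hL]; exact le_sup_left
    have hxL : x ∈ L := by rw [hL]; exact (le_sup_right : Subgroup.zpowers x ≤ F ⊔ Subgroup.zpowers x) (Subgroup.mem_zpowers x)
    have hLc : L ≤ Subgroup.centralizer {a} := by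
      rw [hL]
      apply sup_le
      · intro f hf
        exact Subgroup.mem_centralizer_singleton_iff.2 (hFab f hf a ha)
      · rw [Subgroup.zpowers_le]
        exact Subgroup.mem_centralizer_singleton_iff.2 hxa
    have hLnil : Group.IsNilpotent L := nilpotent_of_le (hCN a ha1) hLc
    haveI hLn : L.Normal := by
      refine ⟨fun l hl g => ?_⟩
      have h1 : g * l * g⁻¹ = (g * l * g⁻¹ * l⁻¹) * l := by group
      rw [h1]
      exact L.mul_mem (hFL (hcomm g l)) hl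
    have hLF : L ≤ F := by
      rw [hF]; exact Cfsg.Agent.Lib.Helper71.le_fittingSubgroup L hLnil
    exact hx (hLF hxL)


theorem nilpotent_of_forall_mem {X : Type*} [Group X] {K : Subgroup X}
    (hK : Group.IsNilpotent K) (h : ∀ x : X, x ∈ K) : Group.IsNilpotent X := by
  haveI := hK
  exact Group.nilpotent_of_surjective K.subtype (fun x => ⟨⟨x, h x⟩, rfl⟩)

/-- The Fitting subgroup of `G ⧸ Q` lifts to a cyclic complement of odd order. -/
theorem ts_quot {G : Type*} [Group G] [Finite G] [Group.IsSolvable G] (hCN : IsCNGroup G)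
    {p : ℕ} [Fact p.Prime] (Q : Subgroup G) [Q.Normal] (hQp : IsPGroup p Q) (hQne : Q ≠ ⊥)
    (hcent : Subgroup.centralizer (Q : Set G) ≤ Q) (hcore : Cfsg.pCore p (G ⧸ Q) = ⊥)
    (hq : IsCNGroup (G ⧸ Q)) (hnn : ¬ Group.IsNilpotent (G ⧸ Q)) :
    ∃ A : Subgroup G, A ⊓ Q = ⊥ ∧
      A.map (QuotientGroup.mk' Q) = Cfsg.fittingSubgroup (G ⧸ Q) ∧ IsCyclic A ∧
      Odd (Nat.card A) ∧ (Nat.card A).Coprime p ∧ A ≠ ⊥ ∧
      IsCyclic (Cfsg.fittingSubgroup (G ⧸ Q)) ∧
      (Nat.card (Cfsg.fittingSubgroup (G ⧸ Q))).Coprime p ∧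
      (∀ a ∈ A, a ≠ 1 → Q ⊓ Subgroup.centralizer ({a} : Set G) = ⊥) := by
  have hp : p.Prime := Fact.out
  obtain ⟨F, hF⟩ : ∃ F : Subgroup (G ⧸ Q), F = Cfsg.fittingSubgroup (G ⧸ Q) := ⟨_, rfl⟩
  rw [← hF]
  haveI hFn : F.Normal := by rw [hF]; infer_instance
  have hFnil : Group.IsNilpotent F := by
    rw [hF]; exact Cfsg.Agent.Lib.Helper71.fittingSubgroup_isNilpotent
  have hcentF : Subgroup.centralizer (F : Set (G ⧸ Q)) ≤ F := by
    rw [hF]; exact Cfsg.Agent.S0044.result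
  have hpF : ¬ p ∣ Nat.card F := not_dvd_card_of_pCore_eq_bot hcore F hFnil
  have hcopF : (Nat.card F).Coprime p := ((Nat.Prime.coprime_iff_not_dvd hp).2 hpF).symm
  obtain ⟨A, hAQ, hAmap, hAcard⟩ := exists_lift_pprime Q hQp F hcopF
  have hcopA : ∀ a ∈ A, (orderOf a).Coprime p := fun a ha =>
    Nat.Coprime.coprime_dvd_left (Subgroup.orderOf_dvd_natCard A ha) (hAcard ▸ hcopF)
  have hfpf : ∀ a ∈ A, a ≠ 1 → Q ⊓ Subgroup.centralizer ({a} : Set G) = ⊥ :=
    fun a ha ha1 => fpf_on_core hCN hQp hcent hQne ha1 (hcopA a ha)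
  have hfpf' : ∀ h ∈ A, h ≠ 1 → ∀ k ∈ Q, h * k = k * h → k = 1 := by
    intro h hh hh1 k hk hhk
    have h1 : k ∈ Q ⊓ Subgroup.centralizer ({h} : Set G) :=
      Subgroup.mem_inf.2 ⟨hk, Subgroup.mem_centralizer_singleton_iff.2 hhk.symm⟩
    rw [hfpf h hh hh1] at h1
    exact Subgroup.mem_bot.1 h1
  have hFne : F ≠ ⊥ := by
    intro hbot
    apply hnn
    refine nilpotent_of_forall_mem hFnil (fun x => hcentF ?_)
    rw [Subgroup.mem_centralizer_iff]
    intro f hf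
    rw [hbot, SetLike.mem_coe, Subgroup.mem_bot] at hf
    rw [hf, one_mul, mul_one]
  have hAne : A ≠ ⊥ := by
    intro hbot
    apply hFne
    rw [← Subgroup.card_eq_one, ← hAcard, hbot, Subgroup.card_bot]
  have hmem : ∀ a : A, (QuotientGroup.mk' Q) (a : G) ∈ F := fun a => by
    rw [← hAmap]; exact Subgroup.mem_map_of_mem _ a.2
  obtain ⟨φ, hφ⟩ : ∃ φ : A →* F, ∀ a : A, ((φ a : F) : G ⧸ Q) = QuotientGroup.mk (a : G) :=
    ⟨((QuotientGroup.mk' Q).comp A.subtype).codRestrict F hmem, fun a => rfl⟩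
  have hφinj : Function.Injective φ := by
    rw [injective_iff_map_eq_one]
    intro a ha
    have h1 : (QuotientGroup.mk (a : G) : G ⧸ Q) = 1 := by rw [← hφ a, ha]; rfl
    have h2 : (a : G) ∈ A ⊓ Q := Subgroup.mem_inf.2 ⟨a.2, (QuotientGroup.eq_one_iff _).1 h1⟩
    rw [hAQ, Subgroup.mem_bot] at h2
    exact Subtype.ext h2
  have hφbij : Function.Bijective φ :=
    Function.Injective.bijective_of_nat_card_le hφinj (le_of_eq hAcard.symm)
  have hAnil : Group.IsNilpotent A := by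
    haveI := hFnil
    refine isNilpotent_of_ker_le_center φ ?_
    rw [(MonoidHom.ker_eq_bot_iff φ).2 hφinj]
    exact bot_le
  have hodd : Odd (Nat.card A) := by
    by_contra hnodd
    rw [Nat.not_odd_iff_even] at hnodd
    have h2 : 2 ∣ Nat.card A := hnodd.two_dvd
    haveI : Fact (Nat.Prime 2) := ⟨Nat.prime_two⟩
    obtain ⟨t, ht⟩ := exists_prime_orderOf_dvd_card' 2 h2
    have htG : orderOf (t : G) = 2 := by rw [Subgroup.orderOf_coe, ht]
    have ht2 : (t : G) * (t : G) = 1 := by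
      rw [← pow_two, ← htG]; exact pow_orderOf_eq_one _
    have ht1 : (t : G) ≠ 1 := by
      intro h
      rw [h, orderOf_one] at htG
      omega
    have hp2 : p ≠ 2 := by
      rintro rfl
      exact hpF (hAcard ▸ h2)
    have hcop2 : Nat.Coprime 2 p := (Nat.coprime_primes Nat.prime_two hp).2 hp2.symm
    have htfix : ∀ n ∈ Q, (t : G) * n = n * (t : G) → n = 1 := hfpf' _ t.2 ht1
    have hcentral : ∀ g : G, (QuotientGroup.mk g : G ⧸ Q) * QuotientGroup.mk (t : G) =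
        QuotientGroup.mk (t : G) * QuotientGroup.mk g := by
      intro g
      have hs2 : (g * (t : G) * g⁻¹) * (g * (t : G) * g⁻¹) = 1 := by
        calc (g * (t : G) * g⁻¹) * (g * (t : G) * g⁻¹) = g * ((t : G) * (t : G)) * g⁻¹ := by group
          _ = 1 := by rw [ht2]; group
      have hs1 : g * (t : G) * g⁻¹ ≠ 1 := by
        intro h
        apply ht1
        calc (t : G) = g⁻¹ * (g * (t : G) * g⁻¹) * g := by group
          _ = 1 := by rw [h]; group
      have hsfix : ∀ n ∈ Q, (g * (t : G) * g⁻¹) * n = n * (g * (t : G) * g⁻¹) → n = 1 := by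
        intro n hn hcomm
        have h1 : n ∈ Q ⊓ Subgroup.centralizer ({g * (t : G) * g⁻¹} : Set G) :=
          Subgroup.mem_inf.2 ⟨hn, Subgroup.mem_centralizer_singleton_iff.2 hcomm.symm⟩
        rw [fpf_on_core hCN hQp hcent hQne hs1
          (by rw [Cfsg.Agent.S1477.orderOf_conj', htG]; exact hcop2)] at h1
        exact Subgroup.mem_bot.1 h1
      have h3 := hcent (involutions_centralize Q hs2 ht2 hsfix htfix)
      have h4 : (QuotientGroup.mk (g * (t : G) * g⁻¹ * (t : G)⁻¹) : G ⧸ Q) = 1 :=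
        (QuotientGroup.eq_one_iff _).2 h3
      rw [QuotientGroup.mk_mul, QuotientGroup.mk_mul, QuotientGroup.mk_mul, QuotientGroup.mk_inv,
        QuotientGroup.mk_inv] at h4
      calc (QuotientGroup.mk g : G ⧸ Q) * QuotientGroup.mk (t : G)
          = ((QuotientGroup.mk g : G ⧸ Q) * QuotientGroup.mk (t : G) * (QuotientGroup.mk g)⁻¹ *
            (QuotientGroup.mk (t : G))⁻¹) * (QuotientGroup.mk (t : G) * QuotientGroup.mk g) := by
            group
        _ = QuotientGroup.mk (t : G) * QuotientGroup.mk g := by rw [h4, one_mul]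
    have htq1 : (QuotientGroup.mk (t : G) : G ⧸ Q) ≠ 1 := by
      intro h
      have h2 : (t : G) ∈ A ⊓ Q := Subgroup.mem_inf.2 ⟨t.2, (QuotientGroup.eq_one_iff _).1 h⟩
      rw [hAQ, Subgroup.mem_bot] at h2
      exact ht1 h2
    apply hnn
    refine nilpotent_of_forall_mem (hq _ htq1) (fun x => ?_)
    obtain ⟨g, rfl⟩ := QuotientGroup.mk_surjective x
    exact Subgroup.mem_centralizer_singleton_iff.2 (hcentral g)
  haveI hZ : IsZGroup A :=
    ⟨fun r hr P => by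
      haveI : Fact r.Prime := ⟨hr⟩
      exact Cfsg.Agent.Lib.Helper1.sylow_cyclic_of_fpf_odd Q A hQne hfpf' hodd r P⟩
  haveI := hAnil
  have hAcyc : IsCyclic A := inferInstance
  have hFcyc : IsCyclic F := isCyclic_of_surjective φ hφbij.2
  exact ⟨A, hAQ, hAmap, hAcyc, hodd, hAcard ▸ hcopF, hAne, hFcyc, hcopF, hfpf⟩


/-- The index of the Fitting subgroup of `G ⧸ Q` is a power of `p`. -/
theorem ts_index {G : Type*} [Group G] [Finite G] [Group.IsSolvable G] (hCN : IsCNGroup G)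
    {p : ℕ} [Fact p.Prime] (Q : Subgroup G) [Q.Normal] (hQp : IsPGroup p Q) (hQne : Q ≠ ⊥)
    (hcent : Subgroup.centralizer (Q : Set G) ≤ Q)
    (hq : IsCNGroup (G ⧸ Q)) (hcyc : IsCyclic (Cfsg.fittingSubgroup (G ⧸ Q)))
    (hne : Cfsg.fittingSubgroup (G ⧸ Q) ≠ ⊥)
    (hcop : (Nat.card (Cfsg.fittingSubgroup (G ⧸ Q))).Coprime p) :
    ∃ n : ℕ, (Cfsg.fittingSubgroup (G ⧸ Q)).index = p ^ n := by
  have hp : p.Prime := Fact.out
  obtain ⟨hcomm, hconj, hfrob⟩ := cyclic_fitting_facts hq hcyc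
  obtain ⟨F, hF⟩ : ∃ F : Subgroup (G ⧸ Q), F = Cfsg.fittingSubgroup (G ⧸ Q) := ⟨_, rfl⟩
  rw [← hF] at hcomm hconj hfrob hcyc hne hcop ⊢
  haveI hFn : F.Normal := by rw [hF]; infer_instance
  refine ⟨_, Nat.eq_prime_pow_of_unique_prime_dvd (Subgroup.index_ne_zero_of_finite) ?_⟩
  intro r hr hdvd
  by_contra hrp
  haveI : Fact r.Prime := ⟨hr⟩
  obtain ⟨R⟩ : Nonempty (Sylow r (G ⧸ Q)) := inferInstance
  have hRF : ¬ (R : Subgroup (G ⧸ Q)) ≤ F := by
    intro hle
    exact R.not_dvd_index (dvd_trans hdvd (Subgroup.index_dvd_of_le hle))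
  obtain ⟨y, hyR, hyF⟩ := SetLike.not_le_iff_exists.1 hRF
  obtain ⟨k, hk⟩ := orderOf_of_mem_sylow R hyR
  have hk0 : k ≠ 0 := by
    rintro rfl
    rw [pow_zero, orderOf_eq_one_iff] at hk
    exact hyF (hk ▸ F.one_mem)
  obtain ⟨u, hu⟩ : ∃ u : G ⧸ Q, u = y ^ r ^ (k - 1) := ⟨_, rfl⟩
  have hur : u ^ r = 1 := by
    rw [hu, ← pow_mul, ← pow_succ, Nat.sub_add_cancel (Nat.one_le_iff_ne_zero.2 hk0), ← hk]
    exact pow_orderOf_eq_one y
  have hu1 : u ≠ 1 := by
    rw [hu]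
    apply pow_ne_one_of_lt_orderOf (pow_ne_zero _ hr.ne_zero)
    rw [hk]
    exact Nat.pow_lt_pow_right hr.one_lt (by omega)
  have huo : orderOf u = r := orderOf_eq_prime hur hu1
  have huF : u ∉ F := by
    intro huF
    apply hfrob y hyF u huF hu1
    rw [hu, ← pow_succ, ← pow_succ']
  -- an element of prime order in `F`
  have hFcard : Nat.card F ≠ 1 := fun h => hne (Subgroup.card_eq_one.1 h)
  obtain ⟨q, hqp, hqdvd⟩ := Nat.exists_prime_and_dvd hFcard
  haveI : Fact q.Prime := ⟨hqp⟩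
  obtain ⟨a₀', ha₀'⟩ := exists_prime_orderOf_dvd_card' q hqdvd
  obtain ⟨a₀, ha₀⟩ : ∃ a₀ : G ⧸ Q, a₀ = (a₀' : G ⧸ Q) := ⟨_, rfl⟩
  have ha₀F : a₀ ∈ F := by rw [ha₀]; exact a₀'.2
  have ha₀o : orderOf a₀ = q := by rw [ha₀, Subgroup.orderOf_coe, ha₀']
  have ha₀1 : a₀ ≠ 1 := by
    intro h
    rw [h, orderOf_one] at ha₀o
    exact hqp.one_lt.ne ha₀o
  have hqne : q ≠ p := by
    rintro rfl
    exact hqp.one_lt.ne' (Nat.eq_one_of_dvd_coprimes hcop hqdvd (dvd_refl q))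
  haveI hZn : (Subgroup.zpowers a₀).Normal := by
    refine ⟨fun w hw g => ?_⟩
    obtain ⟨i, rfl⟩ := Subgroup.mem_zpowers_iff.1 hw
    rw [← conj_zpow]
    exact Subgroup.zpow_mem _ (hconj g a₀ ha₀F) i
  have hdisj : Disjoint (Subgroup.zpowers a₀) (Subgroup.zpowers u) := by
    rw [disjoint_iff]
    have h1 : Nat.card (Subgroup.zpowers a₀ ⊓ Subgroup.zpowers u : Subgroup (G ⧸ Q)) ∣ r := by
      have := Subgroup.card_dvd_of_le
        (inf_le_right : Subgroup.zpowers a₀ ⊓ Subgroup.zpowers u ≤ Subgroup.zpowers u)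
      rwa [Nat.card_zpowers, huo] at this
    rcases (Nat.dvd_prime hr).1 h1 with h2 | h2
    · exact Subgroup.card_eq_one.1 h2
    · exfalso
      have h3 : Subgroup.zpowers a₀ ⊓ Subgroup.zpowers u = Subgroup.zpowers u :=
        Subgroup.eq_of_le_of_card_ge inf_le_right (by rw [h2, Nat.card_zpowers, huo])
      have h4 : u ∈ Subgroup.zpowers a₀ ⊓ Subgroup.zpowers u := by
        rw [h3]; exact Subgroup.mem_zpowers u
      exact huF ((Subgroup.zpowers_le.2 ha₀F) (Subgroup.mem_inf.1 h4).1)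
  obtain ⟨B, hB⟩ : ∃ B : Subgroup (G ⧸ Q), B = Subgroup.zpowers u ⊔ Subgroup.zpowers a₀ :=
    ⟨_, rfl⟩
  have hBcard : Nat.card B = q * r := by
    rw [hB, Cfsg.Agent.Lib.Helper4.CN.card_sup_of_normal_disjoint _ _ hdisj, Nat.card_zpowers,
      Nat.card_zpowers, ha₀o, huo]
  have hcopB : (Nat.card B).Coprime p := by
    rw [hBcard]
    exact Nat.Coprime.mul_left ((Nat.coprime_primes hqp hp).2 hqne)
      ((Nat.coprime_primes hr hp).2 hrp)
  obtain ⟨H, hHQ, hHmap, hHcard⟩ := exists_lift_pprime Q hQp B hcopB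
  have hfpf : ∀ a ∈ H, a ≠ 1 → centerOf Q ⊓ Subgroup.centralizer ({a} : Set G) = ⊥ := by
    intro a ha ha1
    have h1 := fpf_on_core hCN hQp hcent hQne ha1
      (Nat.Coprime.coprime_dvd_left (Subgroup.orderOf_dvd_natCard H ha) (hHcard ▸ hcopB))
    rw [eq_bot_iff, ← h1]
    exact inf_le_inf_right _ inf_le_left
  have hHV : H ≤ Subgroup.normalizer ((centerOf Q : Subgroup G) : Set G) := by
    intro h _
    rw [Subgroup.mem_normalizer_iff]
    intro w
    refine ⟨fun hw => (inferInstance : (centerOf Q).Normal).conj_mem w hw h, fun hw => ?_⟩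
    have := (inferInstance : (centerOf Q).Normal).conj_mem _ hw h⁻¹
    simpa [mul_assoc] using this
  have hHcyc : IsCyclic H := Cfsg.Agent.S0041.result H (centerOf Q)
    (centerOf_ne_bot hQne hQp.isNilpotent) hHV hfpf
    (Or.inr ⟨q, r, hqp, hr, hHcard.trans hBcard⟩)
  have huB : u ∈ B := by
    rw [hB]
    exact (le_sup_left : Subgroup.zpowers u ≤ Subgroup.zpowers u ⊔ Subgroup.zpowers a₀)
      (Subgroup.mem_zpowers u)
  have haB : a₀ ∈ B := by
    rw [hB]
    exact (le_sup_right : Subgroup.zpowers a₀ ≤ Subgroup.zpowers u ⊔ Subgroup.zpowers a₀)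
      (Subgroup.mem_zpowers a₀)
  rw [← hHmap] at huB haB
  obtain ⟨uG, huG, huG'⟩ := Subgroup.mem_map.1 huB
  obtain ⟨aG, haG, haG'⟩ := Subgroup.mem_map.1 haB
  have hcommH : uG * aG = aG * uG := by
    have := (IsCyclic.commGroup (α := H)).mul_comm ⟨uG, huG⟩ ⟨aG, haG⟩
    exact congrArg Subtype.val this
  apply hfrob u huF a₀ ha₀F ha₀1
  rw [← huG', ← haG', ← map_mul, ← map_mul, hcommH]

/-- The structure of a "three-step" solvable CN-group: `Q = O_p(G)`, `K = O_{p,p'}(G)`. -/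
structure IsTS (p : ℕ) {G : Type*} [Group G] (Q K : Subgroup G) : Prop where
  core_eq : Q = Cfsg.pCore p G
  normal : K.Normal
  core_le : Q ≤ K
  core_ne : Q ≠ ⊥
  cent : Subgroup.centralizer (Q : Set G) ≤ Q
  ne_top : K ≠ ⊤
  pprime_mem : ∀ c : G, (orderOf c).Coprime p → c ∈ K
  pelt_mem : ∀ x ∈ K, (∃ j, orderOf x = p ^ j) → x ∈ Q
  frob : ∀ x : G, x ∉ K → ∀ a ∈ K, a ∉ Q → x * a * x⁻¹ * a⁻¹ ∉ Q
  comm_mem : ∀ x y : G, x * y * x⁻¹ * y⁻¹ ∈ K
  ne_core : ∃ c ∈ K, c ∉ Q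
  fpf : ∀ y : G, y ≠ 1 → (orderOf y).Coprime p → Q ⊓ Subgroup.centralizer ({y} : Set G) = ⊥

theorem ts_core {G : Type*} [Group G] [Finite G] [Group.IsSolvable G] (hCN : IsCNGroup G)
    {p : ℕ} [Fact p.Prime] (hFH : Cfsg.fittingHall G = ⊥) (Q : Subgroup G) [Q.Normal]
    (hQ : Q = Cfsg.pCore p G) (hFit : Cfsg.fittingSubgroup G = Q) (hQne : Q ≠ ⊥) :
    Cfsg.IsThreeStepGroup p G ∧ ∃ K : Subgroup G, IsTS p Q K := by
  have hp : p.Prime := Fact.out
  have hQp : IsPGroup p Q := by rw [hQ]; exact Cfsg.Agent.Lib.Helper84.pCore_isPGroup p G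
  have hcent : Subgroup.centralizer (Q : Set G) ≤ Q := by
    have := Cfsg.Agent.S0044.result (G := G)
    rwa [hFit] at this
  have hcore : Cfsg.pCore p (G ⧸ Q) = ⊥ := pCore_quotient_eq_bot p Q hQ
  have hq : IsCNGroup (G ⧸ Q) := Cfsg.Agent.S1473.result hCN Q inferInstance
  have hnn : ¬ Group.IsNilpotent (G ⧸ Q) := by
    intro hnil
    obtain ⟨T, hT⟩ : ∃ T : Subgroup (G ⧸ Q), T = ⊤ := ⟨_, rfl⟩
    haveI : T.Normal := by rw [hT]; infer_instance
    have hTnil : Group.IsNilpotent T := by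
      haveI := hnil
      rw [hT]
      exact Group.nilpotent_of_mulEquiv Subgroup.topEquiv.symm
    have h1 := not_dvd_card_of_pCore_eq_bot hcore T hTnil
    rw [hT, Subgroup.card_top] at h1
    have h2 : Q ≤ Cfsg.fittingHall G := by
      apply le_fittingHall Q hQp.isNilpotent
      obtain ⟨k, hk⟩ := hQp.exists_card_eq
      rw [hk, Subgroup.index_eq_card]
      exact Nat.Coprime.pow_left k ((Nat.Prime.coprime_iff_not_dvd hp).2 h1)
    rw [hFH] at h2
    exact hQne (eq_bot_iff.2 h2)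
  obtain ⟨A, hAQ, hAmap, hAcyc, hAodd, hAcop, hAne, hFcyc, hFcop, hfpf⟩ :=
    ts_quot hCN Q hQp hQne hcent hcore hq hnn
  obtain ⟨hcomm, hconj, hfrob⟩ := cyclic_fitting_facts hq hFcyc
  have hFnil : Group.IsNilpotent (Cfsg.fittingSubgroup (G ⧸ Q)) :=
    Cfsg.Agent.Lib.Helper71.fittingSubgroup_isNilpotent
  have hFne : Cfsg.fittingSubgroup (G ⧸ Q) ≠ ⊥ := by
    intro hbot
    rw [hbot] at hAmap
    apply hAne
    rw [eq_bot_iff]
    intro a ha
    have h1 : (QuotientGroup.mk' Q) a ∈ A.map (QuotientGroup.mk' Q) :=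
      Subgroup.mem_map_of_mem _ ha
    rw [hAmap, Subgroup.mem_bot] at h1
    have h2 : a ∈ A ⊓ Q := Subgroup.mem_inf.2 ⟨ha, (QuotientGroup.eq_one_iff _).1 h1⟩
    rwa [hAQ] at h2
  obtain ⟨n, hn⟩ := ts_index hCN Q hQp hQne hcent hq hFcyc hFne hFcop
  obtain ⟨F, hF⟩ : ∃ F : Subgroup (G ⧸ Q), F = Cfsg.fittingSubgroup (G ⧸ Q) := ⟨_, rfl⟩
  rw [← hF] at hAmap hFcyc hFcop hcomm hconj hfrob hFnil hFne hn
  haveI hFn : F.Normal := by rw [hF]; infer_instance
  obtain ⟨K, hK⟩ : ∃ K : Subgroup G, K = F.comap (QuotientGroup.mk' Q) := ⟨_, rfl⟩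
  have hKmem : ∀ g, g ∈ K ↔ (QuotientGroup.mk g : G ⧸ Q) ∈ F := by intro g; rw [hK]; rfl
  haveI hKn : K.Normal := by rw [hK]; infer_instance
  have hQK : Q ≤ K := fun g hg => (hKmem g).2 (by
    rw [(QuotientGroup.eq_one_iff g).2 hg]; exact F.one_mem)
  have hAK : A ≤ K := fun a ha => (hKmem a).2 (by
    rw [← hAmap]; exact Subgroup.mem_map_of_mem (QuotientGroup.mk' Q) ha)
  have hKsup : Q ⊔ A = K := by
    apply le_antisymm (sup_le hQK hAK)
    intro g hg
    have h1 := (hKmem g).1 hg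
    rw [← hAmap] at h1
    obtain ⟨a, ha, ha'⟩ := Subgroup.mem_map.1 h1
    have h2 : a⁻¹ * g ∈ Q := QuotientGroup.eq.1 ha'
    have h3 : g = (g * (a⁻¹ * g) * g⁻¹) * a := by group
    rw [h3]
    exact Subgroup.mul_mem _
      ((le_sup_left : Q ≤ Q ⊔ A) ((inferInstance : Q.Normal).conj_mem _ h2 g))
      ((le_sup_right : A ≤ Q ⊔ A) ha)
  have hKidx : K.index = p ^ n := by
    rw [hK, Subgroup.index_comap_of_surjective F (QuotientGroup.mk'_surjective Q), hn]
  have hKtop : K ≠ ⊤ := by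
    intro htop
    apply hnn
    refine nilpotent_of_forall_mem hFnil (fun x => ?_)
    obtain ⟨g, rfl⟩ := QuotientGroup.mk_surjective x
    exact (hKmem g).1 (htop ▸ Subgroup.mem_top g)
  have hAQ1 : ∀ a ∈ A, a ≠ 1 → a ∉ Q := by
    intro a ha ha1 haQ
    have h2 : a ∈ A ⊓ Q := Subgroup.mem_inf.2 ⟨ha, haQ⟩
    rw [hAQ, Subgroup.mem_bot] at h2
    exact ha1 h2
  have hfrobG : ∀ x : G, x ∉ K → ∀ a ∈ K, a ∉ Q → x * a * x⁻¹ * a⁻¹ ∉ Q := by
    intro x hx a ha haQ hmem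
    have h1 : (QuotientGroup.mk (x * a * x⁻¹ * a⁻¹) : G ⧸ Q) = 1 :=
      (QuotientGroup.eq_one_iff _).2 hmem
    rw [QuotientGroup.mk_mul, QuotientGroup.mk_mul, QuotientGroup.mk_mul, QuotientGroup.mk_inv,
      QuotientGroup.mk_inv] at h1
    apply hfrob (QuotientGroup.mk x) (fun h => hx ((hKmem x).2 h)) (QuotientGroup.mk a)
      ((hKmem a).1 ha) (fun h => haQ ((QuotientGroup.eq_one_iff a).1 h))
    calc (QuotientGroup.mk x : G ⧸ Q) * QuotientGroup.mk a
        = ((QuotientGroup.mk x : G ⧸ Q) * QuotientGroup.mk a * (QuotientGroup.mk x)⁻¹ *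
          (QuotientGroup.mk a)⁻¹) * (QuotientGroup.mk a * QuotientGroup.mk x) := by group
      _ = QuotientGroup.mk a * QuotientGroup.mk x := by rw [h1, one_mul]
  refine ⟨⟨hQ ▸ hQne, A, hAne, hAcyc, hAodd, hAcop, ?_, ?_, ?_, ?_, ?_⟩, K, ?_⟩
  · rw [← hQ, hKsup]; exact hKn
  · rw [← hQ, hKsup]; exact hKtop
  · rw [← hQ, hKsup]; exact ⟨n, hKidx⟩
  · rw [← hQ]; exact hfpf
  · rw [← hQ, hKsup]
    intro x hx a ha ha1
    exact hfrobG x hx a (hAK ha) (hAQ1 a ha ha1)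
  · refine ⟨hQ, hKn, hQK, hQne, hcent, hKtop, ?_, ?_, hfrobG, ?_, ?_, ?_⟩
    · intro c hc
      apply Cfsg.Agent.Lib.Helper1.mem_of_coprime_index K c
      rw [hKidx]
      exact Nat.Coprime.pow_right n hc
    · intro x hx ⟨j, hj⟩
      have h1 : (QuotientGroup.mk x : G ⧸ Q) ∈ F := (hKmem x).1 hx
      have h2 : orderOf (QuotientGroup.mk x : G ⧸ Q) ∣ p ^ j := by
        rw [← hj]
        exact orderOf_dvd_of_pow_eq_one (by rw [← QuotientGroup.mk_pow, pow_orderOf_eq_one]; rfl)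
      have h3 : orderOf (QuotientGroup.mk x : G ⧸ Q) ∣ Nat.card F :=
        Subgroup.orderOf_dvd_natCard F h1
      have h4 : orderOf (QuotientGroup.mk x : G ⧸ Q) = 1 :=
        Nat.eq_one_of_dvd_coprimes (Nat.Coprime.pow_right j hFcop) h3 h2
      exact (QuotientGroup.eq_one_iff x).1 (orderOf_eq_one_iff.1 h4)
    · intro x y
      rw [hKmem, QuotientGroup.mk_mul, QuotientGroup.mk_mul, QuotientGroup.mk_mul,
        QuotientGroup.mk_inv, QuotientGroup.mk_inv]
      exact hcomm _ _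
    · obtain ⟨a, ha, ha1⟩ : ∃ a ∈ A, a ≠ 1 := by
        by_contra hcon
        apply hAne
        rw [eq_bot_iff]
        intro a ha
        rw [Subgroup.mem_bot]
        by_contra ha1
        exact hcon ⟨a, ha, ha1⟩
      exact ⟨a, hAK ha, hAQ1 a ha ha1⟩
    · intro y hy1 hy
      exact fpf_on_core hCN hQp hcent hQne hy1 hy


/-- A non-nilpotent solvable CN-group either has a nontrivial normal Sylow subgroup or is a
three-step group. -/
theorem solvable_cn_structure {G : Type*} [Group G] [Finite G] [Group.IsSolvable G]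
    (hCN : IsCNGroup G) (hnn : ¬ Group.IsNilpotent G) :
    Cfsg.fittingHall G ≠ ⊥ ∨
      (Cfsg.fittingHall G = ⊥ ∧ ∃ p : ℕ, p.Prime ∧ Cfsg.IsThreeStepGroup p G ∧
        ∃ K : Subgroup G, IsTS p (Cfsg.pCore p G) K) := by
  by_cases hFH : Cfsg.fittingHall G = ⊥
  swap
  · exact Or.inl hFH
  right
  refine ⟨hFH, ?_⟩
  have hFnil : Group.IsNilpotent (Cfsg.fittingSubgroup G) :=
    Cfsg.Agent.Lib.Helper71.fittingSubgroup_isNilpotent
  have hcent : Subgroup.centralizer (Cfsg.fittingSubgroup G : Set G) ≤ Cfsg.fittingSubgroup G :=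
    Cfsg.Agent.S0044.result
  have hFne : Cfsg.fittingSubgroup G ≠ ⊥ := by
    intro hbot
    apply hnn
    refine nilpotent_of_forall_mem hFnil (fun x => hcent ?_)
    rw [Subgroup.mem_centralizer_iff]
    intro f hf
    rw [hbot, SetLike.mem_coe, Subgroup.mem_bot] at hf
    rw [hf, one_mul, mul_one]
  have hFcard : Nat.card (Cfsg.fittingSubgroup G) ≠ 1 := fun h => hFne (Subgroup.card_eq_one.1 h)
  obtain ⟨p, hp, hpdvd⟩ := Nat.exists_prime_and_dvd hFcard
  haveI : Fact p.Prime := ⟨hp⟩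
  have hpg : IsPGroup p (Cfsg.fittingSubgroup G) := by
    by_contra hpg
    obtain ⟨q, hq, hqp, hqdvd⟩ := Cfsg.Agent.S1477.exists_other_prime p hpg
    exact fittingHall_ne_bot_of_two_primes hCN hp hq hqp.symm hpdvd hqdvd hFH
  have hFit := fitting_eq_pCore hpg
  obtain ⟨h3, K, hK⟩ := ts_core hCN hFH (Cfsg.pCore p G) rfl hFit (hFit ▸ hFne)
  exact ⟨p, hp, h3, K, hK⟩

/-- A nilpotent group acting without fixed points is cyclic, or the product of a cyclic group
of odd order and a generalized quaternion group. -/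
theorem cyclic_or_quat {G : Type*} [Group G] [Finite G] (F E : Subgroup G) [F.Normal]
    (hF : F ≠ ⊥) (hfpf : ∀ e ∈ E, e ≠ 1 → F ⊓ Subgroup.centralizer ({e} : Set G) = ⊥)
    (hEnil : Group.IsNilpotent E) :
    IsCyclic E ∨ ∃ C Q : Subgroup G, C ⊔ Q = E ∧ (∀ a ∈ C, ∀ b ∈ Q, a * b = b * a) ∧
      IsCyclic C ∧ Odd (Nat.card C) ∧ ∃ n : ℕ, Nonempty (↥Q ≃* QuaternionGroup (2 ^ n)) := by
  have hfpf' : ∀ h ∈ E, h ≠ 1 → ∀ k ∈ F, h * k = k * h → k = 1 := by
    intro h hh hh1 k hk hhk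
    have h1 : k ∈ F ⊓ Subgroup.centralizer ({h} : Set G) :=
      Subgroup.mem_inf.2 ⟨hk, Subgroup.mem_centralizer_singleton_iff.2 hhk.symm⟩
    rw [hfpf h hh hh1] at h1
    exact Subgroup.mem_bot.1 h1
  haveI : Fact (Nat.Prime 2) := ⟨Nat.prime_two⟩
  haveI := hEnil
  by_cases hall : ∀ P : Sylow 2 E, IsCyclic P
  · left
    haveI hZ : IsZGroup E :=
      ⟨fun r hr P => by
        haveI : Fact r.Prime := ⟨hr⟩
        rcases Cfsg.Agent.Lib.Helper1.sylow_cyclic_of_fpf F E hF hfpf' r P with h | ⟨h2, -⟩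
        · exact h
        · subst h2; exact hall P⟩
    infer_instance
  · right
    obtain ⟨P₂, hP₂⟩ := not_forall.1 hall
    obtain ⟨n, hn⟩ : ∃ n : ℕ, Nonempty (P₂ ≃* QuaternionGroup (2 ^ n)) := by
      rcases Cfsg.Agent.Lib.Helper1.sylow_cyclic_of_fpf F E hF hfpf' 2 P₂ with h | ⟨-, h⟩
      · exact absurd h hP₂
      · exact h
    haveI hP₂n : (P₂ : Subgroup E).Normal :=
      P₂.normal_of_normalizerCondition normalizerCondition_of_isNilpotent
    obtain ⟨C', hC'⟩ := Subgroup.exists_right_complement'_of_coprime P₂.card_coprime_index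
    have hC'card : Nat.card C' = (P₂ : Subgroup E).index := hC'.symm.index_eq_card.symm
    have hC'odd : Odd (Nat.card C') := by
      rw [hC'card, ← Nat.not_even_iff_odd, even_iff_two_dvd]
      exact P₂.not_dvd_index
    obtain ⟨C, hC⟩ : ∃ C : Subgroup G, C = C'.map E.subtype := ⟨_, rfl⟩
    obtain ⟨Q, hQ⟩ : ∃ Q : Subgroup G, Q = (P₂ : Subgroup E).map E.subtype := ⟨_, rfl⟩
    have hCE : C ≤ E := by rw [hC]; exact Subgroup.map_subtype_le _
    have hQE : Q ≤ E := by rw [hQ]; exact Subgroup.map_subtype_le _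
    have hCcard : Nat.card C = Nat.card C' := by
      rw [hC]; exact Subgroup.card_map_of_injective E.subtype_injective
    have hCodd : Odd (Nat.card C) := hCcard ▸ hC'odd
    have hCnil : Group.IsNilpotent C := nilpotent_of_le hEnil hCE
    have hCcyc : IsCyclic C := by
      haveI hZ : IsZGroup C :=
        ⟨fun r hr P => by
          haveI : Fact r.Prime := ⟨hr⟩
          exact Cfsg.Agent.Lib.Helper1.sylow_cyclic_of_fpf_odd F C hF
            (fun h hh => hfpf' h (hCE hh)) hCodd r P⟩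
      haveI := hCnil
      infer_instance
    have hQp : IsPGroup 2 Q := by
      rw [hQ]; exact P₂.isPGroup'.map E.subtype
    refine ⟨C, Q, ?_, ?_, hCcyc, hCodd, n, ?_⟩
    · rw [hC, hQ, ← Subgroup.map_sup, sup_comm, hC'.sup_eq_top, ← MonoidHom.range_eq_map,
        Subgroup.range_subtype]
    · intro a ha b hb
      obtain ⟨j, hj⟩ := orderOf_of_mem_pgroup hQp hb
      apply Cfsg.Agent.S1477.comm_of_coprime hEnil (hCE ha) (hQE hb)
      rw [hj]
      apply Nat.Coprime.pow_right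
      have h1 : orderOf a ∣ Nat.card C := Subgroup.orderOf_dvd_natCard C ha
      have h2 : Odd (orderOf a) := Odd.of_dvd_nat hCodd h1
      exact Nat.coprime_two_right.2 h2
    · obtain ⟨e⟩ := hn
      rw [hQ]
      exact ⟨((P₂ : Subgroup E).equivMapOfInjective E.subtype E.subtype_injective).symm.trans e⟩

end Cfsg.Agent.Lib.Helper4.CN
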