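import Mathlib
import Cfsg.Agent.Lib.Helper4.FCQuat
import Cfsg.Agent.Lib.Helper71.FpfFrob
import Cfsg.Agent.S0035
import Cfsg.Agent.S0039
import Cfsg.Agent.S0040
import Cfsg.Agent.S0041

/-!
# Solvable Frobenius complements: the normal `Z`-subgroup with quotient in `Sym(4)` (helper4)
-/

set_option autoImplicit false

namespace Cfsg.Agent.Lib.Helper4.FC

/-- **Theorem B.** A finite solvable group whose Sylow subgroups are cyclic or generalized
quaternion has a homomorphism to `Sym(4)` whose kernel has only cyclic Sylow subgroups. -/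
theorem exists_normal_zgroup {G : Type*} [Group G] [Finite G] (hsol : Group.IsSolvable G)
    (hS : ∀ (p : ℕ) [Fact p.Prime] (P : Sylow p G), IsCyclic (P : Subgroup G) ∨
      ∃ n : ℕ, Nonempty ((P : Subgroup G) ≃* QuaternionGroup (2 ^ n))) :
    ∃ f : G →* Equiv.Perm (Fin 4),
      ∀ (p : ℕ) [Fact p.Prime] (P : Sylow p f.ker), IsCyclic (P : Subgroup f.ker) := by
  classical
  haveI : Fact (Nat.Prime 2) := ⟨Nat.prime_two⟩
  obtain ⟨O, hOdef⟩ : ∃ O : Subgroup G, O = Cfsg.pPrimeCore 2 G := ⟨_, rfl⟩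
  haveI hOn : O.Normal := hOdef ▸ Cfsg.pPrimeCore_normal 2 G
  have hOodd : (Nat.card O).Coprime 2 := hOdef ▸ Cfsg.Agent.Lib.Helper55.pPrimeCore_coprime 2 G
  have hO' : ∀ N : Subgroup (G ⧸ O), N.Normal → (Nat.card N).Coprime 2 → N = ⊥ := by
    subst hOdef
    exact Cfsg.Agent.Lib.Helper55.eq_bot_of_normal_coprime_quotient 2 G
  obtain ⟨π, hπ⟩ : ∃ π : G →* G ⧸ O, π = QuotientGroup.mk' O := ⟨_, rfl⟩
  have hπs : Function.Surjective π := hπ ▸ QuotientGroup.mk'_surjective O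
  have hπ1 : ∀ x : G, π x = 1 → x ∈ O := fun x hx => by
    rw [hπ] at hx; exact (QuotientGroup.eq_one_iff x).mp hx
  -- elements of 2-power order map injectively
  have hinj2 : ∀ x : G, (∃ k : ℕ, x ^ 2 ^ k = 1) → π x = 1 → x = 1 := by
    intro x ⟨k, hk⟩ hx
    have h1 : orderOf x ∣ Nat.card O := by
      have h2 := orderOf_dvd_natCard (⟨x, hπ1 x hx⟩ : O)
      rwa [Subgroup.orderOf_mk] at h2
    have h3 : orderOf x ∣ 2 ^ k := orderOf_dvd_of_pow_eq_one hk
    have h4 : orderOf x = 1 :=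
      Nat.Coprime.eq_one_of_dvd (Nat.Coprime.pow_right k
        (Nat.Coprime.coprime_dvd_left h1 hOodd)) h3
    exact orderOf_eq_one_iff.mp h4
  obtain ⟨S⟩ : Nonempty (Sylow 2 G) := inferInstance
  obtain ⟨T, hT⟩ : ∃ T : Sylow 2 (G ⧸ O), (T : Subgroup (G ⧸ O)) = (S : Subgroup G).map π :=
    ⟨S.mapSurjective hπs, Sylow.coe_mapSurjective hπs S⟩
  have hbij : Function.Bijective (π.subgroupMap (S : Subgroup G)) := by
    refine ⟨?_, π.subgroupMap_surjective _⟩
    rw [injective_iff_map_eq_one]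
    intro x hx
    have h1 : π (x : G) = 1 := congrArg Subtype.val hx
    obtain ⟨k, hk⟩ := S.isPGroup' x
    have h2 : (x : G) ^ 2 ^ k = 1 := congrArg Subtype.val hk
    exact Subtype.ext (hinj2 _ ⟨k, h2⟩ h1)
  obtain ⟨E⟩ : Nonempty ((S : Subgroup G) ≃* (T : Subgroup (G ⧸ O))) :=
    ⟨(MulEquiv.ofBijective _ hbij).trans (MulEquiv.subgroupCongr hT.symm)⟩
  have hTT : IsCyclic (T : Subgroup (G ⧸ O)) ∨
      ∃ n : ℕ, Nonempty ((T : Subgroup (G ⧸ O)) ≃* QuaternionGroup (2 ^ n)) := by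
    rcases hS 2 S with hc | ⟨n, ⟨e⟩⟩
    · left
      haveI := hc
      exact isCyclic_of_surjective E E.surjective
    · right
      exact ⟨n, ⟨E.symm.trans e⟩⟩
  obtain ⟨fbar, hfbar⟩ := exists_hom_cyclic_ker hO' T hTT
  refine ⟨fbar.comp π, ?_⟩
  intro p _ P
  obtain ⟨P', hP'⟩ : ∃ P' : Subgroup G,
      P' = (P : Subgroup (fbar.comp π).ker).map (fbar.comp π).ker.subtype := ⟨_, rfl⟩
  obtain ⟨EP⟩ : Nonempty ((P : Subgroup (fbar.comp π).ker) ≃* P') :=
    ⟨((P : Subgroup (fbar.comp π).ker).equivMapOfInjective _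
      (Subgroup.subtype_injective _)).trans (MulEquiv.subgroupCongr hP'.symm)⟩
  have hP'p : IsPGroup p P' := hP' ▸ P.isPGroup'.map _
  have hP'ker : ∀ x ∈ P', fbar (π x) = 1 := by
    intro x hx
    rw [hP'] at hx
    obtain ⟨y, -, rfl⟩ := hx
    exact MonoidHom.mem_ker.mp y.2
  by_cases hp2 : p = 2
  · subst hp2
    haveI := hfbar
    obtain ⟨ψ, hψ⟩ : ∃ ψ : P' →* fbar.ker, ∀ x : P', ((ψ x : fbar.ker) : G ⧸ O) = π x :=
      ⟨(π.comp P'.subtype).codRestrict fbar.ker (fun x => MonoidHom.mem_ker.mpr (hP'ker x x.2)),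
        fun x => rfl⟩
    have hψi : Function.Injective ψ := by
      rw [injective_iff_map_eq_one]
      intro x hx
      have h1 : π (x : G) = 1 := by rw [← hψ, hx]; rfl
      obtain ⟨k, hk⟩ := hP'p x
      have h2 : (x : G) ^ 2 ^ k = 1 := congrArg Subtype.val hk
      exact Subtype.ext (hinj2 _ ⟨k, h2⟩ h1)
    haveI : IsCyclic P' := isCyclic_of_injective ψ hψi
    exact isCyclic_of_surjective EP.symm EP.symm.surjective
  · obtain ⟨Sp, hSp⟩ := hP'p.exists_le_sylow
    rcases hS p Sp with hc | ⟨n, ⟨e⟩⟩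
    · haveI := hc
      haveI : IsCyclic P' := Subgroup.isCyclic_of_le hSp
      exact isCyclic_of_surjective EP.symm EP.symm.surjective
    · exfalso
      haveI : NeZero (2 ^ n) := ⟨pow_ne_zero n two_ne_zero⟩
      have h1 : Nat.card (Sp : Subgroup G) = 4 * 2 ^ n := by
        rw [Nat.card_congr e.toEquiv, Nat.card_eq_fintype_card, QuaternionGroup.card]
      obtain ⟨k, hk⟩ := IsPGroup.iff_card.mp Sp.isPGroup'
      have h2 : 2 ∣ p ^ k := by rw [← hk, h1]; exact ⟨2 * 2 ^ n, by ring⟩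
      have h3 : 2 ∣ p := Nat.Prime.dvd_of_dvd_pow Nat.prime_two h2
      have hp : p.Prime := Fact.out
      exact hp2 ((Nat.prime_dvd_prime_iff_eq Nat.prime_two hp).mp h3).symm

/-- **Theorem C.** Sylow subgroups and subgroups of order `pq` of a Frobenius complement. -/
theorem frob_compl_facts {G : Type*} [Group G] [Finite G]
    (hFC : ∃ (L : Type) (_ : Group L) (_ : Finite L) (H : Subgroup L),
      Cfsg.IsFrobeniusComplement H ∧ Nonempty (G ≃* H)) :
    (∀ (p : ℕ) [Fact p.Prime] (P : Sylow p G), IsCyclic (P : Subgroup G) ∨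
      ∃ n : ℕ, Nonempty ((P : Subgroup G) ≃* QuaternionGroup (2 ^ n))) ∧
    (∀ A : Subgroup G, (∃ p q : ℕ, p.Prime ∧ q.Prime ∧ Nat.card A = p * q) → IsCyclic A) := by
  classical
  obtain ⟨L, _, _, H, hH, ⟨e⟩⟩ := hFC
  constructor
  · obtain ⟨N, hNK, hNn, hNc⟩ := Cfsg.Agent.S0035.result H hH
    haveI := hNn
    have hN1 : N ≠ ⊥ := by
      rintro rfl
      exact hH.2.1 (Subgroup.isComplement'_bot_left.mp hNc)
    have hfpf := (Cfsg.Agent.S0039.result N H hNc hN1 hH.1).mp hH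
    intro p _ P
    have hes : Function.Surjective (e : G →* H) := e.surjective
    obtain ⟨PH, hPH⟩ : ∃ PH : Sylow p H, (PH : Subgroup H) = (P : Subgroup G).map (e : G →* H) :=
      ⟨P.mapSurjective hes, Sylow.coe_mapSurjective hes P⟩
    obtain ⟨E⟩ : Nonempty ((P : Subgroup G) ≃* (PH : Subgroup H)) :=
      ⟨(e.subgroupMap (P : Subgroup G)).trans (MulEquiv.subgroupCongr hPH.symm)⟩
    rcases Cfsg.Agent.S0040.result N H hNc hN1 hfpf p PH with hc | ⟨n, ⟨e'⟩⟩
    · left
      haveI := hc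
      exact isCyclic_of_surjective E.symm E.symm.surjective
    · right
      exact ⟨n, ⟨E.trans e'⟩⟩
  · rintro A ⟨p, q, hp, hq, hcard⟩
    obtain ⟨Z, hZn, hZ1, hZc, -, hZf⟩ :=
      Cfsg.Agent.Lib.Helper71.exists_abelian_normal_of_frobeniusComplement H hH
    haveI : IsMulCommutative Z := ⟨⟨fun a b => Subtype.ext (hZc a a.2 b b.2)⟩⟩
    obtain ⟨ι, hι⟩ : ∃ ι : G →* L, ι = H.subtype.comp (e : G →* H) := ⟨_, rfl⟩
    have hιi : Function.Injective ι := by
      rw [hι]; exact H.subtype_injective.comp e.injective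
    have hιH : ∀ x : G, ι x ∈ H := fun x => by rw [hι]; exact (e x).2
    have hcard' : Nat.card (A.map ι) = p * q := by
      rw [Subgroup.card_map_of_injective hιi, hcard]
    have hcyc : IsCyclic (A.map ι) := by
      apply Cfsg.Agent.S0041.result (A.map ι) Z hZ1
      · rw [Subgroup.normalizer_eq_top]; exact le_top
      · intro a ha ha1
        obtain ⟨x, -, rfl⟩ := ha
        rw [eq_bot_iff]
        intro z hz
        rw [Subgroup.mem_inf, Subgroup.mem_centralizer_iff] at hz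
        have h1 : ι x * z = z * ι x := hz.2 (ι x) (Set.mem_singleton _)
        rw [Subgroup.mem_bot]
        apply hZf (ι x) (hιH x) ha1 z hz.1
        rw [h1]; group
      · right; exact ⟨p, q, hp, hq, hcard'⟩
    haveI := hcyc
    exact isCyclic_of_surjective (A.equivMapOfInjective ι hιi).symm
      (A.equivMapOfInjective ι hιi).symm.surjective

end Cfsg.Agent.Lib.Helper4.FC
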