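import Mathlib
import Cfsg.Prelude.Def_Characters
import Cfsg.Agent.Lib.Helper80.CharOps
import Cfsg.Agent.Lib.Helper80.Codegree

/-!
# Characters of a Frobenius-type group `N` with normal subgroup `K`

`K` is normal in `N` and contains the centralizer of each of its non-identity elements.
The irreducible characters of `N` not containing `K` in their kernel ("relevant" characters)
vanish off `K`; sums over them; a class function whose inner products with the relevant
characters are proportional to their degrees is constant on `K \ {1}`.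
-/

set_option autoImplicit false

namespace Cfsg.Agent.Lib.Helper4

open Cfsg.Agent.Lib.Helper80
open scoped ComplexConjugate

section FrobChar

variable {N : Type*} [Group N] [Fintype N] [Fintype (Cfsg.IrrCharacter N)]
  (K : Subgroup N) [K.Normal]

omit [Fintype N] [Fintype (Cfsg.IrrCharacter N)] in
/-- The centralizer of an element outside `K` embeds in the centralizer of its image modulo
`K`. -/
theorem card_centralizer_le_quot [Finite N]
    (hfrob : ∀ k ∈ K, k ≠ 1 → ∀ x : N, x * k = k * x → x ∈ K) {x : N} (hx : x ∉ K) :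
    Nat.card (Subgroup.centralizer ({x} : Set N)) ≤
      Nat.card (Subgroup.centralizer ({(x : N ⧸ K)} : Set (N ⧸ K))) := by
  have hmem : ∀ y : Subgroup.centralizer ({x} : Set N),
      ((y : N) : N ⧸ K) ∈ Subgroup.centralizer ({(x : N ⧸ K)} : Set (N ⧸ K)) := by
    intro y
    have hy := y.2
    rw [Subgroup.mem_centralizer_iff] at hy ⊢
    intro z hz
    rw [Set.mem_singleton_iff] at hz
    rw [hz]
    have := hy x rfl
    rw [← QuotientGroup.mk_mul, ← QuotientGroup.mk_mul, this]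
  apply Nat.card_le_card_of_injective (fun y : Subgroup.centralizer ({x} : Set N) =>
    (⟨((y : N) : N ⧸ K), hmem y⟩ : Subgroup.centralizer ({(x : N ⧸ K)} : Set (N ⧸ K))))
  intro y y' hyy'
  have h1 : ((y : N) : N ⧸ K) = ((y' : N) : N ⧸ K) := congrArg Subtype.val hyy'
  rw [QuotientGroup.eq] at h1
  by_contra hne
  have hne' : (y : N)⁻¹ * (y' : N) ≠ 1 := by
    intro h
    apply hne
    apply Subtype.ext
    exact inv_mul_eq_one.mp h
  have hy := y.2
  have hy' := y'.2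
  rw [Subgroup.mem_centralizer_iff] at hy hy'
  have hc1 : Commute x (y : N) := hy x rfl
  have hc2 : Commute x (y' : N) := hy' x rfl
  exact hx (hfrob _ h1 hne' x (hc1.inv_right.mul_right hc2).eq)

/-- A relevant irreducible character vanishes off `K`. -/
theorem rel_vanish (hfrob : ∀ k ∈ K, k ≠ 1 → ∀ x : N, x * k = k * x → x ∈ K)
    (χ : Cfsg.IrrCharacter N) (hχ : ¬ ∀ k ∈ K, (χ : N → ℂ) k = (χ : N → ℂ) 1) {x : N}
    (hx : x ∉ K) : (χ : N → ℂ) x = 0 := by
  classical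
  have h_all := second_orthogonality_of_isConj (G := N) (IsConj.refl x)
  have h_ker := second_orthogonality_filter_ker K x x
  rw [if_pos (IsConj.refl _)] at h_ker
  rw [← Finset.sum_filter_add_sum_filter_not Finset.univ (fun χ : Cfsg.IrrCharacter N => ∀ x ∈ K, (χ : N → ℂ) x = (χ : N → ℂ) 1), h_ker] at h_all
  have hle := card_centralizer_le_quot K hfrob hx
  have h3 : ∀ φ : Cfsg.IrrCharacter N, (φ : N → ℂ) x * conj ((φ : N → ℂ) x)
      = ((Complex.normSq ((φ : N → ℂ) x) : ℝ) : ℂ) := fun φ => Complex.mul_conj _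
  simp_rw [h3] at h_all
  rw [← Complex.ofReal_sum] at h_all
  have h4 : (Nat.card ↥(Subgroup.centralizer ({(x : N ⧸ K)} : Set (N ⧸ K))) : ℝ)
      + ∑ φ ∈ Finset.univ.filter (fun χ : Cfsg.IrrCharacter N => ¬ ∀ x ∈ K, (χ : N → ℂ) x = (χ : N → ℂ) 1), Complex.normSq ((φ : N → ℂ) x)
      = (Nat.card ↥(Subgroup.centralizer ({x} : Set N)) : ℝ) := by
    exact_mod_cast h_all
  have h5 : ∑ φ ∈ Finset.univ.filter (fun χ : Cfsg.IrrCharacter N => ¬ ∀ x ∈ K, (χ : N → ℂ) x = (χ : N → ℂ) 1), Complex.normSq ((φ : N → ℂ) x) ≤ 0 := by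
    have : (Nat.card ↥(Subgroup.centralizer ({x} : Set N)) : ℝ)
        ≤ Nat.card ↥(Subgroup.centralizer ({(x : N ⧸ K)} : Set (N ⧸ K))) := by
      exact_mod_cast hle
    linarith
  have h6 := (Finset.sum_eq_zero_iff_of_nonneg (fun φ _ => Complex.normSq_nonneg _)).1
    (le_antisymm h5 (Finset.sum_nonneg (fun φ _ => Complex.normSq_nonneg _))) χ
    (Finset.mem_filter.2 ⟨Finset.mem_univ _, hχ⟩)
  exact Complex.normSq_eq_zero.1 h6

/-- Column orthogonality restricted to the relevant characters, at a non-identity element of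
`K`. -/
theorem sum_rel_mul_deg
    [DecidablePred fun χ : Cfsg.IrrCharacter N => ¬ ∀ x ∈ K, (χ : N → ℂ) x = (χ : N → ℂ) 1]
    {k : N} (hk : k ∈ K) (hk1 : k ≠ 1) :
    ∑ χ ∈ Finset.univ.filter (fun χ : Cfsg.IrrCharacter N => ¬ ∀ x ∈ K, (χ : N → ℂ) x = (χ : N → ℂ) 1), (χ : N → ℂ) k * conj ((χ : N → ℂ) 1)
      = -(K.index : ℂ) := by
  classical
  have h_all := second_orthogonality_of_not_isConj (G := N) (g := k) (h := 1)
    (by rw [isConj_one_left]; exact hk1)
  have h_ker := second_orthogonality_filter_ker K k 1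
  have hk' : (k : N ⧸ K) = ((1 : N) : N ⧸ K) := by
    rw [QuotientGroup.mk_one]; exact (QuotientGroup.eq_one_iff k).2 hk
  rw [hk', if_pos (IsConj.refl _)] at h_ker
  have hcent : Nat.card (Subgroup.centralizer ({((1 : N) : N ⧸ K)} : Set (N ⧸ K)))
      = K.index := by
    have : Subgroup.centralizer ({((1 : N) : N ⧸ K)} : Set (N ⧸ K)) = ⊤ := by
      rw [eq_top_iff]
      intro y _
      rw [Subgroup.mem_centralizer_iff]
      intro z hz
      rw [Set.mem_singleton_iff.mp hz, QuotientGroup.mk_one]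
      simp
    rw [this, Subgroup.card_top]
    rfl
  rw [hcent] at h_ker
  rw [← Finset.sum_filter_add_sum_filter_not Finset.univ (fun χ : Cfsg.IrrCharacter N => ∀ x ∈ K, (χ : N → ℂ) x = (χ : N → ℂ) 1), h_ker] at h_all
  linear_combination h_all

/-- The sum of the squares of the degrees of the relevant characters. -/
theorem sum_rel_deg_sq
    [DecidablePred fun χ : Cfsg.IrrCharacter N => ¬ ∀ x ∈ K, (χ : N → ℂ) x = (χ : N → ℂ) 1] :
    ∑ χ ∈ Finset.univ.filter (fun χ : Cfsg.IrrCharacter N => ¬ ∀ x ∈ K, (χ : N → ℂ) x = (χ : N → ℂ) 1), Cfsg.charDegree (χ : N → ℂ) ^ 2 + K.index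
      = Nat.card N := by
  classical
  have h := sum_charDegree_sq (G := N)
  rw [← Finset.sum_filter_add_sum_filter_not Finset.univ (fun χ : Cfsg.IrrCharacter N => ∀ x ∈ K, (χ : N → ℂ) x = (χ : N → ℂ) 1),
    sum_charDegree_sq_filter_ker K] at h
  omega

omit [Fintype (Cfsg.IrrCharacter N)] [K.Normal] in
/-- A relevant irreducible character sums to zero over the group. -/
theorem sum_rel_eq_zero (χ : Cfsg.IrrCharacter N)
    (hχ : ¬ ∀ k ∈ K, (χ : N → ℂ) k = (χ : N → ℂ) 1) : ∑ x : N, (χ : N → ℂ) x = 0 := by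
  classical
  have hne : (χ : N → ℂ) ≠ fun _ => 1 := by
    intro h
    apply hχ
    intro k _
    rw [h]
  have h1 := classInner_irr_fun χ.2 (isIrrCharacter_one (G := N))
  rw [if_neg hne] at h1
  unfold Cfsg.classInner at h1
  have hcard : (Nat.card N : ℂ) ≠ 0 := by exact_mod_cast (Nat.card_pos (α := N)).ne'
  have h2 : ∑ x : N, (χ : N → ℂ) x * conj (1 : ℂ) = 0 := by
    rcases mul_eq_zero.1 h1 with h | h
    · exact absurd (inv_eq_zero.1 h) hcard
    · exact h
  simpa using h2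


/-- A class function on `N` which is orthogonal to all the differences
`ξ(1) χ - χ(1) ξ` of relevant irreducible characters is constant on `K \ {1}`. -/
theorem const_on_K (δ : N → ℂ) (hδ : Cfsg.IsClassFunction N δ)
    (hprop : ∀ χ ξ : Cfsg.IrrCharacter N, (¬ ∀ x ∈ K, (χ : N → ℂ) x = (χ : N → ℂ) 1) →
      (¬ ∀ x ∈ K, (ξ : N → ℂ) x = (ξ : N → ℂ) 1) →
      Cfsg.classInner (((ξ : N → ℂ) 1) • (χ : N → ℂ) - ((χ : N → ℂ) 1) • (ξ : N → ℂ)) δ = 0)
    {k k' : N} (hk : k ∈ K) (hk1 : k ≠ 1) (hk' : k' ∈ K) (hk'1 : k' ≠ 1) : δ k = δ k' := by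
  classical
  have hconj1 : ∀ χ : Cfsg.IrrCharacter N, conj ((χ : N → ℂ) 1) = (χ : N → ℂ) 1 := by
    intro χ
    rw [char_one_eq_charDegree (isCharacter_of_isIrrCharacter χ.2), Complex.conj_natCast]
  have hprop' : ∀ χ ξ : Cfsg.IrrCharacter N, (¬ ∀ x ∈ K, (χ : N → ℂ) x = (χ : N → ℂ) 1) →
      (¬ ∀ x ∈ K, (ξ : N → ℂ) x = (ξ : N → ℂ) 1) →
      (ξ : N → ℂ) 1 * Cfsg.classInner δ (χ : N → ℂ)
        = (χ : N → ℂ) 1 * Cfsg.classInner δ (ξ : N → ℂ) := by
    intro χ ξ hχ hξ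
    have h := hprop χ ξ hχ hξ
    rw [classInner_sub_left, classInner_smul_left, classInner_smul_left] at h
    have h2 := congrArg conj h
    rw [map_sub, map_mul, map_mul, classInner_conj_symm, classInner_conj_symm, hconj1, hconj1,
      map_zero] at h2
    linear_combination h2
  obtain ⟨t, ht⟩ : ∃ t : ℂ, ∀ χ : Cfsg.IrrCharacter N,
      (¬ ∀ x ∈ K, (χ : N → ℂ) x = (χ : N → ℂ) 1) →
      Cfsg.classInner δ (χ : N → ℂ) = t * conj ((χ : N → ℂ) 1) := by
    by_cases hex : ∃ χ₀ : Cfsg.IrrCharacter N, ¬ ∀ x ∈ K, (χ₀ : N → ℂ) x = (χ₀ : N → ℂ) 1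
    · obtain ⟨χ₀, hχ₀⟩ := hex
      refine ⟨Cfsg.classInner δ (χ₀ : N → ℂ) / (χ₀ : N → ℂ) 1, ?_⟩
      intro χ hχ
      have h0 : (χ₀ : N → ℂ) 1 ≠ 0 := char_one_ne_zero χ₀.2
      have h1 := hprop' χ χ₀ hχ hχ₀
      rw [hconj1]
      field_simp
      linear_combination h1
    · refine ⟨0, ?_⟩
      intro χ hχ
      exact absurd ⟨χ, hχ⟩ hex
  have key : ∀ k : N, k ∈ K → k ≠ 1 → δ k = ∑ φ ∈ Finset.univ.filter (fun χ : Cfsg.IrrCharacter N => ∀ x ∈ K, (χ : N → ℂ) x = (χ : N → ℂ) 1),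
      Cfsg.classInner δ (φ : N → ℂ) * (φ : N → ℂ) 1 - t * (K.index : ℂ) := by
    intro k hk hk1
    rw [classFun_expansion_apply δ hδ k,
      ← Finset.sum_filter_add_sum_filter_not Finset.univ (fun χ : Cfsg.IrrCharacter N => ∀ x ∈ K, (χ : N → ℂ) x = (χ : N → ℂ) 1)]
    have e1 : ∑ φ ∈ Finset.univ.filter (fun χ : Cfsg.IrrCharacter N => ∀ x ∈ K, (χ : N → ℂ) x = (χ : N → ℂ) 1), Cfsg.classInner δ (φ : N → ℂ) * (φ : N → ℂ) k
        = ∑ φ ∈ Finset.univ.filter (fun χ : Cfsg.IrrCharacter N => ∀ x ∈ K, (χ : N → ℂ) x = (χ : N → ℂ) 1), Cfsg.classInner δ (φ : N → ℂ) * (φ : N → ℂ) 1 := by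
      apply Finset.sum_congr rfl
      intro φ hφ
      rw [(Finset.mem_filter.1 hφ).2 k hk]
    have e2 : ∑ φ ∈ Finset.univ.filter (fun χ : Cfsg.IrrCharacter N => ¬ ∀ x ∈ K, (χ : N → ℂ) x = (χ : N → ℂ) 1), Cfsg.classInner δ (φ : N → ℂ) * (φ : N → ℂ) k
        = t * ∑ φ ∈ Finset.univ.filter (fun χ : Cfsg.IrrCharacter N => ¬ ∀ x ∈ K, (χ : N → ℂ) x = (χ : N → ℂ) 1), (φ : N → ℂ) k * conj ((φ : N → ℂ) 1) := by
      rw [Finset.mul_sum]
      apply Finset.sum_congr rfl
      intro φ hφ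
      rw [ht φ (Finset.mem_filter.1 hφ).2]
      ring
    rw [e1, e2, sum_rel_mul_deg K hk hk1]
    ring
  rw [key k hk hk1, key k' hk' hk'1]

end FrobChar

section Integrality

variable {H : Type*} [Group H] [Fintype H]

/-- If `z * χ(1)` is an integer for all `χ` in a nonempty set `T` of irreducible characters,
then `z * (|H| - ∑_{χ ∈ T} χ(1)²)` is an integer. -/
theorem int_of_mul_degree [Fintype (Cfsg.IrrCharacter H)]
    (T : Finset (Cfsg.IrrCharacter H)) (hT : T.Nonempty) (z : ℂ)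
    (hz : ∀ χ ∈ T, ∃ n : ℤ, z * (Cfsg.charDegree (χ : H → ℂ) : ℂ) = n) (w : ℕ)
    (hw : ∑ χ ∈ T, Cfsg.charDegree (χ : H → ℂ) ^ 2 + w = Nat.card H) :
    ∃ n : ℤ, z * (w : ℂ) = n := by
  classical
  choose! f hf using hz
  obtain ⟨χ₁, hχ₁⟩ := hT
  obtain ⟨q, hq⟩ := charDegree_dvd_card χ₁.2
  refine ⟨f χ₁ * q - ∑ χ ∈ T, f χ * (Cfsg.charDegree (χ : H → ℂ) : ℤ), ?_⟩
  have h1 : (w : ℂ) = (Nat.card H : ℂ) - ∑ χ ∈ T, ((Cfsg.charDegree (χ : H → ℂ) : ℂ)) ^ 2 := by
    have := congrArg (fun n : ℕ => (n : ℂ)) hw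
    push_cast at this
    linear_combination this
  rw [h1, hq]
  push_cast
  rw [mul_sub, Finset.mul_sum]
  congr 1
  · rw [← mul_assoc, hf χ₁ hχ₁]
  · apply Finset.sum_congr rfl
    intro χ hχ
    rw [← hf χ hχ]
    ring

/-- If a generalized character `a - b` and a character `g` of a nontrivial group differ by
a constant `C` on the non-identity elements, then `C` is an integer. -/
theorem int_const_of_genchar (a b g : H → ℂ)
    (ha : Cfsg.IsCharacter H a) (hb : Cfsg.IsCharacter H b) (hg : Cfsg.IsCharacter H g) (C : ℂ)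
    (hC : ∀ k : H, k ≠ 1 → a k - b k - g k = C) (hne : ∃ k : H, k ≠ 1) : ∃ n : ℤ, C = n := by
  classical
  have := Fintype.ofFinite (Cfsg.IrrCharacter H)
  have hcard : (Nat.card H : ℂ) ≠ 0 := by exact_mod_cast (Nat.card_pos (α := H)).ne'
  obtain ⟨h, hh⟩ : ∃ h : H → ℂ, h = a - b - g := ⟨_, rfl⟩
  have hhk : ∀ k : H, k ≠ 1 → h k = C := by
    intro k hk
    rw [hh]
    exact hC k hk
  obtain ⟨u, hu⟩ : ∃ u : ℂ, u = (h 1 - C) / (Nat.card H : ℂ) := ⟨_, rfl⟩
  -- inner products are integers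
  have hint : ∀ φ : Cfsg.IrrCharacter H, ∃ n : ℤ, Cfsg.classInner h (φ : H → ℂ) = n := by
    intro φ
    obtain ⟨n1, hn1⟩ := classInner_nat ha (isCharacter_of_isIrrCharacter φ.2)
    obtain ⟨n2, hn2⟩ := classInner_nat hb (isCharacter_of_isIrrCharacter φ.2)
    obtain ⟨n3, hn3⟩ := classInner_nat hg (isCharacter_of_isIrrCharacter φ.2)
    refine ⟨(n1 : ℤ) - n2 - n3, ?_⟩
    rw [hh, classInner_sub_left, classInner_sub_left, hn1, hn2, hn3]
    push_cast
    ring
  -- formula for the inner products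
  have hform : ∀ φ : Cfsg.IrrCharacter H, Cfsg.classInner h (φ : H → ℂ)
      = C * Cfsg.classInner (fun _ => (1 : ℂ)) (φ : H → ℂ)
        + u * (Cfsg.charDegree (φ : H → ℂ) : ℂ) := by
    intro φ
    have hconj : conj ((φ : H → ℂ) 1) = (Cfsg.charDegree (φ : H → ℂ) : ℂ) := by
      rw [char_one_eq_charDegree (isCharacter_of_isIrrCharacter φ.2), Complex.conj_natCast]
    have e1 : ∑ k : H, h k * conj ((φ : H → ℂ) k)
        = C * ∑ k : H, (1 : ℂ) * conj ((φ : H → ℂ) k) + (h 1 - C) * conj ((φ : H → ℂ) 1) := by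
      rw [Finset.mul_sum]
      have : ∀ k : H, h k * conj ((φ : H → ℂ) k) = C * ((1 : ℂ) * conj ((φ : H → ℂ) k))
          + (if k = 1 then (h 1 - C) * conj ((φ : H → ℂ) 1) else 0) := by
        intro k
        by_cases hk : k = 1
        · rw [if_pos hk, hk]; ring
        · rw [if_neg hk, hhk k hk]; ring
      simp_rw [this]
      rw [Finset.sum_add_distrib, Finset.sum_ite_eq' Finset.univ (1 : H)
        (fun _ => (h 1 - C) * conj ((φ : H → ℂ) 1)), if_pos (Finset.mem_univ _)]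
    have e2 : Cfsg.classInner h (φ : H → ℂ)
        = (Nat.card H : ℂ)⁻¹ * ∑ k : H, h k * conj ((φ : H → ℂ) k) := rfl
    have e3 : Cfsg.classInner (fun _ => (1 : ℂ)) (φ : H → ℂ)
        = (Nat.card H : ℂ)⁻¹ * ∑ k : H, (1 : ℂ) * conj ((φ : H → ℂ) k) := rfl
    rw [e2, e3, e1, hconj, hu]
    field_simp
  -- the trivial character
  obtain ⟨triv, htriv⟩ : ∃ triv : Cfsg.IrrCharacter H, (triv : H → ℂ) = fun _ => 1 :=
    ⟨⟨fun _ => 1, isIrrCharacter_one⟩, rfl⟩
  have hdeg_triv : Cfsg.charDegree (triv : H → ℂ) = 1 := by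
    have h1 := char_one_eq_charDegree (isCharacter_of_isIrrCharacter triv.2)
    rw [htriv] at h1
    have h2 : ((1 : ℕ) : ℂ) = (Cfsg.charDegree (fun _ : H => (1 : ℂ)) : ℂ) := by
      rw [← h1]; norm_num
    rw [htriv]
    exact_mod_cast h2.symm
  have hsum : ∑ χ ∈ Finset.univ.erase triv, Cfsg.charDegree (χ : H → ℂ) ^ 2 + 1
      = Nat.card H := by
    have h1 := sum_charDegree_sq (G := H)
    rw [← Finset.add_sum_erase Finset.univ (fun χ : Cfsg.IrrCharacter H =>
      Cfsg.charDegree (χ : H → ℂ) ^ 2) (Finset.mem_univ triv), hdeg_triv] at h1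
    omega
  have hTne : (Finset.univ.erase triv).Nonempty := by
    by_contra hemp
    rw [Finset.not_nonempty_iff_eq_empty] at hemp
    rw [hemp, Finset.sum_empty] at hsum
    obtain ⟨k, hk⟩ := hne
    have h2 : 1 < Nat.card H := Finite.one_lt_card_iff_nontrivial.2 ⟨⟨k, 1, hk⟩⟩
    omega
  have hu_int : ∃ n : ℤ, u * ((1 : ℕ) : ℂ) = n := by
    apply int_of_mul_degree (Finset.univ.erase triv) hTne u _ 1 hsum
    intro χ hχ
    have hχne : χ ≠ triv := (Finset.mem_erase.1 hχ).1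
    obtain ⟨n, hn⟩ := hint χ
    refine ⟨n, ?_⟩
    rw [← hn, hform χ]
    have h0 : Cfsg.classInner (fun _ => (1 : ℂ)) (χ : H → ℂ) = 0 := by
      have := classInner_irr triv χ
      rw [if_neg (Ne.symm hχne), htriv] at this
      exact this
    rw [h0, mul_zero, zero_add]
  obtain ⟨n, hn⟩ := hu_int
  obtain ⟨n', hn'⟩ := hint triv
  refine ⟨n' - n, ?_⟩
  have h1 := hform triv
  have h0 : Cfsg.classInner (fun _ => (1 : ℂ)) (triv : H → ℂ) = 1 := by
    have := classInner_irr triv triv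
    rw [if_pos rfl] at this
    rw [← htriv]
    exact this
  rw [h0, hdeg_triv, hn'] at h1
  push_cast at hn h1 ⊢
  linear_combination -h1 - hn

end Integrality

end Cfsg.Agent.Lib.Helper4
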