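import Mathlib
import Cfsg.Prelude.Def_OddOrderChar
import Cfsg.Agent.Lib.Helper4.FrobChar
import Cfsg.Agent.Lib.Helper3.IndTI
import Cfsg.Agent.Lib.Helper26.VChar

/-!
# Exceptional characters for a T.I. subgroup with Frobenius normalizer

`K` is a T.I. subgroup of `G` containing the centralizers of its non-identity elements,
`S` the set of irreducible characters of `N = N_G(K)` not containing `K` in the kernel and
`star` a linear isometry on `ℤ[S]` extending induction on the members vanishing at `1`.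
-/

set_option autoImplicit false

namespace Cfsg.Agent.Lib.Helper4

open Cfsg.Agent.Lib.Helper80
open scoped ComplexConjugate

/-- The difference `ξ(1) χ - χ(1) ξ`. -/
noncomputable def alphaFun {X : Type*} [One X] (χ ξ : X → ℂ) : X → ℂ := (ξ 1) • χ - (χ 1) • ξ

theorem alphaFun_apply {X : Type*} [One X] (χ ξ : X → ℂ) (x : X) :
    alphaFun χ ξ x = ξ 1 * χ x - χ 1 * ξ x := rfl

theorem alphaFun_one {X : Type*} [One X] (χ ξ : X → ℂ) : alphaFun χ ξ 1 = 0 := by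
  rw [alphaFun_apply]; ring

/-- Generalized characters are class functions. -/
theorem isClassFunction_of_gen {X : Type*} [Group X] {θ : X → ℂ}
    (h : Cfsg.IsGeneralizedCharacter X θ) : Cfsg.IsClassFunction X θ := by
  obtain ⟨χ, ψ, hχ, hψ, rfl⟩ := h
  intro g x
  have h1 := isClassFunction_of_isCharacter hχ g x
  have h2 := isClassFunction_of_isCharacter hψ g x
  simp only [Pi.sub_apply, h1, h2]

theorem alphaFun_eq_zsmul {X : Type*} [Group X] {χ ξ : X → ℂ} (hχc : Cfsg.IsCharacter X χ)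
    (hξc : Cfsg.IsCharacter X ξ) :
    alphaFun χ ξ = ((Cfsg.charDegree ξ : ℕ) : ℤ) • χ + (-((Cfsg.charDegree χ : ℕ) : ℤ)) • ξ := by
  funext x
  show (ξ 1) * χ x - (χ 1) * ξ x = ((Cfsg.charDegree ξ : ℕ) : ℤ) • χ x
    + (-((Cfsg.charDegree χ : ℕ) : ℤ)) • ξ x
  rw [zsmul_eq_mul, zsmul_eq_mul, char_one_eq_charDegree hχc, char_one_eq_charDegree hξc]
  push_cast
  ring

theorem alphaFun_mem_zspan {X : Type*} [Group X] (S : Set (X → ℂ)) {χ ξ : X → ℂ}
    (hχ : χ ∈ S) (hξ : ξ ∈ S) (hχc : Cfsg.IsCharacter X χ) (hξc : Cfsg.IsCharacter X ξ) :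
    alphaFun χ ξ ∈ Cfsg.zspan S := by
  rw [alphaFun_eq_zsmul hχc hξc]
  show _ ∈ Submodule.span ℤ S
  exact Submodule.add_mem _ (Submodule.smul_mem _ _ (Submodule.subset_span hχ))
    (Submodule.smul_mem _ _ (Submodule.subset_span hξ))

theorem alphaFun_mem_zspanOn {X : Type*} [Group X] (S : Set (X → ℂ)) {χ ξ : X → ℂ}
    (hχ : χ ∈ S) (hξ : ξ ∈ S) (hχc : Cfsg.IsCharacter X χ) (hξc : Cfsg.IsCharacter X ξ) :
    alphaFun χ ξ ∈ Cfsg.zspanOn S ({1}ᶜ : Set X) := by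
  refine ⟨alphaFun_mem_zspan S hχ hξ hχc hξc, ?_⟩
  intro x hx
  have hx1 : x = 1 := by
    by_contra h
    exact hx h
  rw [hx1, alphaFun_one]

theorem isClassFunction_alphaFun {X : Type*} [Group X] {χ ξ : X → ℂ}
    (hχc : Cfsg.IsCharacter X χ) (hξc : Cfsg.IsCharacter X ξ) :
    Cfsg.IsClassFunction X (alphaFun χ ξ) := by
  intro g x
  rw [alphaFun_apply, alphaFun_apply, isClassFunction_of_isCharacter hχc g x,
    isClassFunction_of_isCharacter hξc g x]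

section Exceptional

variable {G : Type*} [Group G] [Fintype G] (K : Subgroup G)
  [Fintype ↥(Subgroup.normalizer (K : Set G))]

omit [Fintype G] [Fintype ↥(Subgroup.normalizer (K : Set G))] in
/-- The Frobenius condition inside the normalizer. -/
theorem frob_of_hC (hC : ∀ k ∈ K, k ≠ 1 → Subgroup.centralizer ({k} : Set G) ≤ K) :
    ∀ k ∈ (K.subgroupOf (Subgroup.normalizer (K : Set G))), k ≠ 1 → ∀ x : ↥(Subgroup.normalizer (K : Set G)), x * k = k * x → x ∈ (K.subgroupOf (Subgroup.normalizer (K : Set G))) := by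
  intro k hk hk1 x hx
  rw [Subgroup.mem_subgroupOf] at hk ⊢
  apply hC (k : G) hk (fun h => hk1 (Subtype.ext h))
  rw [Subgroup.mem_centralizer_iff]
  intro y hy
  rw [Set.mem_singleton_iff] at hy
  rw [hy]
  exact (congrArg Subtype.val hx).symm

omit [Fintype G] [Fintype ↥(Subgroup.normalizer (K : Set G))] in
theorem mem_S_iff (S : Set (↥(Subgroup.normalizer (K : Set G)) → ℂ))
    (hS : S = {χ : ↥(Subgroup.normalizer (K : Set G)) → ℂ | Cfsg.IsIrrCharacter ↥(Subgroup.normalizer (K : Set G)) χ ∧ ∃ k : ↥(Subgroup.normalizer (K : Set G)), (k : G) ∈ K ∧ χ k ≠ χ 1})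
    (χ : ↥(Subgroup.normalizer (K : Set G)) → ℂ) :
    χ ∈ S ↔ Cfsg.IsIrrCharacter ↥(Subgroup.normalizer (K : Set G)) χ ∧ ¬ ∀ x ∈ (K.subgroupOf (Subgroup.normalizer (K : Set G))), χ x = χ 1 := by
  rw [hS]
  constructor
  · rintro ⟨h1, k, hk, hne⟩
    exact ⟨h1, fun hall => hne (hall k (Subgroup.mem_subgroupOf.2 hk))⟩
  · rintro ⟨h1, h2⟩
    push Not at h2
    obtain ⟨k, hk, hne⟩ := h2
    exact ⟨h1, k, Subgroup.mem_subgroupOf.1 hk, hne⟩

/-- `star` of the difference `ξ(1) χ - χ(1) ξ`. -/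
theorem star_alpha (S : Set (↥(Subgroup.normalizer (K : Set G)) → ℂ))
    (star : (↥(Subgroup.normalizer (K : Set G)) → ℂ) → (G → ℂ)) (hstar : Cfsg.IsLinearIsometryOn (Cfsg.zspan S) star)
    {χ ξ : ↥(Subgroup.normalizer (K : Set G)) → ℂ} (hχ : χ ∈ S) (hξ : ξ ∈ S) (hχc : Cfsg.IsCharacter ↥(Subgroup.normalizer (K : Set G)) χ)
    (hξc : Cfsg.IsCharacter ↥(Subgroup.normalizer (K : Set G)) ξ) :
    star (alphaFun χ ξ) = (ξ 1) • star χ - (χ 1) • star ξ := by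
  have hχz : χ ∈ Cfsg.zspan S := Submodule.subset_span hχ
  have hξz : ξ ∈ Cfsg.zspan S := Submodule.subset_span hξ
  have h1 : ((Cfsg.charDegree ξ : ℕ) : ℤ) • χ ∈ Cfsg.zspan S :=
    Submodule.smul_mem (Submodule.span ℤ S) _ hχz
  have h2 : (-((Cfsg.charDegree χ : ℕ) : ℤ)) • ξ ∈ Cfsg.zspan S :=
    Submodule.smul_mem (Submodule.span ℤ S) _ hξz
  rw [alphaFun_eq_zsmul hχc hξc, hstar.1 _ h1 _ h2, hstar.2.1 χ hχz, hstar.2.1 ξ hξz,
    char_one_eq_charDegree hχc, char_one_eq_charDegree hξc]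
  funext g
  show ((Cfsg.charDegree ξ : ℕ) : ℤ) • star χ g + (-((Cfsg.charDegree χ : ℕ) : ℤ)) • star ξ g
    = (Cfsg.charDegree ξ : ℂ) * star χ g - (Cfsg.charDegree χ : ℂ) * star ξ g
  rw [zsmul_eq_mul, zsmul_eq_mul]
  push_cast
  ring

/-- Frobenius reciprocity for `star` of the difference. -/
theorem classInner_star_alpha (S : Set (↥(Subgroup.normalizer (K : Set G)) → ℂ))
    (star : (↥(Subgroup.normalizer (K : Set G)) → ℂ) → (G → ℂ))
    (hext : ∀ α ∈ Cfsg.zspanOn S ({1}ᶜ : Set ↥(Subgroup.normalizer (K : Set G))), star α = Cfsg.indFun (Subgroup.normalizer (K : Set G)) α)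
    {χ ξ : ↥(Subgroup.normalizer (K : Set G)) → ℂ} (hχ : χ ∈ S) (hξ : ξ ∈ S) (hχc : Cfsg.IsCharacter ↥(Subgroup.normalizer (K : Set G)) χ)
    (hξc : Cfsg.IsCharacter ↥(Subgroup.normalizer (K : Set G)) ξ) (Ψ : G → ℂ) (hΨ : Cfsg.IsClassFunction G Ψ) :
    Cfsg.classInner (star (alphaFun χ ξ)) Ψ
      = Cfsg.classInner (alphaFun χ ξ) (fun x : ↥(Subgroup.normalizer (K : Set G)) => Ψ (x : G)) := by
  rw [hext _ (alphaFun_mem_zspanOn S hχ hξ hχc hξc)]
  exact frobenius_reciprocity (Subgroup.normalizer (K : Set G)) _ Ψ hΨ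

omit [Fintype G] in
/-- The difference vanishes off `K`. -/
theorem alpha_vanish (hC : ∀ k ∈ K, k ≠ 1 → Subgroup.centralizer ({k} : Set G) ≤ K)
    {χ ξ : ↥(Subgroup.normalizer (K : Set G)) → ℂ} (hχ : Cfsg.IsIrrCharacter ↥(Subgroup.normalizer (K : Set G)) χ) (hξ : Cfsg.IsIrrCharacter ↥(Subgroup.normalizer (K : Set G)) ξ)
    (hχrel : ¬ ∀ x ∈ (K.subgroupOf (Subgroup.normalizer (K : Set G))), χ x = χ 1) (hξrel : ¬ ∀ x ∈ (K.subgroupOf (Subgroup.normalizer (K : Set G))), ξ x = ξ 1)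
    (x : ↥(Subgroup.normalizer (K : Set G))) (hx : (x : G) ∉ K) : alphaFun χ ξ x = 0 := by
  classical
  have := Fintype.ofFinite (Cfsg.IrrCharacter ↥(Subgroup.normalizer (K : Set G)))
  have hx' : x ∉ (K.subgroupOf (Subgroup.normalizer (K : Set G))) := fun h => hx (Subgroup.mem_subgroupOf.1 h)
  have h1 := rel_vanish (K.subgroupOf (Subgroup.normalizer (K : Set G))) (frob_of_hC K hC) ⟨χ, hχ⟩ hχrel hx'
  have h2 := rel_vanish (K.subgroupOf (Subgroup.normalizer (K : Set G))) (frob_of_hC K hC) ⟨ξ, hξ⟩ hξrel hx'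
  simp only at h1 h2
  rw [alphaFun_apply, h1, h2]
  ring

/-- The basic relation between `star χ` and `star ξ` on `K \ {1}`. -/
theorem star_diff_apply (hTI : ∀ g : G, g ∉ Subgroup.normalizer (K : Set G) → ∀ k ∈ K, g * k * g⁻¹ ∈ K → k = 1)
    (hC : ∀ k ∈ K, k ≠ 1 → Subgroup.centralizer ({k} : Set G) ≤ K)
    (S : Set (↥(Subgroup.normalizer (K : Set G)) → ℂ))
    (hS : S = {χ : ↥(Subgroup.normalizer (K : Set G)) → ℂ | Cfsg.IsIrrCharacter ↥(Subgroup.normalizer (K : Set G)) χ ∧ ∃ k : ↥(Subgroup.normalizer (K : Set G)), (k : G) ∈ K ∧ χ k ≠ χ 1})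
    (star : (↥(Subgroup.normalizer (K : Set G)) → ℂ) → (G → ℂ)) (hstar : Cfsg.IsLinearIsometryOn (Cfsg.zspan S) star)
    (hext : ∀ α ∈ Cfsg.zspanOn S ({1}ᶜ : Set ↥(Subgroup.normalizer (K : Set G))), star α = Cfsg.indFun (Subgroup.normalizer (K : Set G)) α)
    {χ ξ : ↥(Subgroup.normalizer (K : Set G)) → ℂ} (hχ : χ ∈ S) (hξ : ξ ∈ S) (k : ↥(Subgroup.normalizer (K : Set G))) (hk : (k : G) ∈ K) (hk1 : k ≠ 1) :
    ξ 1 * star χ (k : G) - χ 1 * star ξ (k : G) = ξ 1 * χ k - χ 1 * ξ k := by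
  classical
  have hmem := mem_S_iff K S hS
  obtain ⟨hχirr, hχrel⟩ := (hmem χ).1 hχ
  obtain ⟨hξirr, hξrel⟩ := (hmem ξ).1 hξ
  have hχc := isCharacter_of_isIrrCharacter hχirr
  have hξc := isCharacter_of_isIrrCharacter hξirr
  have h1 := congrFun (star_alpha K S star hstar hχ hξ hχc hξc) (k : G)
  rw [hext _ (alphaFun_mem_zspanOn S hχ hξ hχc hξc)] at h1
  have h2 : Cfsg.indFun (Subgroup.normalizer (K : Set G)) (alphaFun χ ξ) (k : G)
      = alphaFun χ ξ k :=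
    Cfsg.Agent.Lib.Helper3.indFun_TI_apply (K : Set G) hTI (alphaFun χ ξ)
      (isClassFunction_alphaFun hχc hξc)
      (fun x hx => alpha_vanish K hC hχirr hξirr hχrel hξrel x hx) k hk hk1
  rw [h2, alphaFun_apply] at h1
  simp only [Pi.sub_apply, Pi.smul_apply, smul_eq_mul] at h1
  exact h1.symm


/-- The difference `star χ - χ` on `K \ {1}` is `m χ(1) / e` for a single integer `m`. -/
theorem exceptional_const (hTI : ∀ g : G, g ∉ Subgroup.normalizer (K : Set G) → ∀ k ∈ K, g * k * g⁻¹ ∈ K → k = 1)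
    (hC : ∀ k ∈ K, k ≠ 1 → Subgroup.centralizer ({k} : Set G) ≤ K)
    (S : Set (↥(Subgroup.normalizer (K : Set G)) → ℂ))
    (hS : S = {χ : ↥(Subgroup.normalizer (K : Set G)) → ℂ | Cfsg.IsIrrCharacter ↥(Subgroup.normalizer (K : Set G)) χ ∧ ∃ k : ↥(Subgroup.normalizer (K : Set G)), (k : G) ∈ K ∧ χ k ≠ χ 1})
    (star : (↥(Subgroup.normalizer (K : Set G)) → ℂ) → (G → ℂ)) (hstar : Cfsg.IsLinearIsometryOn (Cfsg.zspan S) star)
    (hext : ∀ α ∈ Cfsg.zspanOn S ({1}ᶜ : Set ↥(Subgroup.normalizer (K : Set G))), star α = Cfsg.indFun (Subgroup.normalizer (K : Set G)) α) :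
    ∃ m : ℤ, ∀ χ ∈ S, ∀ k : ↥(Subgroup.normalizer (K : Set G)), (k : G) ∈ K → k ≠ 1 →
      star χ k - χ k = (m : ℂ) * χ 1 / ((K.subgroupOf (Subgroup.normalizer (K : Set G))).index : ℂ) := by
  classical
  have := Fintype.ofFinite (Cfsg.IrrCharacter ↥(Subgroup.normalizer (K : Set G)))
  have hfrob := frob_of_hC K hC
  by_cases hne : S.Nonempty
  swap
  · exact ⟨0, fun χ hχ => absurd ⟨χ, hχ⟩ hne⟩
  obtain ⟨χ₁, hχ₁⟩ := hne
  have hmem := mem_S_iff K S hS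
  obtain ⟨hχ₁irr, hχ₁rel⟩ := (hmem χ₁).1 hχ₁
  obtain ⟨k₀, hk₀K, hk₀1⟩ : ∃ k₀ : ↥(Subgroup.normalizer (K : Set G)), (k₀ : G) ∈ K ∧ k₀ ≠ 1 := by
    have h := hχ₁rel
    push Not at h
    obtain ⟨k, hk, hne⟩ := h
    refine ⟨k, Subgroup.mem_subgroupOf.1 hk, ?_⟩
    rintro rfl
    exact hne rfl
  have hchar : ∀ χ ∈ S, Cfsg.IsCharacter ↥(Subgroup.normalizer (K : Set G)) χ :=
    fun χ hχ => isCharacter_of_isIrrCharacter ((hmem χ).1 hχ).1
  have hzs : ∀ χ ∈ S, χ ∈ Cfsg.zspan S := fun χ hχ => Submodule.subset_span hχ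
  have hE1 : ∀ χ ∈ S, ∀ ξ ∈ S, ∀ k : ↥(Subgroup.normalizer (K : Set G)), (k : G) ∈ K → k ≠ 1 →
      ξ 1 * star χ (k : G) - χ 1 * star ξ (k : G) = ξ 1 * χ k - χ 1 * ξ k :=
    fun χ hχ ξ hξ k hk hk1 => star_diff_apply K hTI hC S hS star hstar hext hχ hξ k hk hk1
  have hcf₁ : Cfsg.IsClassFunction G (star χ₁) :=
    isClassFunction_of_gen (hstar.2.2.2 χ₁ (hzs χ₁ hχ₁))
  obtain ⟨δ, hδ⟩ : ∃ δ : ↥(Subgroup.normalizer (K : Set G)) → ℂ, δ = (fun x : ↥(Subgroup.normalizer (K : Set G)) => star χ₁ (x : G)) - χ₁ := ⟨_, rfl⟩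
  have hδcf : Cfsg.IsClassFunction ↥(Subgroup.normalizer (K : Set G)) δ := by
    intro g x
    rw [hδ]
    have h1 := hcf₁ (g : G) (x : G)
    have h2 := isClassFunction_of_isCharacter (hchar χ₁ hχ₁) g x
    simp only [Pi.sub_apply, h2]
    rw [← h1]
    rfl
  have hconst : ∀ k : ↥(Subgroup.normalizer (K : Set G)), (k : G) ∈ K → k ≠ 1 → δ k = δ k₀ := by
    intro k hk hk1
    apply const_on_K (K.subgroupOf (Subgroup.normalizer (K : Set G))) δ hδcf _ (Subgroup.mem_subgroupOf.2 hk) hk1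
      (Subgroup.mem_subgroupOf.2 hk₀K) hk₀1
    intro χ ξ hχ hξ
    have hχS : (χ : ↥(Subgroup.normalizer (K : Set G)) → ℂ) ∈ S := (hmem _).2 ⟨χ.2, hχ⟩
    have hξS : (ξ : ↥(Subgroup.normalizer (K : Set G)) → ℂ) ∈ S := (hmem _).2 ⟨ξ.2, hξ⟩
    have h1 := classInner_star_alpha K S star hext hχS hξS (hchar _ hχS) (hchar _ hξS)
      (star χ₁) hcf₁
    have h2 := hstar.2.2.1 (alphaFun (χ : ↥(Subgroup.normalizer (K : Set G)) → ℂ) (ξ : ↥(Subgroup.normalizer (K : Set G)) → ℂ))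
      (alphaFun_mem_zspan S hχS hξS (hchar _ hχS) (hchar _ hξS)) χ₁ (hzs χ₁ hχ₁)
    rw [hδ, Cfsg.Agent.Lib.Helper26.classInner_sub_right]
    change Cfsg.classInner (alphaFun (χ : ↥(Subgroup.normalizer (K : Set G)) → ℂ) (ξ : ↥(Subgroup.normalizer (K : Set G)) → ℂ)) _
      - Cfsg.classInner (alphaFun (χ : ↥(Subgroup.normalizer (K : Set G)) → ℂ) (ξ : ↥(Subgroup.normalizer (K : Set G)) → ℂ)) χ₁ = 0
    rw [← h1, h2, sub_self]
  obtain ⟨C₁, hC₁⟩ : ∃ C₁ : ℂ, C₁ = star χ₁ (k₀ : G) - χ₁ k₀ := ⟨_, rfl⟩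
  have hconst' : ∀ k : ↥(Subgroup.normalizer (K : Set G)), (k : G) ∈ K → k ≠ 1 → star χ₁ (k : G) - χ₁ k = C₁ := by
    intro k hk hk1
    have := hconst k hk hk1
    rw [hδ] at this
    rw [hC₁]
    exact this
  have hd₁ : χ₁ 1 ≠ 0 := char_one_ne_zero hχ₁irr
  obtain ⟨c, hc⟩ : ∃ c : ℂ, c = C₁ / χ₁ 1 := ⟨_, rfl⟩
  have hdiff : ∀ χ ∈ S, ∀ k : ↥(Subgroup.normalizer (K : Set G)), (k : G) ∈ K → k ≠ 1 →
      star χ (k : G) - χ k = c * χ 1 := by
    intro χ hχ k hk hk1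
    have h1 := hE1 χ hχ χ₁ hχ₁ k hk hk1
    have h2 := hconst' k hk hk1
    rw [hc]
    field_simp
    linear_combination h1 + (χ 1) * h2
  -- integrality at the level of `K`
  have hKint : ∀ χ ∈ S, ∃ n : ℤ, c * χ 1 = n := by
    intro χ hχ
    obtain ⟨A, B, hA, hB, hAB⟩ := hstar.2.2.2 χ (hzs χ hχ)
    have hAN : Cfsg.IsCharacter ↥(Subgroup.normalizer (K : Set G)) (fun x : ↥(Subgroup.normalizer (K : Set G)) => A (x : G)) := isCharacter_restrict (Subgroup.normalizer (K : Set G)) hA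
    have hBN : Cfsg.IsCharacter ↥(Subgroup.normalizer (K : Set G)) (fun x : ↥(Subgroup.normalizer (K : Set G)) => B (x : G)) := isCharacter_restrict (Subgroup.normalizer (K : Set G)) hB
    have hAK : Cfsg.IsCharacter ↥(K.subgroupOf (Subgroup.normalizer (K : Set G))) (fun k : ↥(K.subgroupOf (Subgroup.normalizer (K : Set G))) => A ((k : ↥(Subgroup.normalizer (K : Set G))) : G)) :=
      isCharacter_restrict (K.subgroupOf (Subgroup.normalizer (K : Set G))) hAN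
    have hBK : Cfsg.IsCharacter ↥(K.subgroupOf (Subgroup.normalizer (K : Set G))) (fun k : ↥(K.subgroupOf (Subgroup.normalizer (K : Set G))) => B ((k : ↥(Subgroup.normalizer (K : Set G))) : G)) :=
      isCharacter_restrict (K.subgroupOf (Subgroup.normalizer (K : Set G))) hBN
    have hgK : Cfsg.IsCharacter ↥(K.subgroupOf (Subgroup.normalizer (K : Set G))) (fun k : ↥(K.subgroupOf (Subgroup.normalizer (K : Set G))) => χ (k : ↥(Subgroup.normalizer (K : Set G)))) :=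
      isCharacter_restrict (K.subgroupOf (Subgroup.normalizer (K : Set G))) (hchar χ hχ)
    have : Fintype ↥(K.subgroupOf (Subgroup.normalizer (K : Set G))) := Fintype.ofFinite _
    apply int_const_of_genchar _ _ _ hAK hBK hgK (c * χ 1)
    · intro k hk1
      have h1 := hdiff χ hχ (k : ↥(Subgroup.normalizer (K : Set G))) (Subgroup.mem_subgroupOf.1 k.2)
        (fun h => hk1 (Subtype.ext h))
      rw [hAB] at h1
      exact h1
    · exact ⟨⟨k₀, Subgroup.mem_subgroupOf.2 hk₀K⟩, fun h => hk₀1 (congrArg Subtype.val h)⟩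
  -- integrality at the level of `N`
  obtain ⟨m, hm⟩ : ∃ m : ℤ, c * (((K.subgroupOf (Subgroup.normalizer (K : Set G))).index : ℕ) : ℂ) = m := by
    apply int_of_mul_degree (Finset.univ.filter (fun χ : Cfsg.IrrCharacter ↥(Subgroup.normalizer (K : Set G)) => ¬ ∀ x ∈ (K.subgroupOf (Subgroup.normalizer (K : Set G))), (χ : ↥(Subgroup.normalizer (K : Set G)) → ℂ) x = (χ : ↥(Subgroup.normalizer (K : Set G)) → ℂ) 1)) ?_ c ?_ (K.subgroupOf (Subgroup.normalizer (K : Set G))).index (sum_rel_deg_sq (K.subgroupOf (Subgroup.normalizer (K : Set G))))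
    · exact ⟨⟨χ₁, hχ₁irr⟩, Finset.mem_filter.2 ⟨Finset.mem_univ _, hχ₁rel⟩⟩
    · intro χ hχ
      have hrel := (Finset.mem_filter.1 hχ).2
      have hχS : (χ : ↥(Subgroup.normalizer (K : Set G)) → ℂ) ∈ S := (hmem _).2 ⟨χ.2, hrel⟩
      obtain ⟨n, hn⟩ := hKint _ hχS
      refine ⟨n, ?_⟩
      rw [← hn, char_one_eq_charDegree (isCharacter_of_isIrrCharacter χ.2)]
  refine ⟨m, ?_⟩
  intro χ hχ k hk hk1
  rw [hdiff χ hχ k hk hk1, ← hm]
  have hidx : (((K.subgroupOf (Subgroup.normalizer (K : Set G))).index : ℕ) : ℂ) ≠ 0 := by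
    exact_mod_cast Subgroup.index_ne_zero_of_finite
  field_simp

/-- An irreducible character of `G` is `± star χ` for some `χ ∈ S` iff it is not constant on
`K \ {1}`. -/
theorem exceptional_iff (hTI : ∀ g : G, g ∉ Subgroup.normalizer (K : Set G) → ∀ k ∈ K, g * k * g⁻¹ ∈ K → k = 1)
    (hC : ∀ k ∈ K, k ≠ 1 → Subgroup.centralizer ({k} : Set G) ≤ K)
    (S : Set (↥(Subgroup.normalizer (K : Set G)) → ℂ))
    (hS : S = {χ : ↥(Subgroup.normalizer (K : Set G)) → ℂ | Cfsg.IsIrrCharacter ↥(Subgroup.normalizer (K : Set G)) χ ∧ ∃ k : ↥(Subgroup.normalizer (K : Set G)), (k : G) ∈ K ∧ χ k ≠ χ 1})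
    (star : (↥(Subgroup.normalizer (K : Set G)) → ℂ) → (G → ℂ)) (hstar : Cfsg.IsLinearIsometryOn (Cfsg.zspan S) star)
    (hext : ∀ α ∈ Cfsg.zspanOn S ({1}ᶜ : Set ↥(Subgroup.normalizer (K : Set G))), star α = Cfsg.indFun (Subgroup.normalizer (K : Set G)) α)
    (htwo : ∃ χ ∈ S, ∃ ξ ∈ S, χ ≠ ξ) (ψ : G → ℂ) (hψ : Cfsg.IsIrrCharacter G ψ) :
    (∃ χ ∈ S, ψ = star χ ∨ ψ = -star χ) ↔ ∃ a ∈ K, ∃ b ∈ K, a ≠ 1 ∧ b ≠ 1 ∧ ψ a ≠ ψ b := by
  classical
  have := Fintype.ofFinite (Cfsg.IrrCharacter ↥(Subgroup.normalizer (K : Set G)))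
  have := Fintype.ofFinite (Cfsg.IrrCharacter G)
  have hfrob := frob_of_hC K hC
  have hmem := mem_S_iff K S hS
  have hchar : ∀ χ ∈ S, Cfsg.IsCharacter ↥(Subgroup.normalizer (K : Set G)) χ :=
    fun χ hχ => isCharacter_of_isIrrCharacter ((hmem χ).1 hχ).1
  have hzs : ∀ χ ∈ S, χ ∈ Cfsg.zspan S := fun χ hχ => Submodule.subset_span hχ
  have hψcf : Cfsg.IsClassFunction G ψ :=
    isClassFunction_of_isCharacter (isCharacter_of_isIrrCharacter hψ)
  have hsigned : ∀ χ ∈ S, Cfsg.IsIrrCharacter G (star χ) ∨ Cfsg.IsIrrCharacter G (-star χ) := by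
    intro χ hχ
    apply Cfsg.Agent.Lib.Helper26.irr_or_neg_of_norm_one (hstar.2.2.2 χ (hzs χ hχ))
    rw [hstar.2.2.1 χ (hzs χ hχ) χ (hzs χ hχ)]
    have := classInner_irr_fun ((hmem χ).1 hχ).1 ((hmem χ).1 hχ).1
    rwa [if_pos rfl] at this
  constructor
  · rintro ⟨χ₀, hχ₀, hψeq⟩
    by_contra hcon
    push Not at hcon
    obtain ⟨hχ₀irr, hχ₀rel⟩ := (hmem χ₀).1 hχ₀
    obtain ⟨k₀, hk₀K, hk₀1⟩ : ∃ k₀ : ↥(Subgroup.normalizer (K : Set G)), (k₀ : G) ∈ K ∧ k₀ ≠ 1 := by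
      have h := hχ₀rel
      push Not at h
      obtain ⟨k, hk, hne⟩ := h
      refine ⟨k, Subgroup.mem_subgroupOf.1 hk, ?_⟩
      rintro rfl
      exact hne rfl
    obtain ⟨ξ, hξ, hξne⟩ : ∃ ξ ∈ S, ξ ≠ χ₀ := by
      obtain ⟨χ, hχ, ξ, hξ, hne⟩ := htwo
      by_cases h : χ = χ₀
      · exact ⟨ξ, hξ, fun h' => hne (h.trans h'.symm)⟩
      · exact ⟨χ, hχ, h⟩
    obtain ⟨hξirr, hξrel⟩ := (hmem ξ).1 hξ
    have hαz : alphaFun χ₀ ξ ∈ Cfsg.zspan S :=
      alphaFun_mem_zspan S hχ₀ hξ (hchar _ hχ₀) (hchar _ hξ)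
    have h1 : Cfsg.classInner (star (alphaFun χ₀ ξ)) (star χ₀) = ξ 1 := by
      rw [hstar.2.2.1 _ hαz χ₀ (hzs χ₀ hχ₀)]
      unfold alphaFun
      rw [classInner_sub_left, classInner_smul_left, classInner_smul_left,
        classInner_irr_fun hχ₀irr hχ₀irr, if_pos rfl, classInner_irr_fun hξirr hχ₀irr,
        if_neg hξne]
      ring
    have h2 : Cfsg.classInner (star (alphaFun χ₀ ξ)) ψ = 0 := by
      rw [classInner_star_alpha K S star hext hχ₀ hξ (hchar _ hχ₀) (hchar _ hξ) ψ hψcf]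
      obtain ⟨v, hv⟩ : ∃ v : ℂ, v = ψ (k₀ : G) := ⟨_, rfl⟩
      have hterm : ∀ x : ↥(Subgroup.normalizer (K : Set G)), alphaFun χ₀ ξ x * conj (ψ (x : G))
          = alphaFun χ₀ ξ x * conj v := by
        intro x
        by_cases hx1 : x = 1
        · rw [hx1, alphaFun_one, zero_mul, zero_mul]
        · by_cases hxK : (x : G) ∈ K
          · rw [hv, hcon (x : G) hxK (k₀ : G) hk₀K (fun h => hx1 (Subtype.ext h))
              (fun h => hk₀1 (Subtype.ext h))]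
          · rw [alpha_vanish K hC hχ₀irr hξirr hχ₀rel hξrel x hxK, zero_mul, zero_mul]
      have hsum : ∑ x : ↥(Subgroup.normalizer (K : Set G)), alphaFun χ₀ ξ x = 0 := by
        simp only [alphaFun_apply]
        rw [Finset.sum_sub_distrib, ← Finset.mul_sum, ← Finset.mul_sum,
          sum_rel_eq_zero (K.subgroupOf (Subgroup.normalizer (K : Set G))) ⟨χ₀, hχ₀irr⟩ hχ₀rel, sum_rel_eq_zero (K.subgroupOf (Subgroup.normalizer (K : Set G))) ⟨ξ, hξirr⟩ hξrel]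
        ring
      unfold Cfsg.classInner
      simp_rw [hterm]
      rw [← Finset.sum_mul, hsum, zero_mul, mul_zero]
    have hξ1 : ξ 1 ≠ 0 := char_one_ne_zero hξirr
    rcases hψeq with h | h
    · rw [h, h1] at h2
      exact hξ1 h2
    · rw [h, Cfsg.Agent.Lib.Helper26.classInner_neg_right, h1] at h2
      exact hξ1 (neg_eq_zero.1 h2)
  · rintro ⟨a, ha, b, hb, ha1, hb1, hab⟩
    by_contra hcon
    push Not at hcon
    have horth : ∀ χ ∈ S, Cfsg.classInner (star χ) ψ = 0 := by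
      intro χ hχ
      obtain ⟨hne1, hne2⟩ := hcon χ hχ
      rcases hsigned χ hχ with h | h
      · rw [classInner_irr_fun h hψ, if_neg (Ne.symm hne1)]
      · have := classInner_irr_fun h hψ
        rw [if_neg (Ne.symm hne2), Cfsg.Agent.Lib.Helper26.classInner_neg_left] at this
        exact neg_eq_zero.1 this
    have hδcf : Cfsg.IsClassFunction ↥(Subgroup.normalizer (K : Set G)) (fun x : ↥(Subgroup.normalizer (K : Set G)) => ψ (x : G)) :=
      fun g h => hψcf (g : G) (h : G)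
    have haN : a ∈ (Subgroup.normalizer (K : Set G)) := Subgroup.le_normalizer ha
    have hbN : b ∈ (Subgroup.normalizer (K : Set G)) := Subgroup.le_normalizer hb
    have key := const_on_K (K.subgroupOf (Subgroup.normalizer (K : Set G))) (fun x : ↥(Subgroup.normalizer (K : Set G)) => ψ (x : G)) hδcf ?_ (k := ⟨a, haN⟩)
      (k' := ⟨b, hbN⟩) (Subgroup.mem_subgroupOf.2 ha) (fun h => ha1 (congrArg Subtype.val h))
      (Subgroup.mem_subgroupOf.2 hb) (fun h => hb1 (congrArg Subtype.val h))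
    · exact hab key
    · intro χ ξ hχ hξ
      have hχS : (χ : ↥(Subgroup.normalizer (K : Set G)) → ℂ) ∈ S := (hmem _).2 ⟨χ.2, hχ⟩
      have hξS : (ξ : ↥(Subgroup.normalizer (K : Set G)) → ℂ) ∈ S := (hmem _).2 ⟨ξ.2, hξ⟩
      have h1 := classInner_star_alpha K S star hext hχS hξS (hchar _ hχS) (hchar _ hξS)
        ψ hψcf
      change Cfsg.classInner (alphaFun (χ : ↥(Subgroup.normalizer (K : Set G)) → ℂ) (ξ : ↥(Subgroup.normalizer (K : Set G)) → ℂ)) _ = 0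
      rw [← h1, star_alpha K S star hstar hχS hξS (hchar _ hχS) (hchar _ hξS),
        classInner_sub_left, classInner_smul_left, classInner_smul_left, horth _ hχS,
        horth _ hξS]
      ring

end Exceptional

end Cfsg.Agent.Lib.Helper4
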