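import Mathlib
import Cfsg.Prelude.Def_Characters
import Cfsg.Prelude.Def_OddOrderLocal
import Cfsg.Agent.Lib.Helper25.RatChar

/-!
# Peterfalvi (6.7): a congruence for characters constant on a central TI subgroup

`sum_free_orbits`: a sum of algebraic integers over a finite set on which a finite group acts
freely (by conjugation), the summand being invariant, is `|P|` times an algebraic integer.

`exists_scalar`: Schur's lemma for the class sum of a conjugation-invariant finset.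

`pf67`: the congruence `ψ(1) ≡ ψ(z) (mod |P|)`.
-/

set_option autoImplicit false

namespace Cfsg.Agent.Lib.Helper4.PF67

open Representation

/-- A sum of an invariant, algebraic-integer valued function over a set on which `P` acts
freely by conjugation is `|P|` times an algebraic integer. -/
theorem sum_free_orbits {G : Type*} [Group G] (P : Subgroup G) [Finite P] (h : G → ℂ)
    (hint : ∀ u, IsIntegral ℤ (h u)) :
    ∀ (S : Finset G), (∀ u ∈ S, ∀ y ∈ P, y * u * y⁻¹ ∈ S) →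
      (∀ u ∈ S, ∀ y ∈ P, y * u = u * y → y = 1) →
      (∀ u ∈ S, ∀ y ∈ P, h (y * u * y⁻¹) = h u) →
      ∃ a : ℂ, IsIntegral ℤ a ∧ ∑ u ∈ S, h u = (Nat.card P : ℂ) * a := by
  classical
  intro S
  induction' hn : S.card using Nat.strong_induction_on with n ih generalizing S
  intro hinv hfree hconst
  rcases S.eq_empty_or_nonempty with rfl | ⟨u, hu⟩
  · exact ⟨0, isIntegral_zero, by simp⟩
  · have := Fintype.ofFinite P
    set O : Finset G := Finset.univ.image (fun y : P => (y : G) * u * (y : G)⁻¹) with hO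
    have hinj : Function.Injective (fun y : P => (y : G) * u * (y : G)⁻¹) := by
      intro y y' hyy
      simp only at hyy
      have h1 : ((y' : G)⁻¹ * y) * u = u * ((y' : G)⁻¹ * y) := by
        have h0 : (y : G) * u = (y' : G) * u * (y' : G)⁻¹ * y := by
          rw [← hyy]; group
        calc ((y' : G)⁻¹ * y) * u = (y' : G)⁻¹ * ((y : G) * u) := by group
          _ = (y' : G)⁻¹ * ((y' : G) * u * (y' : G)⁻¹ * y) := by rw [h0]
          _ = u * ((y' : G)⁻¹ * y) := by group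
      have h2 := hfree u hu _ (P.mul_mem (P.inv_mem y'.2) y.2) h1
      have h3 : (y : G) = y' := by
        have := congrArg (fun t => (y' : G) * t) h2
        simpa using this
      exact Subtype.ext h3
    have hOS : O ⊆ S := by
      intro v hv
      rw [hO, Finset.mem_image] at hv
      obtain ⟨y, -, rfl⟩ := hv
      exact hinv u hu y y.2
    have hsumO : ∑ v ∈ O, h v = (Nat.card P : ℂ) * h u := by
      rw [hO, Finset.sum_image (fun a _ b _ hab => hinj hab)]
      have hc : ∀ y ∈ (Finset.univ : Finset P), h ((y : G) * u * (y : G)⁻¹) = h u :=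
        fun y _ => hconst u hu y y.2
      rw [Finset.sum_congr rfl hc]
      simp [Nat.card_eq_fintype_card]
    have huO : u ∈ O := by
      rw [hO, Finset.mem_image]; exact ⟨1, Finset.mem_univ _, by simp⟩
    have hlt : (S \ O).card < n := by
      rw [← hn]
      exact Finset.card_lt_card (Finset.sdiff_ssubset hOS ⟨u, huO⟩)
    obtain ⟨a', ha', hs'⟩ := ih _ hlt (S \ O) rfl (by
        intro v hv y hy
        rw [Finset.mem_sdiff] at hv ⊢
        refine ⟨hinv v hv.1 y hy, fun hmem => hv.2 ?_⟩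
        rw [hO, Finset.mem_image] at hmem ⊢
        obtain ⟨y', -, hy'⟩ := hmem
        refine ⟨⟨y⁻¹ * y', P.mul_mem (P.inv_mem hy) y'.2⟩, Finset.mem_univ _, ?_⟩
        simp only at hy' ⊢
        rw [show (y⁻¹ * (y' : G)) * u * (y⁻¹ * (y' : G))⁻¹
          = y⁻¹ * ((y' : G) * u * (y' : G)⁻¹) * y by group, hy']
        group)
      (fun v hv y hy hc => hfree v (Finset.mem_sdiff.mp hv).1 y hy hc)
      (fun v hv y hy => hconst v (Finset.mem_sdiff.mp hv).1 y hy)
    refine ⟨h u + a', (hint u).add ha', ?_⟩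
    rw [← Finset.sum_sdiff hOS, hs', hsumO]; ring

/-- Schur: for an irreducible representation and a conjugation-invariant finset `K`, the sums
`∑ u ∈ K, χ (u * g)` are proportional to `χ g`. -/
theorem exists_scalar {G : Type*} [Group G] {n : ℕ} (ρ : Representation ℂ G (Fin n → ℂ))
    (hirr : ρ.IsIrreducible) (K : Finset G) (hK : ∀ u ∈ K, ∀ x : G, x * u * x⁻¹ ∈ K) :
    ∃ c : ℂ, ∀ g : G, ∑ u ∈ K, ρ.character (u * g) = c * ρ.character g := by
  classical
  haveI := hirr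
  let T0 : (Fin n → ℂ) →ₗ[ℂ] (Fin n → ℂ) := ∑ u ∈ K, ρ u
  have hcomm : ∀ h : G, T0 ∘ₗ ρ h = ρ h ∘ₗ T0 := by
    intro h
    show (∑ u ∈ K, ρ u) ∘ₗ ρ h = ρ h ∘ₗ (∑ u ∈ K, ρ u)
    rw [← Module.End.mul_eq_comp, ← Module.End.mul_eq_comp, Finset.sum_mul, Finset.mul_sum]
    simp only [← map_mul]
    refine Finset.sum_nbij' (fun u => h⁻¹ * u * h) (fun u => h * u * h⁻¹) ?_ ?_ ?_ ?_ ?_
    · intro u hu; simpa using hK u hu h⁻¹
    · intro u hu; exact hK u hu h
    · intro u _; group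
    · intro u _; group
    · intro u _; congr 1; group
  let T : IntertwiningMap ρ ρ := ⟨T0, hcomm⟩
  obtain ⟨c, hc⟩ :=
    (IsIrreducible.algebraMap_intertwiningMap_bijective_of_isAlgClosed (ρ := ρ)).2 T
  have hT : T0 = c • LinearMap.id := by
    have := congrArg IntertwiningMap.toLinearMap hc
    exact this.symm
  refine ⟨c, fun g => ?_⟩
  unfold Representation.character
  have h1 : ∑ u ∈ K, LinearMap.trace ℂ (Fin n → ℂ) (ρ (u * g))
      = LinearMap.trace ℂ (Fin n → ℂ) (T0 ∘ₗ ρ g) := by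
    show _ = LinearMap.trace ℂ (Fin n → ℂ) ((∑ u ∈ K, ρ u) ∘ₗ ρ g)
    rw [← Module.End.mul_eq_comp, Finset.sum_mul, map_sum]
    simp only [← map_mul]
  rw [h1, hT, LinearMap.smul_comp, map_smul, LinearMap.id_comp, smul_eq_mul]

/-- A `p`-element normalising a Sylow `p`-subgroup lies in it. -/
theorem mem_sylow_of_normalizes {G : Type*} [Group G] {p : ℕ} [Fact p.Prime] (P : Sylow p G)
    {u : G} (hu : u ∈ Subgroup.normalizer ((P : Subgroup G) : Set G)) {k : ℕ}
    (hk : u ^ p ^ k = 1) : u ∈ (P : Subgroup G) := by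
  have h1 : IsPGroup p (Subgroup.zpowers u) := by
    have hdvd : orderOf u ∣ p ^ k := orderOf_dvd_of_pow_eq_one hk
    obtain ⟨j, -, hj⟩ := (Nat.dvd_prime_pow (Fact.out)).mp hdvd
    exact IsPGroup.of_card (n := j) (by rw [Nat.card_zpowers, hj])
  have h2 : IsPGroup p (Subgroup.zpowers u ⊔ P : Subgroup G) :=
    IsPGroup.to_sup_of_normal_right' h1 P.2 (by rw [Subgroup.zpowers_le]; exact hu)
  have h3 := P.is_maximal' h2 le_sup_right
  have h4 : u ∈ Subgroup.zpowers u ⊔ (P : Subgroup G) :=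
    (le_sup_left : Subgroup.zpowers u ≤ _) (Subgroup.mem_zpowers u)
  rw [h3] at h4; exact h4

/-- In a group of odd order an element is not conjugate to its inverse unless trivial. -/
theorem not_conj_inv_of_odd {G : Type*} [Group G] (L : Subgroup G) [Finite L]
    (hodd : Odd (Nat.card L)) {x z : G} (hx : x ∈ L) (hz : z ∈ L) (hz1 : z ≠ 1) :
    x * z * x⁻¹ ≠ z⁻¹ := by
  intro hxz
  have h1 : x * z = z⁻¹ * x := by rw [← hxz]; group
  have h2 : x * z⁻¹ = z * x := by
    have h3 : x * z⁻¹ * x⁻¹ = z := by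
      have h4 : x * z⁻¹ * x⁻¹ = (x * z * x⁻¹)⁻¹ := by group
      rw [h4, hxz, inv_inv]
    calc x * z⁻¹ = (x * z⁻¹ * x⁻¹) * x := by group
      _ = z * x := by rw [h3]
  have hx2 : Commute (x ^ 2) z := by
    show x ^ 2 * z = z * x ^ 2
    calc x ^ 2 * z = x * (x * z) := by rw [pow_two, mul_assoc]
      _ = x * (z⁻¹ * x) := by rw [h1]
      _ = (x * z⁻¹) * x := by rw [mul_assoc]
      _ = z * x * x := by rw [h2]
      _ = z * x ^ 2 := by rw [pow_two, mul_assoc]
  have hoddo : ∀ y ∈ L, Odd (orderOf y) := by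
    intro y hy
    have h3 : orderOf (⟨y, hy⟩ : L) ∣ Nat.card L := orderOf_dvd_natCard _
    rw [Subgroup.orderOf_mk] at h3
    exact Odd.of_dvd_nat hodd h3
  obtain ⟨k, hk⟩ := hoddo x hx
  have hxpow : (x ^ 2) ^ (k + 1) = x := by
    rw [← pow_mul, show 2 * (k + 1) = orderOf x + 1 by omega, pow_succ, pow_orderOf_eq_one,
      one_mul]
  have hcomm : x * z = z * x := by
    have h3 := hx2.pow_left (k + 1)
    rw [hxpow] at h3
    exact h3
  have hzz : z = z⁻¹ := by
    rw [← hxz, hcomm]; group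
  have hz2 : z ^ 2 = 1 := by
    rw [pow_two]; nth_rewrite 1 [hzz]; group
  have hoddz := hoddo z hz
  have h5 : orderOf z ∣ 2 := orderOf_dvd_of_pow_eq_one hz2
  have h4 : orderOf z = 1 := by
    rcases (Nat.dvd_prime Nat.prime_two).mp h5 with h | h
    · exact h
    · rw [h] at hoddz; exact absurd hoddz (by decide)
  exact hz1 (orderOf_eq_one_iff.mp h4)

/-- Peterfalvi (6.7).  The hypothesis on the orders of centralisers is not needed. -/
theorem pf67 {G : Type*} [Group G] [Finite G] (p : ℕ) [Fact p.Prime] (P : Sylow p G)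
    (hTI : Cfsg.IsTISubset ((P : Subgroup G) : Set G))
    (hodd : Odd (Nat.card (Subgroup.normalizer ((P : Subgroup G) : Set G))))
    (Z : Subgroup G) (hZP : Z ≤ P)
    (hZn : ∀ x ∈ Subgroup.normalizer ((P : Subgroup G) : Set G), ∀ z ∈ Z, x * z * x⁻¹ ∈ Z)
    (hZc : ∀ z ∈ Z, ∀ y ∈ (P : Subgroup G), z * y = y * z)
    (ψ : G → ℂ) (hψ : Cfsg.IsIrrCharacter G ψ)
    (hconst : ∀ z ∈ Z, ∀ z' ∈ Z, z ≠ 1 → z' ≠ 1 → ψ z = ψ z') (z : G) (hz : z ∈ Z)
    (hz1 : z ≠ 1) :
    ∃ n d : ℤ, ψ z = n ∧ ψ 1 = d ∧ (Nat.card (P : Subgroup G) : ℤ) ∣ d - n := by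
  classical
  have hχ : Cfsg.IsCharacter G ψ := Cfsg.Agent.Lib.Helper80.isCharacter_of_isIrrCharacter hψ
  have hFin := Fintype.ofFinite G
  set L := Subgroup.normalizer ((P : Subgroup G) : Set G) with hL
  have hPL : (P : Subgroup G) ≤ L := Subgroup.le_normalizer
  have hzL : z ∈ L := hPL (hZP hz)
  -- the value at `z` is an integer
  obtain ⟨n, hn⟩ : ∃ n : ℤ, ψ z = n := by
    apply Cfsg.Agent.Lib.Helper25.char_int_of_pow_invariant hχ z
    intro m hm
    apply hconst _ (Z.pow_mem hz m) _ hz _ hz1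
    intro h1
    have h2 : orderOf z ∣ m := orderOf_dvd_of_pow_eq_one h1
    have h3 : orderOf z ∣ 1 := by
      have := Nat.dvd_gcd h2 (dvd_refl (orderOf z))
      rwa [hm.gcd_eq_one] at this
    exact hz1 (orderOf_eq_one_iff.mp (Nat.dvd_one.mp h3))
  obtain ⟨d, hd⟩ : ∃ d : ℕ, ψ 1 = d := by
    obtain ⟨m, ρ, rfl⟩ := hχ
    exact ⟨m, by rw [Representation.char_one]; simp⟩
  have hzinv1 : z⁻¹ ≠ 1 := by simpa using hz1
  have hninv : ψ z⁻¹ = n := by rw [← hn]; exact hconst _ (Z.inv_mem hz) _ hz hzinv1 hz1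
  have hval : ∀ w ∈ Z, w ≠ 1 → ψ w = n := fun w hw hw1 => by
    rw [← hn]; exact hconst w hw z hz hw1 hz1
  -- the class of `z`
  set K : Finset G := Finset.univ.image (fun x : G => x * z * x⁻¹) with hKdef
  have hK : ∀ u ∈ K, ∀ x : G, x * u * x⁻¹ ∈ K := by
    intro u hu x
    rw [hKdef, Finset.mem_image] at hu ⊢
    obtain ⟨y, -, rfl⟩ := hu
    exact ⟨x * y, Finset.mem_univ _, by group⟩
  -- Schur
  have hF : ∑ u ∈ K, ψ (u * z) = ∑ u ∈ K, ψ (u * z⁻¹) := by
    obtain ⟨m, ρ, hirr, hρ⟩ := hψ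
    obtain ⟨c, hc⟩ := exists_scalar ρ hirr K hK
    rw [hρ] at hc
    rw [hc z, hc z⁻¹, hn, hninv]
  -- elements of the class in `L`
  have hKL : ∀ u ∈ K, u ∈ L → u ∈ Z ∧ u ≠ 1 ∧ u ≠ z⁻¹ := by
    intro u hu huL
    rw [hKdef, Finset.mem_image] at hu
    obtain ⟨x, -, rfl⟩ := hu
    have hne : x * z * x⁻¹ ≠ 1 := by
      intro h1
      apply hz1
      have : z = x⁻¹ * (x * z * x⁻¹) * x := by group
      rw [this, h1]; group
    have huP : x * z * x⁻¹ ∈ (P : Subgroup G) := by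
      obtain ⟨k, hk⟩ := IsPGroup.iff_orderOf.mp P.2 ⟨z, hZP hz⟩
      have hk' : orderOf z = p ^ k := by rw [← hk, Subgroup.orderOf_mk]
      have h1 : (x * z * x⁻¹) ^ p ^ k = 1 := by
        rw [← MulAut.conj_apply, ← map_pow, ← hk', pow_orderOf_eq_one, map_one]
      exact mem_sylow_of_normalizes P huL h1
    have hxL : x ∈ L := by
      by_contra hx
      exact hz1 (hTI x hx z (hZP hz) huP)
    refine ⟨hZn x hxL z hz, hne, not_conj_inv_of_odd L hodd hxL hzL hz1⟩
  have hzK : z ∈ K := by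
    rw [hKdef, Finset.mem_image]; exact ⟨1, Finset.mem_univ _, by simp⟩
  -- the part outside `L`
  have hfree : ∀ u ∈ K.filter (fun u => u ∉ L), ∀ y ∈ (P : Subgroup G), y * u = u * y → y = 1 := by
    intro u hu y hy hc
    rw [Finset.mem_filter] at hu
    by_contra hy1
    apply hy1
    refine hTI u hu.2 y hy ?_
    have : u * y * u⁻¹ = y := by rw [← hc]; group
    rw [this]; exact hy
  have hinv : ∀ u ∈ K.filter (fun u => u ∉ L), ∀ y ∈ (P : Subgroup G),
      y * u * y⁻¹ ∈ K.filter (fun u => u ∉ L) := by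
    intro u hu y hy
    rw [Finset.mem_filter] at hu ⊢
    refine ⟨hK u hu.1 y, fun hmem => hu.2 ?_⟩
    have : u = y⁻¹ * (y * u * y⁻¹) * y := by group
    rw [this]
    exact L.mul_mem (L.mul_mem (L.inv_mem (hPL hy)) hmem) (hPL hy)
  have hcl : ∀ g ∈ Z, ∀ u ∈ K.filter (fun u => u ∉ L), ∀ y ∈ (P : Subgroup G),
      ψ (y * u * y⁻¹ * g) = ψ (u * g) := by
    intro g hg u _ y hy
    have h1 : g * y⁻¹ = y⁻¹ * g := hZc g hg y⁻¹ (Subgroup.inv_mem _ hy)
    have h2 : y * u * y⁻¹ * g = y * (u * g) * y⁻¹ := by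
      calc y * u * y⁻¹ * g = y * u * (y⁻¹ * g) := by group
        _ = y * u * (g * y⁻¹) := by rw [h1]
        _ = y * (u * g) * y⁻¹ := by group
    rw [h2]
    exact Cfsg.Agent.Lib.Helper80.char_conj_eq hχ (u * g) y
  obtain ⟨a₁, ha₁, hs₁⟩ := sum_free_orbits (P : Subgroup G) (fun u => ψ (u * z))
    (fun u => Cfsg.Agent.Lib.Helper80.isIntegral_char_val hχ _) _ hinv hfree (hcl z hz)
  obtain ⟨a₂, ha₂, hs₂⟩ := sum_free_orbits (P : Subgroup G) (fun u => ψ (u * z⁻¹))
    (fun u => Cfsg.Agent.Lib.Helper80.isIntegral_char_val hχ _) _ hinv hfree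
    (hcl z⁻¹ (Z.inv_mem hz))
  -- the part inside `L`
  set SL : Finset G := K.filter (fun u => u ∈ L) with hSL
  have hzSL : z ∈ SL := by rw [hSL, Finset.mem_filter]; exact ⟨hzK, hzL⟩
  have hin₁ : ∑ u ∈ SL, ψ (u * z) = (SL.card : ℂ) * n := by
    have hc : ∀ u ∈ SL, ψ (u * z) = (n : ℂ) := by
      intro u hu
      rw [hSL, Finset.mem_filter] at hu
      obtain ⟨h1, h2, h3⟩ := hKL u hu.1 hu.2
      refine hval _ (Z.mul_mem h1 hz) (fun h => h3 ?_)
      exact eq_inv_of_mul_eq_one_left h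
    rw [Finset.sum_congr rfl hc, Finset.sum_const, nsmul_eq_mul]
  have hin₂ : ∑ u ∈ SL, ψ (u * z⁻¹) = d + ((SL.card : ℂ) - 1) * n := by
    have hc : ∀ u ∈ SL.erase z, ψ (u * z⁻¹) = (n : ℂ) := by
      intro u hu
      rw [Finset.mem_erase, hSL, Finset.mem_filter] at hu
      obtain ⟨h1, h2, h3⟩ := hKL u hu.2.1 hu.2.2
      refine hval _ (Z.mul_mem h1 (Z.inv_mem hz)) (fun h => hu.1 ?_)
      exact mul_inv_eq_one.mp h
    rw [← Finset.add_sum_erase SL _ hzSL, mul_inv_cancel, hd]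
    rw [Finset.sum_congr rfl hc, Finset.sum_const, nsmul_eq_mul,
      Finset.card_erase_of_mem hzSL]
    rw [Nat.cast_sub (Finset.card_pos.mpr ⟨z, hzSL⟩)]; simp
  have hsplit : ∀ f : G → ℂ, ∑ u ∈ K, f u
      = ∑ u ∈ SL, f u + ∑ u ∈ K.filter (fun u => u ∉ L), f u := by
    intro f
    rw [hSL, Finset.sum_filter_add_sum_filter_not]
  rw [hsplit, hsplit, hin₁, hin₂, hs₁, hs₂] at hF
  -- conclusion
  have hPpos : (Nat.card (P : Subgroup G) : ℂ) ≠ 0 := by
    exact_mod_cast (Nat.card_pos (α := (P : Subgroup G))).ne'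
  have hPposQ : (Nat.card (P : Subgroup G) : ℚ) ≠ 0 := by
    exact_mod_cast (Nat.card_pos (α := (P : Subgroup G))).ne'
  have hβ : (d : ℂ) - n = (Nat.card (P : Subgroup G) : ℂ) * (a₁ - a₂) := by
    linear_combination (-1 : ℂ) * hF
  set q : ℚ := ((d : ℚ) - n) / (Nat.card (P : Subgroup G) : ℚ) with hq
  have hqa : a₁ - a₂ = (q : ℂ) := by
    rw [hq]
    push_cast
    rw [eq_div_iff hPpos, mul_comm, ← hβ]
  have hint : IsIntegral ℤ (q : ℂ) := by rw [← hqa]; exact ha₁.sub ha₂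
  have hint' : IsIntegral ℤ q := by
    have h1 : IsIntegral ℤ (algebraMap ℚ ℂ q) := by simpa using hint
    exact (isIntegral_algebraMap_iff (algebraMap ℚ ℂ).injective).mp h1
  obtain ⟨k, hk⟩ := IsIntegrallyClosed.isIntegral_iff.mp hint'
  refine ⟨n, d, hn, by simpa using hd, k, ?_⟩
  have h1 : ((d : ℚ) - n) = (Nat.card (P : Subgroup G) : ℚ) * k := by
    have h2 : (k : ℚ) = q := by simpa using hk
    rw [h2, hq]; field_simp
  exact_mod_cast h1

end Cfsg.Agent.Lib.Helper4.PF67
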