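import Mathlib
import Cfsg.Prelude.Def_OddOrderChar
import Cfsg.Agent.Lib.Helper26.Coh
import Cfsg.Agent.Lib.Helper26.VChar

/-!
# Gluing two coherent sets along a link (algebraic part of Sibley's theorem)
-/

set_option autoImplicit false

namespace Cfsg.Agent.Lib.Helper4.Sib

open Cfsg Cfsg.Agent.Lib.Helper26
open scoped ComplexConjugate

section glue

variable {L : Type*} [Group L] [Fintype L] {G : Type*} [Group G] [Fintype G]

omit [Group G] [Fintype G] in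
theorem extMap_sum (F : Finset (L → ℂ)) (T : (L → ℂ) → (G → ℂ)) {ι : Type*} (s : Finset ι)
    (f : ι → L → ℂ) : extMap F T (∑ i ∈ s, f i) = ∑ i ∈ s, extMap F T (f i) := by
  classical
  induction s using Finset.induction_on with
  | empty =>
    simp only [Finset.sum_empty]
    have := extMap_zsmul F T 0 (0 : L → ℂ)
    simpa using this
  | insert a s ha ih =>
    rw [Finset.sum_insert ha, Finset.sum_insert ha, extMap_add, ih]

omit [Group G] [Fintype G] in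
theorem extMap_sub (F : Finset (L → ℂ)) (T : (L → ℂ) → (G → ℂ)) (a b : L → ℂ) :
    extMap F T (a - b) = extMap F T a - extMap F T b := by
  have h1 := extMap_zsmul F T (-1) b
  have h2 := extMap_add F T a ((-1 : ℤ) • b)
  rw [h1] at h2
  rw [sub_eq_add_neg, sub_eq_add_neg]
  simpa using h2

/-- Gluing principle: a family of images `T` on `F₁ ∪ F₂`, orthonormal, compatible with `τ` on the
generators `a - m₁ a • χ₁` (`a ∈ F₁`), `a - m₂ a • χ` (`a ∈ F₂`) and on the link `χ - D • χ₁`,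
gives coherence of `F₁ ∪ F₂`. -/
theorem coherent_glue (τ : (L → ℂ) → (G → ℂ)) (F₁ F₂ : Finset (L → ℂ))
    (hirr : ∀ a ∈ F₁ ∪ F₂, IsIrrCharacter L a)
    (hτ : IsLinearIsometryOn (zspanOn (↑(F₁ ∪ F₂) : Set (L → ℂ)) {1}ᶜ) τ)
    (T : (L → ℂ) → (G → ℂ))
    (hT : ∀ a ∈ F₁ ∪ F₂, ∀ b ∈ F₁ ∪ F₂, classInner (T a) (T b) = classInner a b)
    (hgen : ∀ a ∈ F₁ ∪ F₂, IsGeneralizedCharacter G (T a))
    (χ₁ χ : L → ℂ) (hχ₁ : χ₁ ∈ F₁) (hχ : χ ∈ F₂) (D : ℕ) (hD : χ 1 = D * χ₁ 1)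
    (m₁ m₂ : (L → ℂ) → ℕ) (hm₁ : ∀ a ∈ F₁, a 1 = m₁ a * χ₁ 1)
    (hm₂ : ∀ a ∈ F₂, a 1 = m₂ a * χ 1)
    (h1 : ∀ a ∈ F₁, T a - (m₁ a : ℤ) • T χ₁ = τ (a - (m₁ a : ℤ) • χ₁))
    (h2 : ∀ a ∈ F₂, T a - (m₂ a : ℤ) • T χ = τ (a - (m₂ a : ℤ) • χ))
    (h3 : T χ - (D : ℤ) • T χ₁ = τ (χ - (D : ℤ) • χ₁))
    (hne : ∃ α ∈ zspanOn (↑(F₁ ∪ F₂) : Set (L → ℂ)) {1}ᶜ, α ≠ 0) :
    IsCoherent (↑(F₁ ∪ F₂) : Set (L → ℂ)) {1}ᶜ τ := by
  classical
  set F := F₁ ∪ F₂ with hF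
  have hχ₁F : χ₁ ∈ F := Finset.mem_union_left _ hχ₁
  have hχF : χ ∈ F := Finset.mem_union_right _ hχ
  have horth : ∀ a ∈ F, ∀ b ∈ F, a ≠ b → classInner a b = 0 :=
    fun a ha b hb hab => classInner_irr_ne (hirr a ha) (hirr b hb) hab
  have hnorm : ∀ a ∈ F, classInner a a ≠ 0 := by
    intro a ha
    rw [classInner_irr_self (hirr a ha)]
    exact one_ne_zero
  have hiso := extMap_isometry horth hnorm T hT hgen
  refine ⟨hne, extMap F T, hiso, ?_⟩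
  -- degrees
  obtain ⟨d₁, hd₁pos, hd₁⟩ := irr_degree (hirr χ₁ hχ₁F)
  have hd₁ne : (χ₁ 1 : ℂ) ≠ 0 := by
    rw [hd₁]; exact_mod_cast hd₁pos.ne'
  have hτ' : IsLinearIsometryOn ((zspanOnSub (↑F : Set (L → ℂ)) {1}ᶜ : Submodule ℤ (L → ℂ)) :
      Set (L → ℂ)) τ := hτ
  -- the common multiplier
  set M : (L → ℂ) → ℕ := fun a => if a ∈ F₁ then m₁ a else m₂ a * D with hM
  have hMdeg : ∀ a ∈ F, a 1 = (M a : ℂ) * χ₁ 1 := by
    intro a ha
    by_cases ha1 : a ∈ F₁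
    · simp only [hM, if_pos ha1]; exact hm₁ a ha1
    · have ha2 : a ∈ F₂ := by
        rcases Finset.mem_union.mp ha with h | h
        · exact absurd h ha1
        · exact h
      simp only [hM, if_neg ha1]
      rw [hm₂ a ha2, hD]; push_cast; ring
  have hmemF : ∀ a ∈ F, a ∈ Submodule.span ℤ (↑F : Set (L → ℂ)) :=
    fun a ha => Submodule.subset_span (Finset.mem_coe.mpr ha)
  have hgenmem : ∀ a ∈ F, a - (M a : ℤ) • χ₁ ∈ zspanOnSub (↑F : Set (L → ℂ)) {1}ᶜ := by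
    intro a ha
    show a - (M a : ℤ) • χ₁ ∈ zspanOn (↑F : Set (L → ℂ)) {1}ᶜ
    rw [mem_zspanOn_one]
    refine ⟨Submodule.sub_mem _ (hmemF a ha) (Submodule.smul_mem _ _ (hmemF χ₁ hχ₁F)), ?_⟩
    rw [Pi.sub_apply, zsmul_apply', hMdeg a ha]; push_cast; ring
  have hTmem : ∀ a ∈ F, extMap F T a = T a := fun a ha => extMap_apply_mem horth hnorm T ha
  have hlinkmem : χ - (D : ℤ) • χ₁ ∈ zspanOnSub (↑F : Set (L → ℂ)) {1}ᶜ := by
    show χ - (D : ℤ) • χ₁ ∈ zspanOn (↑F : Set (L → ℂ)) {1}ᶜ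
    rw [mem_zspanOn_one]
    refine ⟨Submodule.sub_mem _ (hmemF χ hχF) (Submodule.smul_mem _ _ (hmemF χ₁ hχ₁F)), ?_⟩
    rw [Pi.sub_apply, zsmul_apply', hD]; push_cast; ring
  have hgenval : ∀ a ∈ F, extMap F T (a - (M a : ℤ) • χ₁) = τ (a - (M a : ℤ) • χ₁) := by
    intro a ha
    rw [extMap_sub, extMap_zsmul, hTmem a ha, hTmem χ₁ hχ₁F]
    by_cases ha1 : a ∈ F₁
    · simp only [hM, if_pos ha1]
      exact h1 a ha1
    · have ha2 : a ∈ F₂ := by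
        rcases Finset.mem_union.mp ha with h | h
        · exact absurd h ha1
        · exact h
      simp only [hM, if_neg ha1]
      have hmem2 : a - (m₂ a : ℤ) • χ ∈ zspanOnSub (↑F : Set (L → ℂ)) {1}ᶜ := by
        show a - (m₂ a : ℤ) • χ ∈ zspanOn (↑F : Set (L → ℂ)) {1}ᶜ
        rw [mem_zspanOn_one]
        refine ⟨Submodule.sub_mem _ (hmemF a ha) (Submodule.smul_mem _ _ (hmemF χ hχF)), ?_⟩
        rw [Pi.sub_apply, zsmul_apply', hm₂ a ha2]; push_cast; ring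
      have e1 : a - ((m₂ a * D : ℕ) : ℤ) • χ₁
          = (a - (m₂ a : ℤ) • χ) + (m₂ a : ℤ) • (χ - (D : ℤ) • χ₁) := by
        funext x
        simp only [Pi.sub_apply, Pi.add_apply, zsmul_apply']
        push_cast; ring
      rw [e1, lin_add hτ' hmem2 (Submodule.smul_mem _ _ hlinkmem), lin_zsmul hτ' hlinkmem,
        ← h2 a ha2, ← h3]
      funext x
      simp only [Pi.sub_apply, Pi.add_apply, zsmul_apply']
      push_cast; ring
  intro α hα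
  obtain ⟨hαspan, hα1⟩ := mem_zspanOn_one.mp hα
  obtain ⟨f, rfl⟩ := mem_zspan_finset.mp hαspan
  have hsum0 : ∑ a ∈ F, (f a : ℂ) * (M a : ℂ) = 0 := by
    have h4 : (∑ a ∈ F, f a • a) 1 = (∑ a ∈ F, (f a : ℂ) * (M a : ℂ)) * χ₁ 1 := by
      rw [Finset.sum_apply, Finset.sum_mul]
      refine Finset.sum_congr rfl (fun a ha => ?_)
      rw [zsmul_apply', hMdeg a ha]; ring
    rw [h4] at hα1
    rcases mul_eq_zero.mp hα1 with h | h
    · exact h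
    · exact absurd h hd₁ne
  have hrew : ∑ a ∈ F, f a • a = ∑ a ∈ F, f a • (a - (M a : ℤ) • χ₁) := by
    have h5 : ∑ a ∈ F, f a • (a - (M a : ℤ) • χ₁)
        = ∑ a ∈ F, f a • a - (∑ a ∈ F, (f a * (M a : ℤ))) • χ₁ := by
      rw [Finset.sum_smul, ← Finset.sum_sub_distrib]
      refine Finset.sum_congr rfl (fun a _ => ?_)
      rw [smul_sub, smul_smul]
    have h6 : ∑ a ∈ F, (f a * (M a : ℤ)) = 0 := by
      have : ((∑ a ∈ F, (f a * (M a : ℤ)) : ℤ) : ℂ) = 0 := by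
        push_cast; exact hsum0
      exact_mod_cast this
    rw [h5, h6, zero_smul, sub_zero]
  rw [hrew, extMap_sum, lin_sum hτ' F _ (fun a ha => Submodule.smul_mem _ _ (hgenmem a ha))]
  refine Finset.sum_congr rfl (fun a ha => ?_)
  rw [extMap_zsmul, lin_zsmul hτ' (hgenmem a ha), hgenval a ha]

end glue

/-- The arithmetic behind the gluing step. -/
theorem arith_cases (j u : ℤ) (n₁ M₂ D : ℕ) (hn₁ : 2 ≤ n₁) (hM₂ : 2 ≤ M₂) (hD : 1 ≤ D)
    (h : (D : ℤ) ^ 2 * (j ^ 2 + ((n₁ : ℤ) - 1) * (j + 1) ^ 2) + (u ^ 2 * (M₂ : ℤ) + 2 * u + 1)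
      ≤ 1 + (D : ℤ) ^ 2) :
    (j = -1 ∨ (j = 0 ∧ n₁ = 2)) ∧ (u = 0 ∨ (u = -1 ∧ M₂ = 2)) := by
  have hn₁' : (2 : ℤ) ≤ n₁ := by exact_mod_cast hn₁
  have hM₂' : (2 : ℤ) ≤ M₂ := by exact_mod_cast hM₂
  have hD' : (1 : ℤ) ≤ D := by exact_mod_cast hD
  have hB : 0 ≤ u ^ 2 * (M₂ : ℤ) + 2 * u := by
    have h1 : 0 ≤ u ^ 2 + u := by nlinarith [sq_nonneg (2 * u + 1), sq_nonneg u]
    nlinarith [sq_nonneg u]
  set A : ℤ := j ^ 2 + ((n₁ : ℤ) - 1) * (j + 1) ^ 2 with hA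
  have hA0 : 0 ≤ A := by
    have : 0 ≤ ((n₁ : ℤ) - 1) * (j + 1) ^ 2 := mul_nonneg (by linarith) (sq_nonneg _)
    nlinarith [sq_nonneg j]
  have hD2 : (1 : ℤ) ≤ (D : ℤ) ^ 2 := by nlinarith
  have hA1 : A ≤ 1 := by
    by_contra hcon
    push Not at hcon
    have : (2 : ℤ) ≤ A := by omega
    nlinarith
  have hj : j = -1 ∨ (j = 0 ∧ n₁ = 2) := by
    have hjsq : j ^ 2 ≤ 1 := by
      have : 0 ≤ ((n₁ : ℤ) - 1) * (j + 1) ^ 2 := mul_nonneg (by linarith) (sq_nonneg _)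
      linarith
    have hj1 : -1 ≤ j ∧ j ≤ 1 := by
      constructor <;> nlinarith [sq_nonneg (j - 1), sq_nonneg (j + 1)]
    have hcases : j = -1 ∨ j = 0 ∨ j = 1 := by omega
    rcases hcases with h1 | h1 | h1
    · exact Or.inl h1
    · right
      refine ⟨h1, ?_⟩
      rw [h1] at hA
      have : (n₁ : ℤ) - 1 ≤ 1 := by rw [hA] at hA1; linarith
      omega
    · exfalso
      rw [h1] at hA
      rw [hA] at hA1
      linarith
  have hAeq : A = 1 := by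
    rcases hj with h1 | ⟨h1, h2⟩
    · rw [hA, h1]; ring
    · rw [hA, h1, h2]; norm_num
  have hB0 : u ^ 2 * (M₂ : ℤ) + 2 * u ≤ 0 := by
    rw [hAeq] at h; linarith
  have hBeq : u * (u * (M₂ : ℤ) + 2) = 0 := by nlinarith
  refine ⟨hj, ?_⟩
  rcases mul_eq_zero.mp hBeq with h1 | h1
  · exact Or.inl h1
  · right
    have h2 : u * (M₂ : ℤ) = -2 := by linarith
    have hu : u < 0 := by
      by_contra hcon
      push Not at hcon
      have : 0 ≤ u * (M₂ : ℤ) := mul_nonneg hcon (by linarith)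
      linarith
    have hu1 : u = -1 := by
      by_contra hcon
      have : u ≤ -2 := by omega
      nlinarith
    refine ⟨hu1, ?_⟩
    rw [hu1] at h2
    omega

end Cfsg.Agent.Lib.Helper4.Sib
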