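import Mathlib
import Cfsg.Prelude.Def_OddOrderChar
import Cfsg.Agent.Lib.Helper4.Sib1
import Cfsg.Agent.Lib.Helper4.Exceptional
import Cfsg.Agent.Lib.Helper25.CohSys

/-!
# The key divisibility in the gluing step of Sibley's theorem
-/

set_option autoImplicit false

namespace Cfsg.Agent.Lib.Helper4.Sib

open Cfsg Cfsg.Agent.Lib.Helper26 Cfsg.Agent.Lib.Helper25
open scoped ComplexConjugate

/-- The sum of a generalized character of `G` over a subgroup is a multiple of its order. -/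
theorem sum_mem_int {G : Type*} [Group G] [Fintype G] (N : Subgroup G) [Fintype N]
    (A : Subgroup N) [DecidablePred fun x : N => x ∈ A] {f : G → ℂ}
    (hf : IsGeneralizedCharacter G f) :
    ∃ m : ℤ, ∑ x : N, (if x ∈ A then f (x : G) else 0) = (Nat.card A : ℂ) * m := by
  haveI : Fintype (IrrCharacter A) := Fintype.ofFinite _
  let φ : A →* G := N.subtype.comp A.subtype
  have hgen : IsGeneralizedCharacter A (fun a => f (φ a)) := by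
    obtain ⟨χ, ψ, hχ, hψ, rfl⟩ := hf
    exact ⟨fun a => χ (φ a), fun a => ψ (φ a),
      Cfsg.Agent.Lib.Helper80.isCharacter_comp φ hχ,
      Cfsg.Agent.Lib.Helper80.isCharacter_comp φ hψ, rfl⟩
  obtain ⟨m, hm⟩ := classInner_gen_int hgen
    (isGen_of_isCharacter (Cfsg.Agent.Lib.Helper80.isCharacter_one (G := A)))
  refine ⟨m, ?_⟩
  unfold classInner at hm
  simp only [map_one, mul_one] at hm
  have hA : (Nat.card A : ℂ) ≠ 0 := by
    exact_mod_cast (Nat.card_pos (α := A)).ne'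
  have h1 : ∑ a : A, f (φ a) = (Nat.card A : ℂ) * m := by
    rw [← hm, ← mul_assoc, mul_inv_cancel₀ hA, one_mul]
  rw [← h1, ← Finset.sum_filter]
  exact Finset.sum_subtype (Finset.univ.filter (fun x : N => x ∈ A)) (by simp)
    (fun x : N => f (x : G))

/-- Pairing an indicator function with a function whose sum over the subgroup is known. -/
theorem sum_ite_mul_conj {N : Type*} [Fintype N] (A : Set N) [DecidablePred (· ∈ A)] (c : ℂ)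
    (f' : N → ℂ) (k : ℕ) (m : ℤ) (hm : ∑ x : N, (if x ∈ A then f' x else 0) = (k : ℂ) * m) :
    ∑ x : N, (if x ∈ A then c else 0) * conj (f' x) = c * ((k : ℂ) * m) := by
  have h1 : ∀ x : N, (if x ∈ A then c else 0) * conj (f' x)
      = c * conj (if x ∈ A then f' x else 0) := by
    intro x
    by_cases hx : x ∈ A
    · simp [hx]
    · simp [hx]
  rw [Finset.sum_congr rfl (fun x _ => h1 x), ← Finset.mul_sum, ← map_sum, hm]
  simp

section key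

variable {G : Type*} [Group G] [Fintype G] (N : Subgroup G) [Fintype N]

/-- A class function of `G` orthogonal to the images of a coherent set `F₂` consisting of all the
irreducible characters of `N` not trivial on `Z` is constant on `Z \ {1}`. -/
theorem const_on_Z (Z : Subgroup N) [Z.Normal] (F₂ : Finset (N → ℂ))
    (hirr₂ : ∀ a ∈ F₂, IsIrrCharacter N a)
    (hF₂mem : ∀ χ : N → ℂ, IsIrrCharacter N χ → (¬ ∀ x ∈ Z, χ x = χ 1) → χ ∈ F₂)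
    (τ₂ : (N → ℂ) → (G → ℂ))
    (hτ₂ : IsLinearIsometryOn (zspan (↑F₂ : Set (N → ℂ))) τ₂)
    (hag₂ : ∀ α ∈ zspanOn (↑F₂ : Set (N → ℂ)) {1}ᶜ, τ₂ α = indFun N α)
    (f : G → ℂ) (hfcl : IsClassFunction G f) (hfcross : ∀ b ∈ F₂, classInner (τ₂ b) f = 0)
    {z z' : N} (hz : z ∈ Z) (hz1 : z ≠ 1) (hz' : z' ∈ Z) (hz'1 : z' ≠ 1) :
    f (z : G) = f (z' : G) := by
  classical
  haveI : Fintype (IrrCharacter N) := Fintype.ofFinite _
  have hτ₂' : IsLinearIsometryOn ((Submodule.span ℤ (↑F₂ : Set (N → ℂ)) :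
      Submodule ℤ (N → ℂ)) : Set (N → ℂ)) τ₂ := hτ₂
  have hsp₂ : ∀ a ∈ F₂, a ∈ Submodule.span ℤ (↑F₂ : Set (N → ℂ)) :=
    fun a ha => Submodule.subset_span (Finset.mem_coe.mpr ha)
  refine const_on_K Z (fun x : N => f (x : G)) ?_ ?_ hz hz1 hz' hz'1
  · intro g h
    exact hfcl (g : G) (h : G)
  · intro χ' ξ hχ' hξ
    have hχ'F : (χ' : N → ℂ) ∈ F₂ := hF₂mem _ χ'.2 hχ'
    have hξF : (ξ : N → ℂ) ∈ F₂ := hF₂mem _ ξ.2 hξ
    have hχ'c := Cfsg.Agent.Lib.Helper80.isCharacter_of_isIrrCharacter χ'.2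
    have hξc := Cfsg.Agent.Lib.Helper80.isCharacter_of_isIrrCharacter ξ.2
    have hmem : alphaFun (χ' : N → ℂ) (ξ : N → ℂ) ∈ zspanOn (↑F₂ : Set (N → ℂ)) {1}ᶜ :=
      alphaFun_mem_zspanOn _ (Finset.mem_coe.mpr hχ'F) (Finset.mem_coe.mpr hξF) hχ'c hξc
    have h1 : ((ξ : N → ℂ) 1) • (χ' : N → ℂ) - ((χ' : N → ℂ) 1) • (ξ : N → ℂ)
        = alphaFun (χ' : N → ℂ) (ξ : N → ℂ) := rfl
    rw [h1, ← Cfsg.Agent.Lib.Helper80.frobenius_reciprocity N (alphaFun _ _) f hfcl,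
      ← hag₂ _ hmem, alphaFun_eq_zsmul hχ'c hξc,
      lin_add hτ₂' (Submodule.smul_mem _ _ (hsp₂ _ hχ'F)) (Submodule.smul_mem _ _ (hsp₂ _ hξF)),
      lin_zsmul hτ₂' (hsp₂ _ hχ'F), lin_zsmul hτ₂' (hsp₂ _ hξF), classInner_add_left,
      classInner_zsmul_left, classInner_zsmul_left, hfcross _ hχ'F, hfcross _ hξF]
    simp

open Classical in
/-- Frobenius reciprocity against a combination of indicator functions. -/
theorem inner_ind_indicator (K K₁ Z : Subgroup N) (β : N → ℂ) (c₁ c₂ c₃ c₄ : ℂ)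
    (hβ : ∀ g : N, β g = (if g ∈ K₁ then c₁ else 0) + (if g ∈ K then c₂ else 0)
      + (if g = 1 then c₃ else 0) + (if g ∈ Z then c₄ else 0))
    (f : G → ℂ) (hfcl : IsClassFunction G f) (mK₁ mK mZ D₁ : ℤ)
    (hmK₁ : ∑ x : N, (if x ∈ K₁ then f (x : G) else 0) = (Nat.card K₁ : ℂ) * mK₁)
    (hmK : ∑ x : N, (if x ∈ K then f (x : G) else 0) = (Nat.card K : ℂ) * mK)
    (hmZ : ∑ x : N, (if x ∈ Z then f (x : G) else 0) = (Nat.card Z : ℂ) * mZ)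
    (hD₁ : f 1 = D₁) :
    (Nat.card N : ℂ) * classInner (indFun N β) f
      = c₁ * ((Nat.card K₁ : ℂ) * mK₁) + c₂ * ((Nat.card K : ℂ) * mK) + c₃ * D₁
        + c₄ * ((Nat.card Z : ℂ) * mZ) := by
  classical
  rw [Cfsg.Agent.Lib.Helper80.frobenius_reciprocity N β f hfcl]
  unfold classInner
  have hN : (Nat.card N : ℂ) ≠ 0 := by exact_mod_cast (Nat.card_pos (α := N)).ne'
  rw [← mul_assoc, mul_inv_cancel₀ hN, one_mul]
  have h1 : ∀ g : N, β g * conj (f (g : G))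
      = (if g ∈ (K₁ : Set N) then c₁ else 0) * conj (f (g : G))
        + (if g ∈ (K : Set N) then c₂ else 0) * conj (f (g : G))
        + (if g ∈ ({1} : Set N) then c₃ else 0) * conj (f (g : G))
        + (if g ∈ (Z : Set N) then c₄ else 0) * conj (f (g : G)) := by
    intro g
    rw [hβ g]
    simp only [SetLike.mem_coe, Set.mem_singleton_iff]
    ring
  rw [Finset.sum_congr rfl (fun g _ => h1 g)]
  simp only [Finset.sum_add_distrib]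
  have e1 := sum_ite_mul_conj (K₁ : Set N) c₁ (fun x : N => f (x : G)) (Nat.card K₁) mK₁
    (by simpa using hmK₁)
  have e2 := sum_ite_mul_conj (K : Set N) c₂ (fun x : N => f (x : G)) (Nat.card K) mK
    (by simpa using hmK)
  have e4 := sum_ite_mul_conj (Z : Set N) c₄ (fun x : N => f (x : G)) (Nat.card Z) mZ
    (by simpa using hmZ)
  have e3 := sum_ite_mul_conj ({1} : Set N) c₃ (fun x : N => f (x : G)) 1 D₁
    (by simp [hD₁])
  rw [e1, e2, e3, e4]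
  simp

open Classical in
/-- The sum over a subgroup of a function which is constant off the identity. -/
theorem sum_const_off_one {N : Type*} [Group N] [Fintype N] (Z : Subgroup N) (f' : N → ℂ) (y : ℂ)
    (hy : ∀ z ∈ Z, z ≠ 1 → f' z = y) :
    ∑ x : N, (if x ∈ Z then f' x else 0) = f' 1 + ((Nat.card Z : ℂ) - 1) * y := by
  rw [← Finset.sum_filter]
  have h1 : (1 : N) ∈ Finset.univ.filter (fun x : N => x ∈ Z) := by simp [Z.one_mem]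
  rw [← Finset.add_sum_erase _ _ h1]
  congr 1
  have h2 : ∀ x ∈ (Finset.univ.filter (fun x : N => x ∈ Z)).erase 1, f' x = y := by
    intro x hx
    rw [Finset.mem_erase, Finset.mem_filter] at hx
    exact hy x hx.2.2 hx.1
  rw [Finset.sum_congr rfl h2, Finset.sum_const, nsmul_eq_mul, Finset.card_erase_of_mem h1]
  have h3 : (Finset.univ.filter (fun x : N => x ∈ Z)).card = Nat.card Z := by
    rw [Nat.card_eq_fintype_card, Fintype.card_subtype]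
  rw [h3, Nat.cast_sub (Nat.card_pos (α := Z))]
  simp

open Classical in
/-- The key divisibility: `D` divides the coefficient of `τ₁ χ₁` in the image of the link. -/
theorem key_dvd (K K₁ Z : Subgroup N) [Z.Normal]
    (F₁ F₂ : Finset (N → ℂ))
    (hirr : ∀ a ∈ F₁ ∪ F₂, IsIrrCharacter N a)
    (hF₂mem : ∀ χ : N → ℂ, IsIrrCharacter N χ → (¬ ∀ x ∈ Z, χ x = χ 1) → χ ∈ F₂)
    (hsum₁ : ∀ g : N, ∑ a ∈ F₁, a 1 * a g
      = (if g ∈ K₁ then (K₁.index : ℂ) else 0) - (if g ∈ K then (K.index : ℂ) else 0))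
    (hsum₂ : ∀ g : N, ∑ a ∈ F₂, a 1 * a g
      = (if g = 1 then (Nat.card N : ℂ) else 0) - (if g ∈ Z then (Z.index : ℂ) else 0))
    (hiso : IsLinearIsometryOn (zspanOn (↑(F₁ ∪ F₂) : Set (N → ℂ)) {1}ᶜ)
      (fun α : N → ℂ => indFun N α))
    (τ₁ τ₂ : (N → ℂ) → (G → ℂ))
    (hτ₁ : IsLinearIsometryOn (zspan (↑F₁ : Set (N → ℂ))) τ₁)
    (hag₁ : ∀ α ∈ zspanOn (↑F₁ : Set (N → ℂ)) {1}ᶜ, τ₁ α = indFun N α)
    (hτ₂ : IsLinearIsometryOn (zspan (↑F₂ : Set (N → ℂ))) τ₂)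
    (hag₂ : ∀ α ∈ zspanOn (↑F₂ : Set (N → ℂ)) {1}ᶜ, τ₂ α = indFun N α)
    (hcross : ∀ a ∈ F₁, ∀ b ∈ F₂, classInner (τ₁ a) (τ₂ b) = 0)
    (e D : ℕ) (he : e = K.index) (hdeg₁ : ∀ a ∈ F₁, a 1 = (e : ℂ))
    (χ₁ χ : N → ℂ) (hχ₁ : χ₁ ∈ F₁) (hχ : χ ∈ F₂) (hχdeg : χ 1 = (D : ℂ) * e)
    (m : (N → ℂ) → ℕ) (hm : ∀ a ∈ F₂, a 1 = (m a : ℂ) * χ 1)
    (h67 : ∀ ψ : G → ℂ, IsIrrCharacter G ψ →
      (∀ z ∈ Z, ∀ z' ∈ Z, z ≠ 1 → z' ≠ 1 → ψ ((z : N) : G) = ψ ((z' : N) : G)) →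
      ∀ z ∈ Z, z ≠ 1 → ∃ n d : ℤ, ψ ((z : N) : G) = n ∧ ψ 1 = d ∧ (Nat.card K : ℤ) ∣ d - n)
    (hZ1 : Z ≠ ⊥) (hcop : Nat.Coprime D (e * F₁.card)) :
    ∃ j : ℤ, classInner (indFun N (χ - (D : ℤ) • χ₁)) (τ₁ χ₁) = (D : ℂ) * j := by
  haveI : Fintype (IrrCharacter N) := Fintype.ofFinite _
  haveI : Fintype (IrrCharacter G) := Fintype.ofFinite _
  set F := F₁ ∪ F₂ with hF
  have hχ₁F : χ₁ ∈ F := Finset.mem_union_left _ hχ₁
  have hχF : χ ∈ F := Finset.mem_union_right _ hχ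
  have hirr₁ : ∀ a ∈ F₁, IsIrrCharacter N a := fun a ha => hirr a (Finset.mem_union_left _ ha)
  have hirr₂ : ∀ a ∈ F₂, IsIrrCharacter N a := fun a ha => hirr a (Finset.mem_union_right _ ha)
  have hsp₁ : ∀ a ∈ F₁, a ∈ Submodule.span ℤ (↑F₁ : Set (N → ℂ)) :=
    fun a ha => Submodule.subset_span (Finset.mem_coe.mpr ha)
  have hsp₂ : ∀ a ∈ F₂, a ∈ Submodule.span ℤ (↑F₂ : Set (N → ℂ)) :=
    fun a ha => Submodule.subset_span (Finset.mem_coe.mpr ha)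
  have hspF : ∀ a ∈ F, a ∈ Submodule.span ℤ (↑F : Set (N → ℂ)) :=
    fun a ha => Submodule.subset_span (Finset.mem_coe.mpr ha)
  have hτ₁' : IsLinearIsometryOn ((Submodule.span ℤ (↑F₁ : Set (N → ℂ)) :
      Submodule ℤ (N → ℂ)) : Set (N → ℂ)) τ₁ := hτ₁
  have hτ₂' : IsLinearIsometryOn ((Submodule.span ℤ (↑F₂ : Set (N → ℂ)) :
      Submodule ℤ (N → ℂ)) : Set (N → ℂ)) τ₂ := hτ₂
  have hiso' : IsLinearIsometryOn ((zspanOnSub (↑F : Set (N → ℂ)) {1}ᶜ :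
      Submodule ℤ (N → ℂ)) : Set (N → ℂ)) (fun α : N → ℂ => indFun N α) := hiso
  have hmono₁ : zspanOn (↑F₁ : Set (N → ℂ)) {1}ᶜ ⊆ zspanOn (↑F : Set (N → ℂ)) {1}ᶜ :=
    zspanOn_mono (by rw [hF]; exact Finset.coe_subset.mpr Finset.subset_union_left) _
  have hmono₂ : zspanOn (↑F₂ : Set (N → ℂ)) {1}ᶜ ⊆ zspanOn (↑F : Set (N → ℂ)) {1}ᶜ :=
    zspanOn_mono (by rw [hF]; exact Finset.coe_subset.mpr Finset.subset_union_right) _
  -- generators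
  have hg₁ : ∀ a ∈ F₁, a - χ₁ ∈ zspanOn (↑F₁ : Set (N → ℂ)) {1}ᶜ := by
    intro a ha
    rw [mem_zspanOn_one]
    refine ⟨Submodule.sub_mem _ (hsp₁ a ha) (hsp₁ χ₁ hχ₁), ?_⟩
    rw [Pi.sub_apply, hdeg₁ a ha, hdeg₁ χ₁ hχ₁, sub_self]
  have hg₂ : ∀ a ∈ F₂, a - (m a : ℤ) • χ ∈ zspanOn (↑F₂ : Set (N → ℂ)) {1}ᶜ := by
    intro a ha
    rw [mem_zspanOn_one]
    refine ⟨Submodule.sub_mem _ (hsp₂ a ha) (Submodule.smul_mem _ _ (hsp₂ χ hχ)), ?_⟩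
    rw [Pi.sub_apply, zsmul_apply', hm a ha]; push_cast; ring
  have hlink : χ - (D : ℤ) • χ₁ ∈ zspanOn (↑F : Set (N → ℂ)) {1}ᶜ := by
    rw [mem_zspanOn_one]
    refine ⟨Submodule.sub_mem _ (hspF χ hχF) (Submodule.smul_mem _ _ (hspF χ₁ hχ₁F)), ?_⟩
    rw [Pi.sub_apply, zsmul_apply', hχdeg, hdeg₁ χ₁ hχ₁]; push_cast; ring
  have e₁ : ∀ a ∈ F₁, indFun N (a - χ₁) = τ₁ a - τ₁ χ₁ := by
    intro a ha
    rw [← hag₁ _ (hg₁ a ha), lin_sub hτ₁' (hsp₁ a ha) (hsp₁ χ₁ hχ₁)]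
  have e₂ : ∀ a ∈ F₂, indFun N (a - (m a : ℤ) • χ) = τ₂ a - (m a : ℤ) • τ₂ χ := by
    intro a ha
    rw [← hag₂ _ (hg₂ a ha), lin_sub hτ₂' (hsp₂ a ha) (Submodule.smul_mem _ _ (hsp₂ χ hχ)),
      lin_zsmul hτ₂' (hsp₂ χ hχ)]
  set Θ : G → ℂ := indFun N (χ - (D : ℤ) • χ₁) with hΘ
  have hΘgen : IsGeneralizedCharacter G Θ := hiso.2.2.2 _ hlink
  set f : G → ℂ := τ₁ χ₁ with hf
  have hfgen : IsGeneralizedCharacter G f := hτ₁.2.2.2 _ (hsp₁ χ₁ hχ₁)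
  have hfnorm : classInner f f = 1 := by
    rw [hf, hτ₁.2.2.1 _ (hsp₁ χ₁ hχ₁) _ (hsp₁ χ₁ hχ₁), classInner_irr_self (hirr₁ χ₁ hχ₁)]
  have hfcl : IsClassFunction G f := isClassFunction_of_gen hfgen
  have hcross' : ∀ b ∈ F₂, classInner (τ₂ b) f = 0 := by
    intro b hb
    rw [← classInner_conj_symm, hcross χ₁ hχ₁ b hb, map_zero]
  -- constancy on `Z`
  have hconst : ∀ z ∈ Z, ∀ z' ∈ Z, z ≠ 1 → z' ≠ 1 → f ((z : N) : G) = f ((z' : N) : G) :=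
    fun z hz z' hz' hz1 hz'1 =>
      const_on_Z N Z F₂ hirr₂ hF₂mem τ₂ hτ₂ hag₂ f hfcl hcross' hz hz1 hz' hz'1
  obtain ⟨z₀, hz₀, hz₀1⟩ : ∃ z₀ : N, z₀ ∈ Z ∧ z₀ ≠ 1 := by
    obtain ⟨z, hz⟩ := (Subgroup.ne_bot_iff_exists_ne_one).mp hZ1
    exact ⟨z, z.2, fun h => hz (Subtype.ext h)⟩
  obtain ⟨y, D₁, k₀, hD₁, hy, hk₀⟩ : ∃ y D₁ k₀ : ℤ, f 1 = D₁ ∧
      (∀ z ∈ Z, z ≠ 1 → f ((z : N) : G) = y) ∧ D₁ - y = (Nat.card K : ℤ) * k₀ := by
    rcases irr_or_neg_of_norm_one hfgen hfnorm with hfi | hfi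
    · obtain ⟨n, d, hn, hd, k, hk⟩ := h67 f hfi hconst z₀ hz₀ hz₀1
      exact ⟨n, d, k, hd, fun z hz hz1 => by rw [hconst z hz z₀ hz₀ hz1 hz₀1, hn], hk⟩
    · have hconst' : ∀ z ∈ Z, ∀ z' ∈ Z, z ≠ 1 → z' ≠ 1 →
          (-f) ((z : N) : G) = (-f) ((z' : N) : G) := by
        intro z hz z' hz' hz1 hz'1
        simp only [Pi.neg_apply, hconst z hz z' hz' hz1 hz'1]
      obtain ⟨n, d, hn, hd, k, hk⟩ := h67 (-f) hfi hconst' z₀ hz₀ hz₀1
      refine ⟨-n, -d, -k, ?_, ?_, ?_⟩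
      · have : f 1 = -((-f) 1) := by simp
        rw [this, hd]; push_cast; ring
      · intro z hz hz1
        have : f ((z : N) : G) = -((-f) ((z₀ : N) : G)) := by
          simp only [Pi.neg_apply, neg_neg]
          exact hconst z hz z₀ hz₀ hz1 hz₀1
        rw [this, hn]; push_cast; ring
      · linear_combination (-1 : ℤ) * hk
  -- multiplicities of the trivial character
  obtain ⟨mZ, hmZ⟩ := sum_mem_int N Z hfgen
  obtain ⟨mK₁, hmK₁⟩ := sum_mem_int N K₁ hfgen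
  obtain ⟨mK, hmK⟩ := sum_mem_int N K hfgen
  obtain ⟨c₁, hc₁⟩ := classInner_gen_int hΘgen hfgen
  -- positivity
  obtain ⟨d₁, hd₁pos, hd₁⟩ := irr_degree (hirr₁ χ₁ hχ₁)
  have hepos : 0 < e := by
    have h1 : (e : ℂ) = d₁ := by rw [← hdeg₁ χ₁ hχ₁, hd₁]
    have h2 : e = d₁ := by exact_mod_cast h1
    omega
  -- numbers
  set n₁ : ℕ := F₁.card with hn₁
  set M₂ : ℕ := ∑ a ∈ F₂, (m a) ^ 2 with hM₂
  set N₁' : ℕ := n₁ * e ^ 2 with hN₁'
  set N₂' : ℕ := (D * e) ^ 2 * M₂ with hN₂'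
  set J : ℕ := N₁' * D * e * M₂ with hJ
  have hdeg₂ : ∀ a ∈ F₂, a 1 = ((m a * D * e : ℕ) : ℂ) := by
    intro a ha; rw [hm a ha, hχdeg]; push_cast; ring
  -- the test function
  set B₁ : N → ℂ := ∑ a ∈ F₁, (e : ℤ) • a with hB₁
  set B₂ : N → ℂ := ∑ a ∈ F₂, ((m a * D * e : ℕ) : ℤ) • a with hB₂
  set Bint : N → ℂ := (N₂' : ℤ) • B₁ - (N₁' : ℤ) • B₂ with hBint
  have hB₁g : ∀ g : N, B₁ g = (if g ∈ K₁ then (K₁.index : ℂ) else 0)
      - (if g ∈ K then (K.index : ℂ) else 0) := by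
    intro g
    rw [← hsum₁ g, hB₁, Finset.sum_apply]
    refine Finset.sum_congr rfl (fun a ha => ?_)
    rw [zsmul_apply', hdeg₁ a ha]; push_cast; ring
  have hB₂g : ∀ g : N, B₂ g = (if g = 1 then (Nat.card N : ℂ) else 0)
      - (if g ∈ Z then (Z.index : ℂ) else 0) := by
    intro g
    rw [← hsum₂ g, hB₂, Finset.sum_apply]
    refine Finset.sum_congr rfl (fun a ha => ?_)
    rw [zsmul_apply', hdeg₂ a ha]; push_cast; ring
  have hN₂val : (N₂' : ℂ) = (Nat.card N : ℂ) - (Z.index : ℂ) := by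
    have h := hsum₂ 1
    simp only [Z.one_mem, if_true] at h
    rw [← h, hN₂', hM₂]
    push_cast
    rw [Finset.mul_sum]
    refine Finset.sum_congr rfl (fun a ha => ?_)
    rw [hdeg₂ a ha]; push_cast; ring
  -- the (B)-side
  have hBg : ∀ g : N, Bint g = (if g ∈ K₁ then (N₂' : ℂ) * K₁.index else 0)
      + (if g ∈ K then -((N₂' : ℂ) * K.index) else 0)
      + (if g = 1 then -((N₁' : ℂ) * Nat.card N) else 0)
      + (if g ∈ Z then (N₁' : ℂ) * Z.index else 0) := by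
    intro g
    rw [hBint, Pi.sub_apply, zsmul_apply', zsmul_apply', hB₁g g, hB₂g g]
    push_cast
    split_ifs <;> ring
  have hB := inner_ind_indicator N K K₁ Z Bint _ _ _ _ hBg f hfcl mK₁ mK mZ D₁ hmK₁ hmK hmZ hD₁
  have hcK₁ : (K₁.index : ℂ) * (Nat.card K₁ : ℂ) = Nat.card N := by
    exact_mod_cast K₁.index_mul_card
  have hcK : (K.index : ℂ) * (Nat.card K : ℂ) = Nat.card N := by
    exact_mod_cast K.index_mul_card
  have hcZ : (Z.index : ℂ) * (Nat.card Z : ℂ) = Nat.card N := by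
    exact_mod_cast Z.index_mul_card
  have hNne : (Nat.card N : ℂ) ≠ 0 := by exact_mod_cast (Nat.card_pos (α := N)).ne'
  have hBval : classInner (indFun N Bint) f
      = (N₂' : ℂ) * (mK₁ - mK) - (N₁' : ℂ) * (D₁ - mZ) := by
    apply mul_left_cancel₀ hNne
    rw [hB]
    linear_combination ((N₂' : ℂ) * mK₁) * hcK₁ - ((N₂' : ℂ) * mK) * hcK
      + ((N₁' : ℂ) * mZ) * hcZ
  -- the (A)-side
  have hBdecomp : Bint = ((N₂' * e : ℕ) : ℤ) • (∑ a ∈ F₁, (a - χ₁))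
      - (N₁' : ℤ) • (∑ a ∈ F₂, ((m a * D * e : ℕ) : ℤ) • (a - (m a : ℤ) • χ))
      - (J : ℤ) • (χ - (D : ℤ) • χ₁) := by
    funext g
    have s0 : B₁ g = (e : ℂ) * ∑ a ∈ F₁, a g := by
      rw [hB₁, Finset.sum_apply, Finset.mul_sum]
      refine Finset.sum_congr rfl (fun a _ => ?_)
      rw [zsmul_apply']; push_cast; ring
    have s0' : B₂ g = ∑ a ∈ F₂, ((m a * D * e : ℕ) : ℂ) * a g := by
      rw [hB₂, Finset.sum_apply]
      refine Finset.sum_congr rfl (fun a _ => ?_)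
      rw [zsmul_apply']; push_cast; ring
    have s1 : (∑ a ∈ F₁, (a - χ₁)) g = ∑ a ∈ F₁, a g - (n₁ : ℂ) * χ₁ g := by
      rw [Finset.sum_apply]
      simp only [Pi.sub_apply, Finset.sum_sub_distrib, Finset.sum_const, nsmul_eq_mul, hn₁]
    have s2 : (∑ a ∈ F₂, ((m a * D * e : ℕ) : ℤ) • (a - (m a : ℤ) • χ)) g
        = ∑ a ∈ F₂, ((m a * D * e : ℕ) : ℂ) * a g - ((D * e * M₂ : ℕ) : ℂ) * χ g := by
      rw [Finset.sum_apply]
      have h1 : ∀ a ∈ F₂, (((m a * D * e : ℕ) : ℤ) • (a - (m a : ℤ) • χ)) g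
          = ((m a * D * e : ℕ) : ℂ) * a g - ((D * e : ℕ) : ℂ) * χ g * ((m a ^ 2 : ℕ) : ℂ) := by
        intro a _
        rw [zsmul_apply', Pi.sub_apply, zsmul_apply']; push_cast; ring
      rw [Finset.sum_congr rfl h1, Finset.sum_sub_distrib, ← Finset.mul_sum]
      congr 1
      rw [← Nat.cast_sum, ← hM₂]; push_cast; ring
    rw [hBint]
    simp only [Pi.sub_apply, zsmul_apply']
    rw [s0, s0', s1, s2, hJ, hN₂', hN₁']
    push_cast; ring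
  have hmemA : ∀ a ∈ F₁, a - χ₁ ∈ zspanOnSub (↑F : Set (N → ℂ)) {1}ᶜ :=
    fun a ha => hmono₁ (hg₁ a ha)
  have hmemB : ∀ a ∈ F₂, a - (m a : ℤ) • χ ∈ zspanOnSub (↑F : Set (N → ℂ)) {1}ᶜ :=
    fun a ha => hmono₂ (hg₂ a ha)
  have hIsub : ∀ a b : N → ℂ, a ∈ zspanOnSub (↑F : Set (N → ℂ)) {1}ᶜ →
      b ∈ zspanOnSub (↑F : Set (N → ℂ)) {1}ᶜ → indFun N (a - b) = indFun N a - indFun N b :=
    fun a b ha hb => lin_sub hiso' ha hb
  have hIsmul : ∀ (k : ℤ) (a : N → ℂ), a ∈ zspanOnSub (↑F : Set (N → ℂ)) {1}ᶜ →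
      indFun N (k • a) = k • indFun N a := fun k a ha => lin_zsmul hiso' ha k
  have hIsum : ∀ (s : Finset (N → ℂ)) (u : (N → ℂ) → N → ℂ),
      (∀ a ∈ s, u a ∈ zspanOnSub (↑F : Set (N → ℂ)) {1}ᶜ) →
      indFun N (∑ a ∈ s, u a) = ∑ a ∈ s, indFun N (u a) := fun s u hu => lin_sum hiso' s u hu
  have hIndB : indFun N Bint = ((N₂' * e : ℕ) : ℤ) • (∑ a ∈ F₁, (τ₁ a - τ₁ χ₁))
      - (N₁' : ℤ) • (∑ a ∈ F₂, ((m a * D * e : ℕ) : ℤ) • (τ₂ a - (m a : ℤ) • τ₂ χ))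
      - (J : ℤ) • Θ := by
    have m1 : ∑ a ∈ F₁, (a - χ₁) ∈ zspanOnSub (↑F : Set (N → ℂ)) {1}ᶜ :=
      Submodule.sum_mem _ hmemA
    have m2 : ∑ a ∈ F₂, ((m a * D * e : ℕ) : ℤ) • (a - (m a : ℤ) • χ)
        ∈ zspanOnSub (↑F : Set (N → ℂ)) {1}ᶜ :=
      Submodule.sum_mem _ (fun a ha => Submodule.smul_mem _ _ (hmemB a ha))
    have hs1 : ∑ a ∈ F₁, indFun N (a - χ₁) = ∑ a ∈ F₁, (τ₁ a - τ₁ χ₁) :=
      Finset.sum_congr rfl e₁
    have hs2 : ∑ a ∈ F₂, indFun N (((m a * D * e : ℕ) : ℤ) • (a - (m a : ℤ) • χ))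
        = ∑ a ∈ F₂, ((m a * D * e : ℕ) : ℤ) • (τ₂ a - (m a : ℤ) • τ₂ χ) :=
      Finset.sum_congr rfl (fun a ha => by rw [hIsmul _ _ (hmemB a ha), e₂ a ha])
    rw [hBdecomp, hIsub _ _ (Submodule.sub_mem _ (Submodule.smul_mem _ _ m1)
        (Submodule.smul_mem _ _ m2)) (Submodule.smul_mem _ _ hlink),
      hIsub _ _ (Submodule.smul_mem _ _ m1) (Submodule.smul_mem _ _ m2),
      hIsmul _ _ m1, hIsmul _ _ m2, hIsmul _ _ hlink,
      hIsum F₁ _ hmemA, hIsum F₂ _ (fun a ha => Submodule.smul_mem _ _ (hmemB a ha)),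
      hs1, hs2]
  have hon : ∀ a ∈ F₁, classInner (τ₁ a) f = if a = χ₁ then 1 else 0 := by
    intro a ha
    rw [hf, hτ₁.2.2.1 a (hsp₁ a ha) χ₁ (hsp₁ χ₁ hχ₁),
      classInner_irr (hirr₁ a ha) (hirr₁ χ₁ hχ₁)]
  have hAval : classInner (indFun N Bint) f
      = ((N₂' * e : ℕ) : ℂ) * (1 - (n₁ : ℂ)) - (J : ℂ) * c₁ := by
    have h1 : ∑ a ∈ F₁, classInner (τ₁ a - τ₁ χ₁) f = 1 - (n₁ : ℂ) := by
      have h0 : ∀ a ∈ F₁, classInner (τ₁ a - τ₁ χ₁) f = (if a = χ₁ then (1 : ℂ) else 0) - 1 := by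
        intro a ha
        rw [classInner_sub_left, hon a ha, hon χ₁ hχ₁, if_pos rfl]
      rw [Finset.sum_congr rfl h0, Finset.sum_sub_distrib,
        Finset.sum_ite_eq' F₁ χ₁ (fun _ => (1 : ℂ)), if_pos hχ₁]
      simp [hn₁]
    have h2 : ∑ a ∈ F₂,
        classInner (((m a * D * e : ℕ) : ℤ) • (τ₂ a - (m a : ℤ) • τ₂ χ)) f = 0 := by
      apply Finset.sum_eq_zero
      intro a ha
      rw [classInner_zsmul_left, classInner_sub_left, classInner_zsmul_left, hcross' a ha,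
        hcross' χ hχ]
      simp
    rw [hIndB, classInner_sub_left, classInner_sub_left, classInner_zsmul_left,
      classInner_zsmul_left, classInner_zsmul_left, classInner_sum_left, classInner_sum_left,
      h1, h2, hc₁]
    push_cast; ring
  -- integer relations
  have hE : (N₂' : ℤ) * (mK₁ - mK) - (N₁' : ℤ) * (D₁ - mZ)
      = ((N₂' * e : ℕ) : ℤ) * (1 - (n₁ : ℤ)) - (J : ℤ) * c₁ := by
    have h := hBval.symm.trans hAval
    exact_mod_cast h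
  have hr1 : (Nat.card Z : ℤ) * mZ = D₁ + ((Nat.card Z : ℤ) - 1) * y := by
    have h := sum_const_off_one Z (fun x : N => f (x : G)) (y : ℂ) hy
    rw [hmZ] at h
    simp only [OneMemClass.coe_one, hD₁] at h
    exact_mod_cast h
  have hr3 : (N₂' : ℤ) * (Nat.card Z : ℤ) = (e : ℤ) * (Nat.card K : ℤ) * ((Nat.card Z : ℤ) - 1) := by
    have h1 : (N₂' : ℤ) = (Nat.card N : ℤ) - (Z.index : ℤ) := by exact_mod_cast hN₂val
    have h2 : (Z.index : ℤ) * (Nat.card Z : ℤ) = Nat.card N := by exact_mod_cast Z.index_mul_card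
    have h3 : (e : ℤ) * (Nat.card K : ℤ) = Nat.card N := by
      rw [he]; exact_mod_cast K.index_mul_card
    rw [h1, h3]
    linear_combination (-1 : ℤ) * h2
  have hJ' : (J : ℤ) * D * e = (N₁' : ℤ) * N₂' := by
    rw [hJ, hN₂']; push_cast; ring
  have hZcard : (1 : ℤ) < Nat.card Z := by
    exact_mod_cast (Subgroup.one_lt_card_iff_ne_bot Z).mpr hZ1
  have hKpos : (0 : ℤ) < Nat.card K := by exact_mod_cast (Nat.card_pos (α := K))
  have hepos' : (0 : ℤ) < e := by exact_mod_cast hepos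
  have hT : (N₂' : ℤ) * (Nat.card Z : ℤ) * ((D : ℤ) * e * e * (mK₁ - mK) - (D : ℤ) * e * N₁' * k₀
      - (D : ℤ) * e ^ 3 * (1 - (n₁ : ℤ)) + (e : ℤ) * N₁' * c₁) = 0 := by
    push_cast at hE
    linear_combination ((D : ℤ) * e * e * (Nat.card Z : ℤ)) * hE
      - ((e : ℤ) * (Nat.card Z : ℤ) * c₁) * hJ'
      - ((D : ℤ) * e * e * N₁') * hr1 + ((D : ℤ) * e * e * N₁' * ((Nat.card Z : ℤ) - 1)) * hk₀
      - ((D : ℤ) * e * N₁' * k₀) * hr3
  have hne0 : (N₂' : ℤ) * (Nat.card Z : ℤ) ≠ 0 := by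
    rw [hr3]
    have : (0 : ℤ) < (e : ℤ) * (Nat.card K : ℤ) * ((Nat.card Z : ℤ) - 1) := by positivity
    exact this.ne'
  have hX := (mul_eq_zero.mp hT).resolve_left hne0
  have hdvd : (D : ℤ) ∣ ((e * N₁' : ℕ) : ℤ) * c₁ := by
    refine ⟨-((e : ℤ) * e * (mK₁ - mK) - (e : ℤ) * N₁' * k₀ - (e : ℤ) ^ 3 * (1 - (n₁ : ℤ))), ?_⟩
    push_cast
    linear_combination hX
  have hcop' : IsCoprime (D : ℤ) ((e * N₁' : ℕ) : ℤ) := by
    rw [Nat.isCoprime_iff_coprime]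
    have h1 : Nat.Coprime D e := Nat.Coprime.coprime_mul_right_right hcop
    have h2 : Nat.Coprime D n₁ := Nat.Coprime.coprime_mul_left_right hcop
    rw [hN₁']
    exact Nat.Coprime.mul_right h1 (Nat.Coprime.mul_right h2 (Nat.Coprime.pow_right 2 h1))
  obtain ⟨j, hj⟩ := hcop'.dvd_of_dvd_mul_left hdvd
  refine ⟨j, ?_⟩
  rw [hc₁, hj]; push_cast; ring

end key

end Cfsg.Agent.Lib.Helper4.Sib
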