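import Mathlib
import Cfsg.Prelude.Def_OddOrderChar
import Cfsg.Agent.Lib.Helper4.Sib2

/-!
# Gluing `S₁` (degree `e`) and `S₂` (characters nontrivial on a central subgroup `Z`)
-/

set_option autoImplicit false

namespace Cfsg.Agent.Lib.Helper4.Sib

open Cfsg Cfsg.Agent.Lib.Helper26 Cfsg.Agent.Lib.Helper25
open scoped ComplexConjugate

section glue

variable {G : Type*} [Group G] [Fintype G] (N : Subgroup G) [Fintype N]


open Classical in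
/-- One side of the gluing: either the given extension works, or the set is a conjugate pair and the
twisted extension works. -/
theorem side (F₀ : Finset (N → ℂ)) (τ₀ : (N → ℂ) → (G → ℂ))
    (hirr₀ : ∀ a ∈ F₀, IsIrrCharacter N a)
    (hτ₀ : IsLinearIsometryOn (zspan (↑F₀ : Set (N → ℂ))) τ₀)
    (b : N → ℂ) (hb : b ∈ F₀) (hconj : ∀ a ∈ F₀, conjFun a ∈ F₀)
    (m : (N → ℂ) → ℕ) (hmb : m b = 1) (hmbbar : m (conjFun b) = 1)
    (he : ∀ a ∈ F₀, indFun N (a - (m a : ℤ) • b) = τ₀ a - (m a : ℤ) • τ₀ b)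
    (c : (N → ℂ) → ℤ) (k : ℤ)
    (h : (∀ a ∈ F₀, c a = if a = b then k else 0) ∨
      (F₀ = {b, conjFun b} ∧ conjFun b ≠ b ∧ c b = 0 ∧ c (conjFun b) = -k)) :
    ∃ T : (N → ℂ) → (G → ℂ),
      (∀ a ∈ F₀, ∀ a' ∈ F₀, classInner (T a) (T a') = classInner a a') ∧
      (∀ a ∈ F₀, IsGeneralizedCharacter G (T a)) ∧
      (∀ a ∈ F₀, T a - (m a : ℤ) • T b = indFun N (a - (m a : ℤ) • b)) ∧
      (∑ a ∈ F₀, c a • τ₀ a = k • T b) ∧
      (∀ a ∈ F₀, ∃ a' ∈ F₀, T a = τ₀ a' ∨ T a = -τ₀ a') := by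
  have hsp : ∀ a ∈ F₀, a ∈ zspan (↑F₀ : Set (N → ℂ)) :=
    fun a ha => Submodule.subset_span (Finset.mem_coe.mpr ha)
  rcases h with h | ⟨hF, hne, hcb, hcbb⟩
  · refine ⟨τ₀, ?_, ?_, ?_, ?_, ?_⟩
    · intro a ha a' ha'
      exact hτ₀.2.2.1 a (hsp a ha) a' (hsp a' ha')
    · intro a ha; exact hτ₀.2.2.2 a (hsp a ha)
    · intro a ha; exact (he a ha).symm
    · rw [Finset.sum_eq_single b]
      · rw [h b hb, if_pos rfl]
      · intro a ha hab; rw [h a ha, if_neg hab, zero_smul]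
      · intro hb'; exact absurd hb hb'
    · intro a ha; exact ⟨a, ha, Or.inl rfl⟩
  · have hbb : conjFun b ∈ F₀ := hconj b hb
    refine ⟨fun a => -τ₀ (conjFun a), ?_, ?_, ?_, ?_, ?_⟩
    · intro a ha a' ha'
      show classInner (-τ₀ (conjFun a)) (-τ₀ (conjFun a')) = _
      rw [Cfsg.Agent.Lib.Helper26.classInner_neg_left, Cfsg.Agent.Lib.Helper26.classInner_neg_right,
        neg_neg, hτ₀.2.2.1 _ (hsp _ (hconj a ha)) _ (hsp _ (hconj a' ha')),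
        classInner_irr (hirr₀ _ (hconj a ha)) (hirr₀ _ (hconj a' ha')),
        classInner_irr (hirr₀ a ha) (hirr₀ a' ha')]
      by_cases haa : a = a'
      · rw [if_pos haa, if_pos (by rw [haa])]
      · rw [if_neg haa, if_neg]
        intro h2
        apply haa
        rw [← conjFun_conjFun a, h2, conjFun_conjFun]
    · intro a ha
      exact isGen_neg (hτ₀.2.2.2 _ (hsp _ (hconj a ha)))
    · intro a ha
      show -τ₀ (conjFun a) - (m a : ℤ) • -τ₀ (conjFun b) = _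
      rw [hF] at ha
      rcases Finset.mem_insert.mp ha with rfl | ha
      · rw [he a hb, hmb]; simp
      · rw [Finset.mem_singleton.mp ha, he _ hbb, hmbbar, conjFun_conjFun]
        simp only [Nat.cast_one, one_smul]
        abel
    · show _ = k • -τ₀ (conjFun b)
      rw [hF, Finset.sum_pair (Ne.symm hne), hcb, hcbb, zero_smul, zero_add, neg_smul, smul_neg]
    · intro a ha
      exact ⟨conjFun a, hconj a ha, Or.inr rfl⟩

open Classical in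
/-- The gluing theorem. -/
theorem glue_main (K K₁ Z : Subgroup N) [Z.Normal]
    (F₁ F₂ : Finset (N → ℂ)) (hdisj : Disjoint F₁ F₂)
    (hirr : ∀ a ∈ F₁ ∪ F₂, IsIrrCharacter N a)
    (hF₂mem : ∀ χ : N → ℂ, IsIrrCharacter N χ → (¬ ∀ x ∈ Z, χ x = χ 1) → χ ∈ F₂)
    (hsum₁ : ∀ g : N, ∑ a ∈ F₁, a 1 * a g
      = (if g ∈ K₁ then (K₁.index : ℂ) else 0) - (if g ∈ K then (K.index : ℂ) else 0))
    (hsum₂ : ∀ g : N, ∑ a ∈ F₂, a 1 * a g
      = (if g = 1 then (Nat.card N : ℂ) else 0) - (if g ∈ Z then (Z.index : ℂ) else 0))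
    (hiso : IsLinearIsometryOn (zspanOn (↑(F₁ ∪ F₂) : Set (N → ℂ)) {1}ᶜ)
      (fun α : N → ℂ => indFun N α))
    (τ₁ τ₂ : (N → ℂ) → (G → ℂ))
    (hτ₁ : IsLinearIsometryOn (zspan (↑F₁ : Set (N → ℂ))) τ₁)
    (hag₁ : ∀ α ∈ zspanOn (↑F₁ : Set (N → ℂ)) {1}ᶜ, τ₁ α = indFun N α)
    (hτ₂ : IsLinearIsometryOn (zspan (↑F₂ : Set (N → ℂ))) τ₂)
    (hag₂ : ∀ α ∈ zspanOn (↑F₂ : Set (N → ℂ)) {1}ᶜ, τ₂ α = indFun N α)
    (hcross : ∀ a ∈ F₁, ∀ b ∈ F₂, classInner (τ₁ a) (τ₂ b) = 0)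
    (e D : ℕ) (he : e = K.index) (hdeg₁ : ∀ a ∈ F₁, a 1 = (e : ℂ))
    (χ₁ χ : N → ℂ) (hχ₁ : χ₁ ∈ F₁) (hχ : χ ∈ F₂) (hχdeg : χ 1 = (D : ℂ) * e)
    (m : (N → ℂ) → ℕ) (hm : ∀ a ∈ F₂, a 1 = (m a : ℂ) * χ 1)
    (h67 : ∀ ψ : G → ℂ, IsIrrCharacter G ψ →
      (∀ z ∈ Z, ∀ z' ∈ Z, z ≠ 1 → z' ≠ 1 → ψ ((z : N) : G) = ψ ((z' : N) : G)) →
      ∀ z ∈ Z, z ≠ 1 → ∃ n d : ℤ, ψ ((z : N) : G) = n ∧ ψ 1 = d ∧ (Nat.card K : ℤ) ∣ d - n)
    (hZ1 : Z ≠ ⊥) (hcop : Nat.Coprime D (e * F₁.card))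
    (hconj₁ : ∀ a ∈ F₁, conjFun a ∈ F₁) (hconj₂ : ∀ a ∈ F₂, conjFun a ∈ F₂)
    (hcne : ∀ a ∈ F₁ ∪ F₂, conjFun a ≠ a) :
    IsCoherent (↑(F₁ ∪ F₂) : Set (N → ℂ)) {1}ᶜ (fun α : N → ℂ => indFun N α) := by
  obtain ⟨j, hj⟩ := key_dvd N K K₁ Z F₁ F₂ hirr hF₂mem hsum₁ hsum₂ hiso τ₁ τ₂ hτ₁ hag₁ hτ₂ hag₂
    hcross e D he hdeg₁ χ₁ χ hχ₁ hχ hχdeg m hm h67 hZ1 hcop
  haveI : Fintype (IrrCharacter N) := Fintype.ofFinite _
  haveI : Fintype (IrrCharacter G) := Fintype.ofFinite _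
  set F := F₁ ∪ F₂ with hF
  have hχ₁F : χ₁ ∈ F := Finset.mem_union_left _ hχ₁
  have hχF : χ ∈ F := Finset.mem_union_right _ hχ
  have hirr₁ : ∀ a ∈ F₁, IsIrrCharacter N a := fun a ha => hirr a (Finset.mem_union_left _ ha)
  have hirr₂ : ∀ a ∈ F₂, IsIrrCharacter N a := fun a ha => hirr a (Finset.mem_union_right _ ha)
  have hsp₁ : ∀ a ∈ F₁, a ∈ Submodule.span ℤ (↑F₁ : Set (N → ℂ)) :=
    fun a ha => Submodule.subset_span (Finset.mem_coe.mpr ha)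
  have hsp₂ : ∀ a ∈ F₂, a ∈ Submodule.span ℤ (↑F₂ : Set (N → ℂ)) :=
    fun a ha => Submodule.subset_span (Finset.mem_coe.mpr ha)
  have hspF : ∀ a ∈ F, a ∈ Submodule.span ℤ (↑F : Set (N → ℂ)) :=
    fun a ha => Submodule.subset_span (Finset.mem_coe.mpr ha)
  have hτ₁' : IsLinearIsometryOn ((Submodule.span ℤ (↑F₁ : Set (N → ℂ)) :
      Submodule ℤ (N → ℂ)) : Set (N → ℂ)) τ₁ := hτ₁
  have hτ₂' : IsLinearIsometryOn ((Submodule.span ℤ (↑F₂ : Set (N → ℂ)) :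
      Submodule ℤ (N → ℂ)) : Set (N → ℂ)) τ₂ := hτ₂
  have hmono₁ : zspanOn (↑F₁ : Set (N → ℂ)) {1}ᶜ ⊆ zspanOn (↑F : Set (N → ℂ)) {1}ᶜ :=
    zspanOn_mono (by rw [hF]; exact Finset.coe_subset.mpr Finset.subset_union_left) _
  have hmono₂ : zspanOn (↑F₂ : Set (N → ℂ)) {1}ᶜ ⊆ zspanOn (↑F : Set (N → ℂ)) {1}ᶜ :=
    zspanOn_mono (by rw [hF]; exact Finset.coe_subset.mpr Finset.subset_union_right) _
  have hne₁₂ : ∀ a ∈ F₁, ∀ b ∈ F₂, a ≠ b := by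
    intro a ha b hb hab
    rw [hab] at ha
    exact (Finset.disjoint_left.mp hdisj ha) hb
  -- generators
  have hg₁ : ∀ a ∈ F₁, a - χ₁ ∈ zspanOn (↑F₁ : Set (N → ℂ)) {1}ᶜ := by
    intro a ha
    rw [mem_zspanOn_one]
    refine ⟨Submodule.sub_mem _ (hsp₁ a ha) (hsp₁ χ₁ hχ₁), ?_⟩
    rw [Pi.sub_apply, hdeg₁ a ha, hdeg₁ χ₁ hχ₁, sub_self]
  have hg₂ : ∀ a ∈ F₂, a - (m a : ℤ) • χ ∈ zspanOn (↑F₂ : Set (N → ℂ)) {1}ᶜ := by
    intro a ha
    rw [mem_zspanOn_one]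
    refine ⟨Submodule.sub_mem _ (hsp₂ a ha) (Submodule.smul_mem _ _ (hsp₂ χ hχ)), ?_⟩
    rw [Pi.sub_apply, zsmul_apply', hm a ha]; push_cast; ring
  have hlink : χ - (D : ℤ) • χ₁ ∈ zspanOn (↑F : Set (N → ℂ)) {1}ᶜ := by
    rw [mem_zspanOn_one]
    refine ⟨Submodule.sub_mem _ (hspF χ hχF) (Submodule.smul_mem _ _ (hspF χ₁ hχ₁F)), ?_⟩
    rw [Pi.sub_apply, zsmul_apply', hχdeg, hdeg₁ χ₁ hχ₁]; push_cast; ring
  have e₁ : ∀ a ∈ F₁, indFun N (a - χ₁) = τ₁ a - τ₁ χ₁ := by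
    intro a ha
    rw [← hag₁ _ (hg₁ a ha), lin_sub hτ₁' (hsp₁ a ha) (hsp₁ χ₁ hχ₁)]
  have e₂ : ∀ a ∈ F₂, indFun N (a - (m a : ℤ) • χ) = τ₂ a - (m a : ℤ) • τ₂ χ := by
    intro a ha
    rw [← hag₂ _ (hg₂ a ha), lin_sub hτ₂' (hsp₂ a ha) (Submodule.smul_mem _ _ (hsp₂ χ hχ)),
      lin_zsmul hτ₂' (hsp₂ χ hχ)]
  set Θ : G → ℂ := indFun N (χ - (D : ℤ) • χ₁) with hΘ
  have hΘgen : IsGeneralizedCharacter G Θ := hiso.2.2.2 _ hlink
  -- degrees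
  obtain ⟨d₁, hd₁pos, hd₁⟩ := irr_degree (hirr₁ χ₁ hχ₁)
  have hepos : 0 < e := by
    have h1 : (e : ℂ) = d₁ := by rw [← hdeg₁ χ₁ hχ₁, hd₁]
    have h2 : e = d₁ := by exact_mod_cast h1
    omega
  obtain ⟨d₂, hd₂pos, hd₂⟩ := irr_degree (hirr₂ χ hχ)
  have hχ1ne : χ 1 ≠ 0 := by rw [hd₂]; exact_mod_cast hd₂pos.ne'
  have hDpos : 0 < D := by
    rcases Nat.eq_zero_or_pos D with h | h
    · exfalso; apply hχ1ne; rw [hχdeg, h]; simp
    · exact h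
  have hmχ : m χ = 1 := by
    have h := hm χ hχ
    have h2 : ((m χ : ℂ) - 1) * χ 1 = 0 := by linear_combination -h
    rcases mul_eq_zero.mp h2 with h3 | h3
    · have : (m χ : ℂ) = 1 := by linear_combination h3
      exact_mod_cast this
    · exact absurd h3 hχ1ne
  have hmpos : ∀ a ∈ F₂, 1 ≤ m a := by
    intro a ha
    rcases Nat.eq_zero_or_pos (m a) with h | h
    · exfalso
      obtain ⟨d, hdpos, hd⟩ := irr_degree (hirr₂ a ha)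
      have h1 := hm a ha
      rw [h, hd] at h1
      simp at h1
      omega
    · exact h
  have hχbar : conjFun χ ∈ F₂ := hconj₂ χ hχ
  have hχ₁bar : conjFun χ₁ ∈ F₁ := hconj₁ χ₁ hχ₁
  have hχbarne : conjFun χ ≠ χ := hcne χ hχF
  have hχ₁barne : conjFun χ₁ ≠ χ₁ := hcne χ₁ hχ₁F
  have hmχbar : m (conjFun χ) = 1 := by
    have h := hm _ hχbar
    have h0 : (conjFun χ) 1 = χ 1 := by
      simp only [conjFun, hχdeg, map_mul, Complex.conj_natCast]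
    rw [h0] at h
    have h2 : ((m (conjFun χ) : ℂ) - 1) * χ 1 = 0 := by linear_combination -h
    rcases mul_eq_zero.mp h2 with h3 | h3
    · have : (m (conjFun χ) : ℂ) = 1 := by linear_combination h3
      exact_mod_cast this
    · exact absurd h3 hχ1ne
  set n₁ : ℕ := F₁.card with hn₁
  set M₂ : ℕ := ∑ a ∈ F₂, (m a) ^ 2 with hM₂
  have hn₁2 : 2 ≤ n₁ := by
    have h1 : ({χ₁, conjFun χ₁} : Finset (N → ℂ)) ⊆ F₁ := by
      intro a ha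
      rcases Finset.mem_insert.mp ha with rfl | ha
      · exact hχ₁
      · rw [Finset.mem_singleton.mp ha]; exact hχ₁bar
    have h2 := Finset.card_le_card h1
    rw [Finset.card_pair (Ne.symm hχ₁barne)] at h2
    exact h2
  have hpair₂ : ({χ, conjFun χ} : Finset (N → ℂ)) ⊆ F₂ := by
    intro a ha
    rcases Finset.mem_insert.mp ha with rfl | ha
    · exact hχ
    · rw [Finset.mem_singleton.mp ha]; exact hχbar
  have hM₂2 : 2 ≤ M₂ := by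
    have h2 : ∑ a ∈ ({χ, conjFun χ} : Finset (N → ℂ)), (m a) ^ 2 ≤ M₂ :=
      Finset.sum_le_sum_of_subset hpair₂
    rw [Finset.sum_pair (Ne.symm hχbarne), hmχ, hmχbar] at h2
    simpa using h2
  -- coefficients
  have hinnerF : ∀ a ∈ F, ∀ b ∈ F, classInner a b = if a = b then 1 else 0 :=
    fun a ha b hb => classInner_irr (hirr a ha) (hirr b hb)
  have hcoef₁ : ∀ a ∈ F₁, classInner Θ (τ₁ a) = ((D * j + (if a = χ₁ then 0 else (D : ℤ)) : ℤ) : ℂ) := by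
    intro a ha
    have h1 : classInner Θ (τ₁ a) - classInner Θ (τ₁ χ₁) = classInner Θ (τ₁ a - τ₁ χ₁) := by
      rw [classInner_sub_right]
    have h2 : classInner Θ (τ₁ a - τ₁ χ₁) = classInner (χ - (D : ℤ) • χ₁) (a - χ₁) := by
      rw [← e₁ a ha]
      exact hiso.2.2.1 _ hlink _ (hmono₁ (hg₁ a ha))
    have haF : a ∈ F := Finset.mem_union_left _ ha
    have h3 : classInner (χ - (D : ℤ) • χ₁) (a - χ₁) = if a = χ₁ then 0 else (D : ℂ) := by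
      rw [classInner_sub_left, classInner_sub_right, classInner_sub_right, classInner_zsmul_left,
        classInner_zsmul_left, hinnerF χ hχF a haF, hinnerF χ hχF χ₁ hχ₁F,
        hinnerF χ₁ hχ₁F a haF, hinnerF χ₁ hχ₁F χ₁ hχ₁F,
        if_neg (fun h => hne₁₂ a ha χ hχ h.symm), if_neg (fun h => hne₁₂ χ₁ hχ₁ χ hχ h.symm),
        if_pos rfl]
      by_cases hac : a = χ₁
      · rw [if_pos hac, if_pos hac.symm]; push_cast; ring
      · rw [if_neg hac, if_neg (fun h => hac h.symm)]; push_cast; ring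
    have h4 : classInner Θ (τ₁ a) = classInner Θ (τ₁ χ₁) + (if a = χ₁ then 0 else (D : ℂ)) := by
      rw [← h3, ← h2, ← h1]; ring
    rw [h4, hj]
    by_cases hac : a = χ₁
    · simp [hac]
    · simp [hac]
  obtain ⟨bχ, hbχ⟩ := classInner_gen_int hΘgen (hτ₂.2.2.2 _ (hsp₂ χ hχ))
  set u : ℤ := bχ - 1 with hu
  have hcoef₂ : ∀ a ∈ F₂, classInner Θ (τ₂ a)
      = (((m a : ℤ) * u + (if a = χ then 1 else 0) : ℤ) : ℂ) := by
    intro a ha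
    have h1 : classInner Θ (τ₂ a) - (m a : ℂ) * classInner Θ (τ₂ χ)
        = classInner Θ (τ₂ a - (m a : ℤ) • τ₂ χ) := by
      rw [classInner_sub_right, classInner_zsmul_right]; push_cast; ring
    have h2 : classInner Θ (τ₂ a - (m a : ℤ) • τ₂ χ)
        = classInner (χ - (D : ℤ) • χ₁) (a - (m a : ℤ) • χ) := by
      rw [← e₂ a ha]
      exact hiso.2.2.1 _ hlink _ (hmono₂ (hg₂ a ha))
    have haF : a ∈ F := Finset.mem_union_right _ ha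
    have h3 : classInner (χ - (D : ℤ) • χ₁) (a - (m a : ℤ) • χ)
        = (if a = χ then 1 else 0) - (m a : ℂ) := by
      rw [classInner_sub_left, classInner_sub_right, classInner_sub_right, classInner_zsmul_left,
        classInner_zsmul_left, classInner_zsmul_right, classInner_zsmul_right,
        hinnerF χ hχF a haF, hinnerF χ hχF χ hχF, hinnerF χ₁ hχ₁F a haF, hinnerF χ₁ hχ₁F χ hχF,
        if_neg (hne₁₂ χ₁ hχ₁ a ha), if_neg (hne₁₂ χ₁ hχ₁ χ hχ), if_pos rfl]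
      by_cases hac : a = χ
      · rw [if_pos hac, if_pos hac.symm]; push_cast; ring
      · rw [if_neg hac, if_neg (fun h => hac h.symm)]; push_cast; ring
    have h4 : classInner Θ (τ₂ a) = (m a : ℂ) * classInner Θ (τ₂ χ)
        + ((if a = χ then 1 else 0) - (m a : ℂ)) := by
      rw [← h3, ← h2, ← h1]; ring
    rw [h4, hbχ, hu]
    by_cases hac : a = χ
    · simp [hac]; ring
    · simp [hac]; ring
  -- the orthonormal family
  have hnot₁ : ∀ a ∈ F₂, a ∉ F₁ := fun a ha h => hne₁₂ a h a ha rfl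
  set T₀ : (N → ℂ) → (G → ℂ) := fun a => if a ∈ F₁ then τ₁ a else τ₂ a with hT₀
  have hT₀1 : ∀ a ∈ F₁, T₀ a = τ₁ a := fun a ha => if_pos ha
  have hT₀2 : ∀ a ∈ F₂, T₀ a = τ₂ a := fun a ha => if_neg (hnot₁ a ha)
  have hinner₁ : ∀ a ∈ F₁, ∀ b ∈ F₁, classInner (τ₁ a) (τ₁ b) = if a = b then 1 else 0 := by
    intro a ha b hb
    rw [hτ₁.2.2.1 a (hsp₁ a ha) b (hsp₁ b hb)]
    exact classInner_irr (hirr₁ a ha) (hirr₁ b hb)
  have hinner₂ : ∀ a ∈ F₂, ∀ b ∈ F₂, classInner (τ₂ a) (τ₂ b) = if a = b then 1 else 0 := by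
    intro a ha b hb
    rw [hτ₂.2.2.1 a (hsp₂ a ha) b (hsp₂ b hb)]
    exact classInner_irr (hirr₂ a ha) (hirr₂ b hb)
  have horth : ∀ a ∈ F, ∀ b ∈ F, a ≠ b → classInner (T₀ a) (T₀ b) = 0 := by
    intro a ha b hb hab
    rcases Finset.mem_union.mp ha with ha | ha <;> rcases Finset.mem_union.mp hb with hb | hb
    · rw [hT₀1 a ha, hT₀1 b hb, hinner₁ a ha b hb, if_neg hab]
    · rw [hT₀1 a ha, hT₀2 b hb]; exact hcross a ha b hb
    · rw [hT₀2 a ha, hT₀1 b hb, ← classInner_conj_symm, hcross b hb a ha, map_zero]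
    · rw [hT₀2 a ha, hT₀2 b hb, hinner₂ a ha b hb, if_neg hab]
  have hnorm : ∀ a ∈ F, classInner (T₀ a) (T₀ a) = (((fun _ : N → ℂ => (1 : ℝ)) a : ℝ) : ℂ) := by
    intro a ha
    rcases Finset.mem_union.mp ha with ha | ha
    · rw [hT₀1 a ha, hinner₁ a ha a ha, if_pos rfl]; simp
    · rw [hT₀2 a ha, hinner₂ a ha a ha, if_pos rfl]; simp
  have hbes := bessel_identity F T₀ (fun _ => (1 : ℝ)) (fun _ _ => one_ne_zero) horth hnorm Θ
  beta_reduce at hbes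
  have hS₁ : ∑ a ∈ F₁, ‖classInner Θ (T₀ a)‖ ^ 2 / (1 : ℝ)
      = (((D : ℤ) ^ 2 * (j ^ 2 + ((n₁ : ℤ) - 1) * (j + 1) ^ 2) : ℤ) : ℝ) := by
    have h1 : ∀ a ∈ F₁, ‖classInner Θ (T₀ a)‖ ^ 2 / (1 : ℝ)
        = (((D * j + (if a = χ₁ then 0 else (D : ℤ))) ^ 2 : ℤ) : ℝ) := by
      intro a ha
      rw [hT₀1 a ha, hcoef₁ a ha, Complex.norm_intCast, div_one, sq_abs]; push_cast; ring
    rw [Finset.sum_congr rfl h1, ← Int.cast_sum]
    congr 1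
    rw [← Finset.add_sum_erase F₁ _ hχ₁, if_pos rfl]
    have h2 : ∀ a ∈ F₁.erase χ₁, (D * j + (if a = χ₁ then 0 else (D : ℤ))) ^ 2
        = ((D : ℤ) * j + D) ^ 2 := by
      intro a ha
      rw [if_neg (Finset.ne_of_mem_erase ha)]
    rw [Finset.sum_congr rfl h2, Finset.sum_const, Finset.card_erase_of_mem hχ₁, nsmul_eq_mul]
    have h3 : ((F₁.card - 1 : ℕ) : ℤ) = (n₁ : ℤ) - 1 := by
      rw [Nat.cast_sub (by omega)]; simp [hn₁]
    rw [h3]; ring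
  have hS₂ : ∑ a ∈ F₂, ‖classInner Θ (T₀ a)‖ ^ 2 / (1 : ℝ)
      = ((u ^ 2 * (M₂ : ℤ) + 2 * u + 1 : ℤ) : ℝ) := by
    have h1 : ∀ a ∈ F₂, ‖classInner Θ (T₀ a)‖ ^ 2 / (1 : ℝ)
        = ((((m a : ℤ) * u + (if a = χ then 1 else 0)) ^ 2 : ℤ) : ℝ) := by
      intro a ha
      rw [hT₀2 a ha, hcoef₂ a ha, Complex.norm_intCast, div_one, sq_abs]; push_cast; ring
    rw [Finset.sum_congr rfl h1, ← Int.cast_sum]
    congr 1
    have hM : (M₂ : ℤ) = 1 + ∑ a ∈ F₂.erase χ, ((m a : ℤ)) ^ 2 := by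
      rw [hM₂]; push_cast; rw [← Finset.add_sum_erase F₂ _ hχ, hmχ]; simp
    rw [← Finset.add_sum_erase F₂ _ hχ, if_pos rfl, hmχ]
    have h2 : ∀ a ∈ F₂.erase χ, ((m a : ℤ) * u + (if a = χ then 1 else 0)) ^ 2
        = u ^ 2 * ((m a : ℤ)) ^ 2 := by
      intro a ha; rw [if_neg (Finset.ne_of_mem_erase ha)]; ring
    rw [Finset.sum_congr rfl h2, ← Finset.mul_sum, hM]; push_cast; ring
  have hΘΘ : classInner Θ Θ = ((1 + (D : ℤ) ^ 2 : ℤ) : ℂ) := by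
    have h := hiso.2.2.1 _ hlink _ hlink
    rw [show classInner Θ Θ = classInner (χ - (D : ℤ) • χ₁) (χ - (D : ℤ) • χ₁) from h]
    rw [classInner_sub_left, classInner_sub_right, classInner_sub_right, classInner_zsmul_left,
      classInner_zsmul_left, classInner_zsmul_right, classInner_zsmul_right,
      hinnerF χ hχF χ hχF, hinnerF χ hχF χ₁ hχ₁F, hinnerF χ₁ hχ₁F χ hχF, hinnerF χ₁ hχ₁F χ₁ hχ₁F,
      if_pos rfl, if_pos rfl, if_neg (fun h => hne₁₂ χ₁ hχ₁ χ hχ h.symm),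
      if_neg (hne₁₂ χ₁ hχ₁ χ hχ)]
    push_cast; ring
  have hsumF : ∑ a ∈ F, ‖classInner Θ (T₀ a)‖ ^ 2 / (1 : ℝ)
      = ((((D : ℤ) ^ 2 * (j ^ 2 + ((n₁ : ℤ) - 1) * (j + 1) ^ 2)
        + (u ^ 2 * (M₂ : ℤ) + 2 * u + 1)) : ℤ) : ℝ) := by
    rw [hF, Finset.sum_union hdisj, hS₁, hS₂]; push_cast; ring
  have hle : (D : ℤ) ^ 2 * (j ^ 2 + ((n₁ : ℤ) - 1) * (j + 1) ^ 2)
      + (u ^ 2 * (M₂ : ℤ) + 2 * u + 1) ≤ 1 + (D : ℤ) ^ 2 := by
    have h2 := classInner_self_re_nonneg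
      (Θ - ∑ a ∈ F, (classInner Θ (T₀ a) / (((1 : ℝ)) : ℂ)) • T₀ a)
    rw [hbes, hΘΘ, hsumF] at h2
    simp only [Complex.sub_re, Complex.intCast_re, Complex.ofReal_re] at h2
    have h4 : ((((D : ℤ) ^ 2 * (j ^ 2 + ((n₁ : ℤ) - 1) * (j + 1) ^ 2)
        + (u ^ 2 * (M₂ : ℤ) + 2 * u + 1)) : ℤ) : ℝ) ≤ ((1 + (D : ℤ) ^ 2 : ℤ) : ℝ) := by linarith
    exact_mod_cast h4
  obtain ⟨hjc, huc⟩ := arith_cases j u n₁ M₂ D hn₁2 hM₂2 hDpos hle
  have heq : (D : ℤ) ^ 2 * (j ^ 2 + ((n₁ : ℤ) - 1) * (j + 1) ^ 2)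
      + (u ^ 2 * (M₂ : ℤ) + 2 * u + 1) = 1 + (D : ℤ) ^ 2 := by
    have h1 : (D : ℤ) ^ 2 * (j ^ 2 + ((n₁ : ℤ) - 1) * (j + 1) ^ 2) = (D : ℤ) ^ 2 := by
      rcases hjc with h | ⟨h, h'⟩
      · rw [h]; ring
      · rw [h, h']; push_cast; ring
    have h2 : u ^ 2 * (M₂ : ℤ) + 2 * u + 1 = 1 := by
      rcases huc with h | ⟨h, h'⟩
      · rw [h]; ring
      · rw [h, h']; norm_num
    rw [h1, h2]; ring
  have hΘP : Θ = ∑ a ∈ F, (classInner Θ (T₀ a) / (((1 : ℝ)) : ℂ)) • T₀ a := by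
    have h0 : classInner (Θ - ∑ a ∈ F, (classInner Θ (T₀ a) / (((1 : ℝ)) : ℂ)) • T₀ a)
        (Θ - ∑ a ∈ F, (classInner Θ (T₀ a) / (((1 : ℝ)) : ℂ)) • T₀ a) = 0 := by
      rw [hbes, hΘΘ, hsumF, heq]; push_cast; ring
    exact sub_eq_zero.mp (classInner_self_eq_zero h0)
  have hP : ∑ a ∈ F, (classInner Θ (T₀ a) / (((1 : ℝ)) : ℂ)) • T₀ a
      = ∑ a ∈ F₁, (D * j + (if a = χ₁ then 0 else (D : ℤ))) • τ₁ a
        + ∑ a ∈ F₂, ((m a : ℤ) * u + (if a = χ then 1 else 0)) • τ₂ a := by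
    rw [hF, Finset.sum_union hdisj]
    congr 1
    · apply Finset.sum_congr rfl
      intro a ha
      rw [hT₀1 a ha, hcoef₁ a ha, Complex.ofReal_one, div_one, Int.cast_smul_eq_zsmul ℂ]
    · apply Finset.sum_congr rfl
      intro a ha
      rw [hT₀2 a ha, hcoef₂ a ha, Complex.ofReal_one, div_one, Int.cast_smul_eq_zsmul ℂ]
  -- the two sides
  have hpair₁ : ({χ₁, conjFun χ₁} : Finset (N → ℂ)) ⊆ F₁ := by
    intro a ha
    rcases Finset.mem_insert.mp ha with rfl | ha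
    · exact hχ₁
    · rw [Finset.mem_singleton.mp ha]; exact hχ₁bar
  have hside₁ := side N F₁ τ₁ hirr₁ hτ₁ χ₁ hχ₁ hconj₁ (fun _ => 1) rfl rfl
    (fun a ha => by simpa using e₁ a ha)
    (fun a => D * j + (if a = χ₁ then 0 else (D : ℤ))) (-(D : ℤ))
    (by
      rcases hjc with h | ⟨h, h'⟩
      · left
        intro a ha
        show (D : ℤ) * j + (if a = χ₁ then 0 else (D : ℤ)) = _
        rw [h]; split_ifs <;> ring
      · right
        refine ⟨?_, hχ₁barne, ?_, ?_⟩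
        · exact (Finset.eq_of_subset_of_card_le hpair₁
            (by rw [Finset.card_pair (Ne.symm hχ₁barne), ← hn₁, h'])).symm
        · show (D : ℤ) * j + (if χ₁ = χ₁ then 0 else (D : ℤ)) = _
          rw [h, if_pos rfl]; ring
        · show (D : ℤ) * j + (if conjFun χ₁ = χ₁ then 0 else (D : ℤ)) = _
          rw [h, if_neg hχ₁barne]; ring)
  have hside₂ := side N F₂ τ₂ hirr₂ hτ₂ χ hχ hconj₂ m hmχ hmχbar e₂
    (fun a => (m a : ℤ) * u + (if a = χ then 1 else 0)) 1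
    (by
      rcases huc with h | ⟨h, h'⟩
      · left
        intro a ha
        show (m a : ℤ) * u + (if a = χ then 1 else 0) = _
        rw [h]; ring
      · right
        have hcard : F₂.card ≤ M₂ := by
          rw [Finset.card_eq_sum_ones, hM₂]
          apply Finset.sum_le_sum
          intro a ha
          exact Nat.one_le_pow _ _ (hmpos a ha)
        refine ⟨?_, hχbarne, ?_, ?_⟩
        · exact (Finset.eq_of_subset_of_card_le hpair₂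
            (by rw [Finset.card_pair (Ne.symm hχbarne)]; omega)).symm
        · show (m χ : ℤ) * u + (if χ = χ then 1 else 0) = _
          rw [h, if_pos rfl, hmχ]; norm_num
        · show (m (conjFun χ) : ℤ) * u + (if conjFun χ = χ then 1 else 0) = _
          rw [h, if_neg hχbarne, hmχbar]; norm_num)
  obtain ⟨T₁, hT₁iso, hT₁gen, hT₁e, hT₁sum, hT₁pm⟩ := hside₁
  obtain ⟨T₂, hT₂iso, hT₂gen, hT₂e, hT₂sum, hT₂pm⟩ := hside₂
  have hΘfin : Θ = (-(D : ℤ)) • T₁ χ₁ + (1 : ℤ) • T₂ χ :=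
    hΘP.trans (hP.trans (by rw [hT₁sum, hT₂sum]))
  have hcrossT : ∀ a ∈ F₁, ∀ b ∈ F₂, classInner (T₁ a) (T₂ b) = 0 := by
    intro a ha b hb
    obtain ⟨a', ha', h1 | h1⟩ := hT₁pm a ha <;> obtain ⟨b', hb', h2 | h2⟩ := hT₂pm b hb <;>
      rw [h1, h2] <;>
      simp [Cfsg.Agent.Lib.Helper26.classInner_neg_left,
        Cfsg.Agent.Lib.Helper26.classInner_neg_right, hcross a' ha' b' hb']
  set T : (N → ℂ) → (G → ℂ) := fun a => if a ∈ F₁ then T₁ a else T₂ a with hT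
  have hTF1 : ∀ a ∈ F₁, T a = T₁ a := fun a ha => if_pos ha
  have hTF2 : ∀ a ∈ F₂, T a = T₂ a := fun a ha => if_neg (hnot₁ a ha)
  refine coherent_glue (fun α : N → ℂ => indFun N α) F₁ F₂ hirr hiso T ?_ ?_ χ₁ χ hχ₁ hχ D ?_
    (fun _ => 1) m ?_ hm ?_ ?_ ?_ ?_
  · intro a ha b hb
    rcases Finset.mem_union.mp ha with ha' | ha' <;> rcases Finset.mem_union.mp hb with hb' | hb'
    · rw [hTF1 a ha', hTF1 b hb']; exact hT₁iso a ha' b hb'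
    · rw [hTF1 a ha', hTF2 b hb', hinnerF a ha b hb, if_neg (hne₁₂ a ha' b hb')]
      exact hcrossT a ha' b hb'
    · rw [hTF2 a ha', hTF1 b hb', hinnerF a ha b hb, if_neg (fun h => hne₁₂ b hb' a ha' h.symm),
        ← classInner_conj_symm, hcrossT b hb' a ha', map_zero]
    · rw [hTF2 a ha', hTF2 b hb']; exact hT₂iso a ha' b hb'
  · intro a ha
    rcases Finset.mem_union.mp ha with ha' | ha'
    · rw [hTF1 a ha']; exact hT₁gen a ha'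
    · rw [hTF2 a ha']; exact hT₂gen a ha'
  · rw [hχdeg, hdeg₁ χ₁ hχ₁]
  · intro a ha; rw [hdeg₁ a ha, hdeg₁ χ₁ hχ₁]; simp
  · intro a ha
    rw [hTF1 a ha, hTF1 χ₁ hχ₁]; exact hT₁e a ha
  · intro a ha
    rw [hTF2 a ha, hTF2 χ hχ]; exact hT₂e a ha
  · rw [hTF2 χ hχ, hTF1 χ₁ hχ₁]
    show _ = Θ
    rw [hΘfin, neg_smul, one_smul]; abel
  · exact ⟨conjFun χ₁ - χ₁, hmono₁ (hg₁ _ hχ₁bar), sub_ne_zero.mpr hχ₁barne⟩

end glue

end Cfsg.Agent.Lib.Helper4.Sib
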