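import Mathlib
import Cfsg.Prelude.Def_OddOrderChar
import Cfsg.Agent.Lib.Helper4.Sib3
import Cfsg.Agent.Lib.Helper4.FrobChar
import Cfsg.Agent.Lib.Helper25.FrobSys
import Cfsg.Agent.Lib.Helper75.CharDecomp

/-!
# Dictionary between induced characters and irreducible characters of a Frobenius-type group
-/

set_option autoImplicit false

namespace Cfsg.Agent.Lib.Helper4.Sib

open Cfsg
open scoped ComplexConjugate

section irrKer

variable {N : Type*} [Group N] [Fintype N]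

open Classical in
/-- The irreducible characters of `N` with `A` in the kernel, as a finset of functions. -/
noncomputable def irrKer (A : Subgroup N) : Finset (N → ℂ) :=
  haveI : Fintype (IrrCharacter N) := Fintype.ofFinite _
  Finset.image (fun χ : IrrCharacter N => χ.1)
    (Finset.univ.filter (fun χ : IrrCharacter N => ∀ x ∈ A, χ.1 x = χ.1 1))

theorem mem_irrKer (A : Subgroup N) (a : N → ℂ) :
    a ∈ irrKer A ↔ IsIrrCharacter N a ∧ ∀ x ∈ A, a x = a 1 := by
  classical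
  letI : Fintype (IrrCharacter N) := Fintype.ofFinite _
  unfold irrKer
  constructor
  · intro h
    obtain ⟨χ, hχ, rfl⟩ := Finset.mem_image.mp h
    exact ⟨χ.2, (Finset.mem_filter.mp hχ).2⟩
  · rintro ⟨h1, h2⟩
    exact Finset.mem_image.mpr ⟨⟨a, h1⟩, Finset.mem_filter.mpr ⟨Finset.mem_univ _, h2⟩, rfl⟩

open Classical in
theorem sum_irrKer (A : Subgroup N) [A.Normal] (g : N) :
    ∑ a ∈ irrKer A, a 1 * a g = if g ∈ A then (A.index : ℂ) else 0 := by
  classical
  letI : Fintype (IrrCharacter N) := Fintype.ofFinite _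
  unfold irrKer
  rw [Finset.sum_image (fun x _ y _ h => Subtype.ext h)]
  have h_ker := Cfsg.Agent.Lib.Helper80.second_orthogonality_filter_ker A g 1
  have hconj : ∀ χ : IrrCharacter N, (χ : N → ℂ) g * conj ((χ : N → ℂ) 1)
      = (χ : N → ℂ) 1 * (χ : N → ℂ) g := by
    intro χ
    obtain ⟨d, -, hd⟩ := Cfsg.Agent.Lib.Helper26.irr_degree χ.2
    rw [hd, Complex.conj_natCast]; ring
  rw [Finset.sum_congr rfl (fun χ _ => hconj χ)] at h_ker
  have hcent : Nat.card (Subgroup.centralizer ({((1 : N) : N ⧸ A)} : Set (N ⧸ A)))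
      = A.index := by
    have : Subgroup.centralizer ({((1 : N) : N ⧸ A)} : Set (N ⧸ A)) = ⊤ := by
      rw [eq_top_iff]
      intro y _
      rw [Subgroup.mem_centralizer_iff]
      intro z hz
      rw [Set.mem_singleton_iff.mp hz, QuotientGroup.mk_one]
      simp
    rw [this, Subgroup.card_top]
    rfl
  by_cases hg : g ∈ A
  · have hg' : (g : N ⧸ A) = ((1 : N) : N ⧸ A) := by
      rw [QuotientGroup.mk_one]; exact (QuotientGroup.eq_one_iff g).2 hg
    rw [hg', if_pos (IsConj.refl _), hcent] at h_ker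
    rw [if_pos hg]
    convert h_ker using 2
  · have hg' : ¬ IsConj (g : N ⧸ A) ((1 : N) : N ⧸ A) := by
      rw [QuotientGroup.mk_one, isConj_one_left]
      intro h
      exact hg ((QuotientGroup.eq_one_iff g).1 h)
    rw [if_neg hg'] at h_ker
    rw [if_neg hg]
    convert h_ker using 2

end irrKer

section dict

variable {N : Type*} [Group N] [Fintype N] (K : Subgroup N) [hK : K.Normal]

theorem indFun_const_on (θ : K → ℂ) (A : Subgroup N) [hA : A.Normal] (hAK : A ≤ K)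
    (hθA : ∀ a : K, (a : N) ∈ A → θ a = θ 1) {x : N} (hx : x ∈ A) :
    indFun K θ x = indFun K θ 1 := by
  unfold indFun
  congr 1
  apply Finset.sum_congr rfl
  intro y _
  have h1 : y⁻¹ * x * y ∈ A := by simpa using hA.conj_mem x hx y⁻¹
  have h2 : y⁻¹ * 1 * y = 1 := by group
  rw [h2, Cfsg.Agent.Lib.Helper25.extendByZero_of_mem K θ (hAK h1),
    Cfsg.Agent.Lib.Helper25.extendByZero_of_mem K θ K.one_mem]
  exact hθA ⟨_, hAK h1⟩ h1

theorem ind_not_trivial (θ : K → ℂ) (hθ : IsIrrCharacter K θ) (hθ1 : θ ≠ fun _ => 1)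
    (hirr : IsIrrCharacter N (indFun K θ)) : ¬ ∀ x ∈ K, indFun K θ x = indFun K θ 1 := by
  haveI : Fintype K := Fintype.ofFinite K
  intro h
  have h1 := Cfsg.Agent.Lib.Helper80.frobenius_reciprocity K θ (indFun K θ)
    (Cfsg.Agent.Lib.Helper80.isClassFunction_of_isCharacter
      (Cfsg.Agent.Lib.Helper80.isCharacter_of_isIrrCharacter hirr))
  rw [Cfsg.Agent.Lib.Helper26.classInner_irr hirr hirr, if_pos rfl] at h1
  have h2 : (fun k : K => indFun K θ k) = (indFun K θ 1) • (fun _ : K => (1 : ℂ)) := by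
    funext k
    simp [h k k.2]
  rw [h2, Cfsg.Agent.Lib.Helper26.classInner_smul_right,
    Cfsg.Agent.Lib.Helper26.classInner_irr hθ Cfsg.Agent.Lib.Helper80.isIrrCharacter_one,
    if_neg hθ1, mul_zero] at h1
  exact one_ne_zero h1

theorem exists_ind_of_irr
    (hirrInd : ∀ θ : K → ℂ, IsIrrCharacter K θ → θ ≠ (fun _ => 1) → IsIrrCharacter N (indFun K θ))
    (χ : N → ℂ) (hχ : IsIrrCharacter N χ) (hχK : ¬ ∀ x ∈ K, χ x = χ 1) :
    ∃ θ : K → ℂ, IsIrrCharacter K θ ∧ θ ≠ (fun _ => 1) ∧ χ = indFun K θ := by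
  classical
  haveI : Fintype K := Fintype.ofFinite K
  haveI : Fintype (IrrCharacter K) := Fintype.ofFinite _
  have hres : IsCharacter K (fun k : K => χ k) :=
    Cfsg.Agent.Lib.Helper80.isCharacter_restrict K
      (Cfsg.Agent.Lib.Helper80.isCharacter_of_isIrrCharacter hχ)
  obtain ⟨m, hm, hsum⟩ := Cfsg.Agent.Lib.Helper75.char_eq_sum_irr hres
  by_contra hcon
  push Not at hcon
  have hzero : ∀ ψ : IrrCharacter K, (ψ : K → ℂ) ≠ (fun _ => 1) → m ψ = 0 := by
    intro ψ hψ1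
    have h1 := Cfsg.Agent.Lib.Helper80.frobenius_reciprocity K (ψ : K → ℂ) χ
      (Cfsg.Agent.Lib.Helper80.isClassFunction_of_isCharacter
        (Cfsg.Agent.Lib.Helper80.isCharacter_of_isIrrCharacter hχ))
    rw [Cfsg.Agent.Lib.Helper26.classInner_irr (hirrInd _ ψ.2 hψ1) hχ,
      if_neg (fun h => hcon _ ψ.2 hψ1 h.symm)] at h1
    have h2 := hm ψ
    rw [← Cfsg.Agent.Lib.Helper26.classInner_conj_symm, ← h1, map_zero] at h2
    exact_mod_cast h2.symm
  apply hχK
  have h1 : ∀ k : K, χ k = (m ⟨fun _ => 1, Cfsg.Agent.Lib.Helper80.isIrrCharacter_one⟩ : ℂ) := by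
    intro k
    have h3 : χ k = _ := congrFun hsum k
    rw [h3, Finset.sum_apply,
      Finset.sum_eq_single ⟨fun _ => 1, Cfsg.Agent.Lib.Helper80.isIrrCharacter_one⟩]
    · simp
    · intro ψ _ hne
      rw [hzero ψ (fun h => hne (Subtype.ext h))]; simp
    · intro h; exact absurd (Finset.mem_univ _) h
  intro x hx
  have h4 := h1 ⟨x, hx⟩
  have h5 := h1 1
  simp only [Subgroup.coe_one] at h4 h5
  rw [h4, h5]

theorem trivial_on_of_ind (θ : K → ℂ) (hθ : IsCharacter K θ) (A : Subgroup N) [hA : A.Normal]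
    (hAK : A ≤ K) (h : ∀ x ∈ A, indFun K θ x = indFun K θ 1) :
    ∀ a : K, (a : N) ∈ A → θ a = θ 1 := by
  intro a ha
  have h1 := h a ha
  unfold indFun at h1
  have hK0 : (Nat.card K : ℂ)⁻¹ ≠ 0 := by
    apply inv_ne_zero
    exact_mod_cast (Nat.card_pos (α := K)).ne'
  have h2 : ∑ y : N, extendByZero K θ (y⁻¹ * (a : N) * y) = ∑ y : N, extendByZero K θ (y⁻¹ * 1 * y) :=
    mul_left_cancel₀ hK0 h1
  set d : ℕ := charDegree θ with hd
  have hθ1 : θ 1 = (d : ℂ) := Cfsg.Agent.Lib.Helper80.char_one_eq_charDegree hθ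
  have hterm1 : ∀ y : N, extendByZero K θ (y⁻¹ * 1 * y) = (d : ℂ) := by
    intro y
    have h3 : y⁻¹ * 1 * y = 1 := by group
    rw [h3, Cfsg.Agent.Lib.Helper25.extendByZero_of_mem K θ K.one_mem]
    exact hθ1
  have hterm2 : ∀ y : N, (extendByZero K θ (y⁻¹ * (a : N) * y)).re ≤ (d : ℝ) := by
    intro y
    have h3 : y⁻¹ * (a : N) * y ∈ K := by simpa using hK.conj_mem a a.2 y⁻¹
    rw [Cfsg.Agent.Lib.Helper25.extendByZero_of_mem K θ h3]
    exact le_trans (Complex.re_le_norm _)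
      (Cfsg.Agent.Lib.Helper80.norm_char_le_charDegree hθ _)
  have h3 : ∑ y : N, ((d : ℝ) - (extendByZero K θ (y⁻¹ * (a : N) * y)).re) = 0 := by
    have h4 := congrArg Complex.re h2
    rw [Complex.re_sum, Complex.re_sum] at h4
    have h5 : ∀ i : N, (extendByZero K θ (i⁻¹ * 1 * i)).re = (d : ℝ) := by
      intro i; rw [hterm1 i]; simp
    rw [Finset.sum_sub_distrib, h4, Finset.sum_congr rfl (fun i _ => h5 i)]
    simp
  have h5 := (Finset.sum_eq_zero_iff_of_nonneg (fun y _ => sub_nonneg.mpr (hterm2 y))).1 h3 1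
    (Finset.mem_univ _)
  have h6 : (1 : N)⁻¹ * (a : N) * 1 = a := by group
  rw [h6, Cfsg.Agent.Lib.Helper25.extendByZero_coe] at h5
  have h7 : (θ a).re = d := by linarith
  have h8 : ‖θ a‖ ≤ d := Cfsg.Agent.Lib.Helper80.norm_char_le_charDegree hθ a
  have h9 : (θ a).im = 0 := by
    have h10 : ‖θ a‖ ^ 2 ≤ (d : ℝ) ^ 2 := by
      apply pow_le_pow_left₀ (norm_nonneg _) h8
    rw [← Complex.normSq_eq_norm_sq, Complex.normSq_apply, h7] at h10
    nlinarith
  rw [hθ1]
  apply Complex.ext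
  · simpa using h7
  · simpa using h9

/-- The dictionary. -/
theorem above_iff
    (hirrInd : ∀ θ : K → ℂ, IsIrrCharacter K θ → θ ≠ (fun _ => 1) → IsIrrCharacter N (indFun K θ))
    (A : Subgroup N) [hA : A.Normal] (hAK : A ≤ K) (χ : N → ℂ) :
    χ ∈ inducedIrrAbove K A ↔
      IsIrrCharacter N χ ∧ (∀ x ∈ A, χ x = χ 1) ∧ ¬ (∀ x ∈ K, χ x = χ 1) := by
  constructor
  · rintro ⟨θ, hθ, hθ1, hθA, rfl⟩
    exact ⟨hirrInd θ hθ hθ1, fun x hx => indFun_const_on K θ A hAK hθA hx,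
      ind_not_trivial K θ hθ hθ1 (hirrInd θ hθ hθ1)⟩
  · rintro ⟨hχ, hχA, hχK⟩
    obtain ⟨θ, hθ, hθ1, rfl⟩ := exists_ind_of_irr K hirrInd χ hχ hχK
    exact ⟨θ, hθ, hθ1, trivial_on_of_ind K θ
      (Cfsg.Agent.Lib.Helper80.isCharacter_of_isIrrCharacter hθ) A hAK hχA, rfl⟩

end dict

end Cfsg.Agent.Lib.Helper4.Sib
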