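import Mathlib
import Cfsg.Prelude.Def_OddOrderChar
import Cfsg.Prelude.Def_OddOrderLocal
import Cfsg.Agent.Lib.Helper3.FrobInd

/-!
# Group-theoretic facts about Frobenius groups used for Sibley's theorem
-/

set_option autoImplicit false

namespace Cfsg.Agent.Lib.Helper4.Sib

open Cfsg

section frobgen

variable {N : Type*} [Group N] [Finite N] (K W : Subgroup N) [hK : K.Normal]

/-- In a Frobenius group with kernel `K`, the centralizer of a non-identity element of `K` lies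
in `K`. -/
theorem frob_cent (hKW' : K ⊔ W = ⊤)
    (hfpf : ∀ w ∈ W, w ≠ 1 → ∀ k ∈ K, w * k = k * w → k = 1) :
    ∀ k ∈ K, k ≠ 1 → ∀ x : N, x * k = k * x → x ∈ K := by
  intro k hk hk1 x hx
  have hxm : x ∈ K ⊔ W := by rw [hKW']; exact Subgroup.mem_top x
  have h1 : x ∈ ((K ⊔ W : Subgroup N) : Set N) := hxm
  rw [Subgroup.normal_mul] at h1
  obtain ⟨u, hu, w, hw, rfl⟩ := Set.mem_mul.mp h1
  by_cases hw1 : w = 1
  · rw [hw1, mul_one]; exact hu
  · exfalso
    obtain ⟨v, hv, hv2⟩ := Cfsg.Agent.Lib.Helper3.frob_coset_conj K W hfpf hw hw1 hu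
    rw [hv2] at hx
    have h2 : w * (v⁻¹ * k * v) = (v⁻¹ * k * v) * w := by
      calc w * (v⁻¹ * k * v) = v⁻¹ * (v * w * v⁻¹ * k) * v := by group
        _ = v⁻¹ * (k * (v * w * v⁻¹)) * v := by rw [hx]
        _ = (v⁻¹ * k * v) * w := by group
    have h3 : v⁻¹ * k * v ∈ K := by simpa using hK.conj_mem k hk v⁻¹
    have h4 := hfpf w hw hw1 _ h3 h2
    apply hk1
    have h5 : k = v * (v⁻¹ * k * v) * v⁻¹ := by group
    rw [h5, h4]; group

/-- The quotient of a Frobenius group by a normal subgroup inside the kernel is again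
"Frobenius". -/
theorem frob_quot (hcent : ∀ k ∈ K, k ≠ 1 → ∀ x : N, x * k = k * x → x ∈ K)
    (H₁ : Subgroup N) [hH₁ : H₁.Normal] (hH₁K : H₁ ≤ K) :
    ∀ k ∈ K, k ∉ H₁ → ∀ x : N, x * k * x⁻¹ * k⁻¹ ∈ H₁ → x ∈ K := by
  intro k hk hkH x hx
  by_contra hxK
  let f : H₁ → H₁ := fun c => ⟨c * x * (c : N)⁻¹ * x⁻¹, by
    have h2 : x * (c : N)⁻¹ * x⁻¹ ∈ H₁ := hH₁.conj_mem _ (H₁.inv_mem c.2) x
    have h3 := H₁.mul_mem c.2 h2
    have h4 : (c : N) * (x * (c : N)⁻¹ * x⁻¹) = c * x * (c : N)⁻¹ * x⁻¹ := by group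
    rwa [h4] at h3⟩
  have hinj : Function.Injective f := by
    intro c d hcd
    have h3 : (c : N) * x * (c : N)⁻¹ * x⁻¹ = d * x * (d : N)⁻¹ * x⁻¹ := congrArg Subtype.val hcd
    have h3' : (c : N) * x * (c : N)⁻¹ = d * x * (d : N)⁻¹ := mul_right_cancel h3
    have h4 : x * ((d : N)⁻¹ * c) = ((d : N)⁻¹ * c) * x := by
      calc x * ((d : N)⁻¹ * c) = (d : N)⁻¹ * (d * x * (d : N)⁻¹) * c := by group
        _ = (d : N)⁻¹ * (c * x * (c : N)⁻¹) * c := by rw [h3']
        _ = ((d : N)⁻¹ * c) * x := by group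
    by_contra hne
    have h5 : (d : N)⁻¹ * c ≠ 1 := by
      intro h; apply hne; apply Subtype.ext; exact (inv_mul_eq_one.mp h).symm
    exact hxK (hcent _ (hH₁K (H₁.mul_mem (H₁.inv_mem d.2) c.2)) h5 x h4)
  have ht : k⁻¹ * x * k * x⁻¹ ∈ H₁ := by
    have h1 : (x * k * x⁻¹ * k⁻¹)⁻¹ ∈ H₁ := H₁.inv_mem hx
    have h2 := hH₁.conj_mem _ h1 k⁻¹
    have h3 : k⁻¹ * (x * k * x⁻¹ * k⁻¹)⁻¹ * k⁻¹⁻¹ = x * k⁻¹ * x⁻¹ * k := by group
    rw [h3] at h2
    have h4 := H₁.inv_mem h2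
    have h5 : (x * k⁻¹ * x⁻¹ * k)⁻¹ = k⁻¹ * x * k * x⁻¹ := by group
    rwa [h5] at h4
  obtain ⟨c, hc⟩ := (Finite.injective_iff_surjective.mp hinj) ⟨_, ht⟩
  have h6 : (c : N) * x * (c : N)⁻¹ * x⁻¹ = k⁻¹ * x * k * x⁻¹ := congrArg Subtype.val hc
  have h7 : x * (k * c) = (k * c) * x := by
    have h8 : (c : N) * x * (c : N)⁻¹ = k⁻¹ * x * k := mul_right_cancel h6
    calc x * (k * c) = k * (k⁻¹ * x * k) * c := by group
      _ = k * (c * x * (c : N)⁻¹) * c := by rw [h8]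
      _ = (k * c) * x := by group
  by_cases h9 : k * (c : N) = 1
  · apply hkH
    have h10 : k = (c : N)⁻¹ := eq_inv_of_mul_eq_one_left h9
    rw [h10]; exact H₁.inv_mem c.2
  · exact hxK (hcent _ (K.mul_mem hk (hH₁K c.2)) h9 x h7)

omit [Finite N] in
theorem lcs_normal (n : ℕ) : (K.lowerCentralSeries n).Normal := by
  induction n with
  | zero => exact hK
  | succ d ih =>
    rw [Subgroup.lowerCentralSeries_succ]
    haveI := ih
    infer_instance

omit [Finite N] in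
/-- A nilpotent nonabelian normal subgroup has a nontrivial normal (in `N`) subgroup inside its
commutator subgroup and centre. -/
theorem exists_central_in_comm (hnil : Group.IsNilpotent K) (hne : ⁅K, K⁆ ≠ ⊥) :
    ∃ Z : Subgroup N, Z.Normal ∧ Z ≠ ⊥ ∧ Z ≤ ⁅K, K⁆ ∧ ∀ z ∈ Z, ∀ k ∈ K, z * k = k * z := by
  classical
  have hex : ∃ n, K.lowerCentralSeries n = ⊥ :=
    (Subgroup.isNilpotent_iff_lowerCentralSeries K).mp hnil
  have h1 : K.lowerCentralSeries 1 = ⁅K, K⁆ := rfl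
  set n := Nat.find hex with hn
  have hspec : K.lowerCentralSeries n = ⊥ := Nat.find_spec hex
  have hn2 : 2 ≤ n := by
    by_contra hlt
    have hn1 : n ≤ 1 := by omega
    have h2 := Subgroup.lowerCentralSeries_antitone (S := K) hn1
    rw [hspec, h1] at h2
    exact hne (le_bot_iff.mp h2)
  have hmin : K.lowerCentralSeries (n - 1) ≠ ⊥ := Nat.find_min hex (by omega)
  refine ⟨K.lowerCentralSeries (n - 1), lcs_normal K (n - 1), hmin, ?_, ?_⟩
  · rw [← h1]
    exact Subgroup.lowerCentralSeries_antitone (S := K) (by omega)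
  · have h3 : ⁅K.lowerCentralSeries (n - 1), K⁆ = ⊥ := by
      have h4 : K.lowerCentralSeries (n - 1 + 1) = ⊥ := by
        rw [Nat.sub_add_cancel (by omega)]; exact hspec
      rwa [Subgroup.lowerCentralSeries_succ] at h4
    rw [Subgroup.commutator_eq_bot_iff_le_centralizer] at h3
    intro z hz k hk
    have h5 := Subgroup.mem_centralizer_iff.mp (h3 hz) k hk
    exact h5.symm

end frobgen

section sylow

variable {G : Type*} [Group G] [Finite G]

/-- A TI `p`-subgroup `H` whose normalizer `L` is a Frobenius group with kernel `H` is a Sylow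
`p`-subgroup. -/
theorem exists_sylow_eq (H L : Subgroup G) (hH1 : H ≠ ⊥)
    (hcent : ∀ h ∈ H, h ≠ 1 → ∀ x ∈ L, x * h = h * x → x ∈ H)
    (hTI : IsTISubset (H : Set G)) (hN : Subgroup.normalizer (H : Set G) = L)
    (p : ℕ) [Fact p.Prime] (hp : IsPGroup p H) : ∃ P : Sylow p G, (P : Subgroup G) = H := by
  obtain ⟨P, hHP⟩ := hp.exists_le_sylow
  refine ⟨P, le_antisymm ?_ hHP⟩
  obtain ⟨h₀, hh₀, hh₀1⟩ : ∃ h₀ ∈ H, h₀ ≠ 1 := by
    by_contra hcon
    push Not at hcon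
    apply hH1
    rw [eq_bot_iff]
    intro x hx
    rw [Subgroup.mem_bot]
    exact hcon x hx
  haveI : Nontrivial (P : Subgroup G) :=
    ⟨⟨⟨h₀, hHP hh₀⟩, 1, fun h => hh₀1 (congrArg Subtype.val h)⟩⟩
  haveI := IsPGroup.center_nontrivial P.isPGroup'
  obtain ⟨z, hz1⟩ := exists_ne (1 : Subgroup.center (P : Subgroup G))
  set z' : G := ((z : (P : Subgroup G)) : G) with hz'
  have hzc : ∀ y ∈ (P : Subgroup G), z' * y = y * z' := by
    intro y hy
    have h1 := Subgroup.mem_center_iff.mp z.2 ⟨y, hy⟩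
    exact (congrArg Subtype.val h1).symm
  have hz'1 : z' ≠ 1 := by
    intro h
    apply hz1
    apply Subtype.ext
    apply Subtype.ext
    exact h
  have hz'L : z' ∈ L := by
    rw [← hN, Subgroup.mem_normalizer_iff]
    intro n
    constructor
    · intro hn
      have h1 : z' * n * z'⁻¹ = n := by rw [hzc n (hHP hn)]; group
      rw [h1]; exact hn
    · intro hn
      have h2 : z' * (z' * n * z'⁻¹) = (z' * n * z'⁻¹) * z' := hzc _ (hHP hn)
      have h1 : n = z' * n * z'⁻¹ := by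
        calc n = z'⁻¹ * ((z' * n * z'⁻¹) * z') := by group
          _ = z'⁻¹ * (z' * (z' * n * z'⁻¹)) := by rw [h2]
          _ = z' * n * z'⁻¹ := by group
      rw [h1]; exact hn
  have hz'H : z' ∈ H := hcent h₀ hh₀ hh₀1 z' hz'L (hzc h₀ (hHP hh₀))
  intro x hx
  have hxL : x ∈ L := by
    by_contra hxL
    rw [← hN] at hxL
    have h1 : x * z' * x⁻¹ = z' := by
      rw [← hzc x hx]; group
    exact hz'1 (hTI x hxL z' hz'H (by rw [h1]; exact hz'H))
  exact hcent z' hz'H hz'1 x hxL (hzc x hx).symm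

end sylow

section iso

variable {L : Type*} [Group L] [Fintype L] {G : Type*} [Group G] [Fintype G]

theorem isLinearIsometryOn_mono {E E' : Set (L → ℂ)} {τ : (L → ℂ) → (G → ℂ)}
    (h : IsLinearIsometryOn E τ) (hsub : E' ⊆ E) : IsLinearIsometryOn E' τ :=
  ⟨fun a ha b hb => h.1 a (hsub ha) b (hsub hb), fun a ha n => h.2.1 a (hsub ha) n,
    fun a ha b hb => h.2.2.1 a (hsub ha) b (hsub hb), fun a ha => h.2.2.2 a (hsub ha)⟩

end iso

end Cfsg.Agent.Lib.Helper4.Sib
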