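import Mathlib
import Cfsg.Prelude.Def_OddOrderChar
import Cfsg.Prelude.Def_OddOrderLocal
import Cfsg.Agent.Lib.Helper4.Sib4
import Cfsg.Agent.Lib.Helper4.Sib5
import Cfsg.Agent.Lib.Helper4.PF67
import Cfsg.Agent.Lib.Helper25.PF66
import Cfsg.Agent.Lib.Helper25.PF68
import Cfsg.Agent.S1531
import Cfsg.Agent.S1521

/-!
# Sibley's coherence theorem for Frobenius TI kernels: assembly
-/

set_option autoImplicit false

namespace Cfsg.Agent.Lib.Helper4.Sib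

open Cfsg Cfsg.Agent.Lib.Helper26 Cfsg.Agent.Lib.Helper25
open scoped ComplexConjugate

section assembly

variable {G : Type*} [Group G] [Fintype G] (H L W₁ : Subgroup G) [Fintype L]

omit [Fintype G] in
/-- Basic group-theoretic consequences of the Frobenius hypotheses, inside `L`. -/
theorem frob_setup (hHL : H ≤ L) (hW₁L : W₁ ≤ L) (hH1 : H ≠ ⊥) (hW1 : W₁ ≠ ⊥)
    (hnil : Group.IsNilpotent H) (hinf : H ⊓ W₁ = ⊥) (hsup : H ⊔ W₁ = L)
    (hfpf : ∀ w ∈ W₁, w ≠ 1 → ∀ h ∈ H, w * h = h * w → h = 1)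
    [hKn : (H.subgroupOf L).Normal] :
    (∀ k ∈ H.subgroupOf L, k ≠ 1 → ∀ x : L, x * k = k * x → x ∈ H.subgroupOf L) ∧
    Group.IsNilpotent (H.subgroupOf L) ∧
    ⁅H.subgroupOf L, H.subgroupOf L⁆ < H.subgroupOf L ∧ H.subgroupOf L < ⊤ := by
  set K : Subgroup L := H.subgroupOf L with hKdef
  have hKW_sup : K ⊔ W₁.subgroupOf L = ⊤ := by
    rw [hKdef, ← Subgroup.subgroupOf_sup hHL hW₁L, hsup, Subgroup.subgroupOf_self]
  have hfpf' : ∀ w ∈ W₁.subgroupOf L, w ≠ 1 → ∀ k ∈ K, w * k = k * w → k = 1 := by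
    intro w hw hw1 k hk hwk
    have h1 := hfpf w (Subgroup.mem_subgroupOf.mp hw) (fun h => hw1 (Subtype.ext h)) k
      (Subgroup.mem_subgroupOf.mp hk) (congrArg Subtype.val hwk)
    exact Subtype.ext h1
  have hKH : K ≃* H := Subgroup.subgroupOfEquivOfLe hHL
  have hKnil : Group.IsNilpotent K := (Group.isNilpotent_congr hKH).mpr hnil
  refine ⟨frob_cent K (W₁.subgroupOf L) hKW_sup hfpf', hKnil, ?_, ?_⟩
  · haveI := hKnil
    haveI : Nontrivial H := (Subgroup.nontrivial_iff_ne_bot H).mpr hH1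
    haveI : Nontrivial K := hKH.toEquiv.nontrivial
    refine lt_of_le_of_ne (Subgroup.commutator_le_left K K) ?_
    intro heq
    have h1 := Group.IsSolvable.commutator_lt_top_of_nontrivial K
    have h2 : (commutator ↥K).map K.subtype = ⁅K, K⁆ := Subgroup.map_subtype_commutator K
    have h3 : (commutator ↥K).map K.subtype = (⊤ : Subgroup K).map K.subtype := by
      rw [h2, heq, ← MonoidHom.range_eq_map, Subgroup.range_subtype]
    exact h1.ne (Subgroup.map_injective K.subtype_injective h3)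
  · rw [lt_top_iff_ne_top]
    intro htop
    apply hW1
    rw [eq_bot_iff]
    intro w hw
    have h1 : (⟨w, hW₁L hw⟩ : L) ∈ K := by rw [htop]; exact Subgroup.mem_top _
    have h2 : w ∈ H := Subgroup.mem_subgroupOf.mp h1
    have h3 : w ∈ H ⊓ W₁ := ⟨h2, hw⟩
    rw [hinf] at h3; exact h3

/-- The case handled by (6.5): `|H|` not a prime power, or `H` abelian. -/
theorem sibley_s1521 (hodd : Odd (Nat.card L)) (hHL : H ≤ L) (hW₁L : W₁ ≤ L) (hH1 : H ≠ ⊥)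
    (hW1 : W₁ ≠ ⊥) (hnil : Group.IsNilpotent H) (hinf : H ⊓ W₁ = ⊥) (hsup : H ⊔ W₁ = L)
    (hfpf : ∀ w ∈ W₁, w ≠ 1 → ∀ h ∈ H, w * h = h * w → h = 1)
    (hTI : IsTISubset (H : Set G)) (hN : Subgroup.normalizer (H : Set G) = L)
    [hKn : (H.subgroupOf L).Normal]
    (hgood : (¬ ∃ p m : ℕ, p.Prime ∧ Nat.card H = p ^ m) ∨
      ⁅H.subgroupOf L, H.subgroupOf L⁆ = ⊥) :
    IsCoherent (inducedIrrAbove (H.subgroupOf L) ⊥) {1}ᶜ (fun α : L → ℂ => indFun L α) := by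
  classical
  obtain ⟨hcent, hKnil, hK₁lt, hKL⟩ :=
    frob_setup H L W₁ hHL hW₁L hH1 hW1 hnil hinf hsup hfpf
  set K : Subgroup L := H.subgroupOf L with hKdef
  obtain ⟨R, hsys⟩ := frob_coherenceSystem H L W₁ hodd hHL hW₁L hH1 hW1 hinf hsup hfpf hTI hN
  have hKH : K ≃* H := Subgroup.subgroupOfEquivOfLe hHL
  haveI := hKnil
  have hsolv : Group.IsSolvable K := inferInstance
  have hH₁K : ⁅K, K⁆ ⊔ ⊥ < K := by rw [sup_bot_eq]; exact hK₁lt
  have hfrob := frob_quot K hcent (⁅K, K⁆ ⊔ ⊥) hH₁K.le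
  have hnilq : Group.IsNilpotent (↥K ⧸ (⊥ : Subgroup L).subgroupOf K) := inferInstance
  refine Cfsg.Agent.S1521.result K hsolv _ R hsys hodd ⊥ bot_le hnilq (⁅K, K⁆ ⊔ ⊥) rfl hH₁K hKL
    hfrob ?_
  rcases hgood with h | h
  · refine Or.inr (Or.inr (Or.inl ?_))
    rw [Subgroup.relIndex_bot_left, Nat.card_congr hKH.toEquiv]
    exact h
  · exact Or.inr (Or.inr (Or.inr (Or.inl (by rw [h]))))

/-- The case of a nonabelian `p`-group. -/
theorem sibley_pgroup (hodd : Odd (Nat.card L)) (hHL : H ≤ L) (hW₁L : W₁ ≤ L) (hH1 : H ≠ ⊥)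
    (hW1 : W₁ ≠ ⊥) (hnil : Group.IsNilpotent H) (hinf : H ⊓ W₁ = ⊥) (hsup : H ⊔ W₁ = L)
    (hfpf : ∀ w ∈ W₁, w ≠ 1 → ∀ h ∈ H, w * h = h * w → h = 1)
    (hTI : IsTISubset (H : Set G)) (hN : Subgroup.normalizer (H : Set G) = L)
    [hKn : (H.subgroupOf L).Normal]
    (p n : ℕ) (hp : p.Prime) (hcard : Nat.card H = p ^ n)
    (hnab : ⁅H.subgroupOf L, H.subgroupOf L⁆ ≠ ⊥) :
    IsCoherent (inducedIrrAbove (H.subgroupOf L) ⊥) {1}ᶜ (fun α : L → ℂ => indFun L α) := by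
  classical
  haveI : Fact p.Prime := ⟨hp⟩
  obtain ⟨hcent, hKnil, hK₁lt, hKL⟩ :=
    frob_setup H L W₁ hHL hW₁L hH1 hW1 hnil hinf hsup hfpf
  set K : Subgroup L := H.subgroupOf L with hKdef
  have hcentG : ∀ h ∈ H, h ≠ 1 → ∀ x ∈ L, x * h = h * x → x ∈ H := by
    intro h hh hh1 x hx hxh
    have h1 := hcent ⟨h, hHL hh⟩ (Subgroup.mem_subgroupOf.mpr hh)
      (fun h' => hh1 (congrArg Subtype.val h')) ⟨x, hx⟩ (Subtype.ext hxh)
    exact Subgroup.mem_subgroupOf.mp h1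
  have hirrInd : ∀ θ : K → ℂ, IsIrrCharacter K θ → θ ≠ (fun _ => 1) →
      IsIrrCharacter L (indFun K θ) :=
    fun θ hθ hθ1 => frob_induced_irr H L W₁ hHL hW₁L hinf hsup hfpf hθ hθ1
  obtain ⟨R, hsys⟩ := frob_coherenceSystem H L W₁ hodd hHL hW₁L hH1 hW1 hinf hsup hfpf hTI hN
  have hKH : K ≃* H := Subgroup.subgroupOfEquivOfLe hHL
  haveI := hKnil
  have hsolv : Group.IsSolvable K := inferInstance
  have hKcard : Nat.card K = p ^ n := by rw [Nat.card_congr hKH.toEquiv, hcard]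
  set K₁ : Subgroup L := ⁅K, K⁆ with hK₁def
  haveI hK₁n : K₁.Normal := Subgroup.commutator_normal K K
  have hK₁K : K₁ ≤ K := hK₁lt.le
  obtain ⟨Z, hZn, hZ1, hZK₁, hZc⟩ := exists_central_in_comm K hKnil hnab
  haveI := hZn
  have hZK : Z ≤ K := hZK₁.trans hK₁K
  -- the sets
  set S : Set (L → ℂ) := inducedIrrAbove K ⊥ with hSdef
  set S₁ : Set (L → ℂ) := inducedIrrAbove K K₁ with hS₁def
  set S₂ : Set (L → ℂ) := S \ inducedIrrAbove K Z with hS₂def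
  set F₁ : Finset (L → ℂ) := irrKer K₁ \ irrKer K with hF₁def
  set F₂ : Finset (L → ℂ) := irrKer (⊥ : Subgroup L) \ irrKer Z with hF₂def
  have hF₁S : (↑F₁ : Set (L → ℂ)) = S₁ := by
    ext a
    rw [Finset.mem_coe, hF₁def, Finset.mem_sdiff, mem_irrKer, mem_irrKer, hS₁def,
      above_iff K hirrInd K₁ hK₁K a]
    constructor
    · rintro ⟨⟨h1, h2⟩, h3⟩; exact ⟨h1, h2, fun h => h3 ⟨h1, h⟩⟩
    · rintro ⟨h1, h2, h3⟩; exact ⟨⟨h1, h2⟩, fun h => h3 h.2⟩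
  have hF₂S : (↑F₂ : Set (L → ℂ)) = S₂ := by
    ext a
    rw [Finset.mem_coe, hF₂def, Finset.mem_sdiff, mem_irrKer, mem_irrKer, hS₂def, Set.mem_diff,
      hSdef, above_iff K hirrInd ⊥ bot_le a, above_iff K hirrInd Z hZK a]
    constructor
    · rintro ⟨⟨h1, -⟩, h3⟩
      have h4 : ¬ ∀ x ∈ Z, a x = a 1 := fun h => h3 ⟨h1, h⟩
      have h5 : ¬ ∀ x ∈ K, a x = a 1 := fun h => h4 (fun x hx => h x (hZK hx))
      exact ⟨⟨h1, fun x hx => by rw [Subgroup.mem_bot.mp hx], h5⟩, fun h => h4 h.2.1⟩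
    · rintro ⟨⟨h1, h2, h3⟩, h4⟩
      exact ⟨⟨h1, h2⟩, fun h => h4 ⟨h1, h.2, h3⟩⟩
  -- coherence of the two parts
  have hcoh₁ : IsCoherent S₁ {1}ᶜ (fun α : L → ℂ => indFun L α) :=
    coherent_above_commutator K hsolv hsys K₁ le_rfl hK₁lt
  have he : K.index ∣ Nat.card Z - 1 := by
    apply frob_count K Z
    intro z hz hz1
    ext x
    rw [Subgroup.mem_centralizer_iff]
    constructor
    · intro h
      exact hcent z (hZK hz) hz1 x (h z rfl).symm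
    · intro hx y hy
      rw [Set.mem_singleton_iff.mp hy]
      exact hZc z hz x hx
  have hn0 : n ≠ 0 := by
    rintro rfl
    rw [pow_zero] at hcard
    exact hH1 (Subgroup.card_eq_one.mp hcard)
  have hp3 : 3 ≤ p := by
    have hpK : p ∣ Nat.card K := by rw [hKcard]; exact dvd_pow_self p hn0
    have hpL : p ∣ Nat.card L := hpK.trans (Subgroup.card_subgroup_dvd_card K)
    have h2 : p ≠ 2 := by
      rintro rfl
      exact (Nat.not_even_iff_odd.mpr hodd) (even_iff_two_dvd.mpr hpL)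
    have := hp.two_le
    omega
  have hirrS : ∀ χ ∈ S, IsIrrCharacter L χ :=
    frob_above_irr H L W₁ hHL hW₁L hinf hsup hfpf ⊥
  have hcoh₂ : IsCoherent S₂ {1}ᶜ (fun α : L → ℂ => indFun L α) :=
    coherent_diff_pgroup K hsys Z hZK hZc (fun χ hχ => hirrS χ hχ.1) hp hp3 hKcard hZ1 he
  obtain ⟨hne₁, τ₁, hτ₁, hag₁⟩ := hcoh₁
  obtain ⟨hne₂, τ₂, hτ₂, hag₂⟩ := hcoh₂
  rw [← hF₁S] at hτ₁ hag₁
  rw [← hF₂S] at hτ₂ hag₂
  have hF₁sub : ∀ a ∈ F₁, a ∈ S := by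
    intro a ha
    have h1 : a ∈ S₁ := by rw [← hF₁S]; exact Finset.mem_coe.mpr ha
    exact above_subset_bot K K₁ h1
  have hF₂sub : ∀ a ∈ F₂, a ∈ S := by
    intro a ha
    have h1 : a ∈ S₂ := by rw [← hF₂S]; exact Finset.mem_coe.mpr ha
    exact h1.1
  have hFsub : (↑(F₁ ∪ F₂) : Set (L → ℂ)) ⊆ S := by
    intro a ha
    rcases Finset.mem_union.mp (Finset.mem_coe.mp ha) with h | h
    · exact hF₁sub a h
    · exact hF₂sub a h
  have hirr : ∀ a ∈ F₁ ∪ F₂, IsIrrCharacter L a :=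
    fun a ha => hirrS a (hFsub (Finset.mem_coe.mpr ha))
  have hdisj : Disjoint F₁ F₂ := by
    rw [Finset.disjoint_left]
    intro a ha₁ ha₂
    rw [hF₁def, Finset.mem_sdiff, mem_irrKer] at ha₁
    rw [hF₂def, Finset.mem_sdiff, mem_irrKer, mem_irrKer] at ha₂
    exact ha₂.2 ⟨ha₁.1.1, fun x hx => ha₁.1.2 x (hZK₁ hx)⟩
  have hF₂mem : ∀ χ : L → ℂ, IsIrrCharacter L χ → (¬ ∀ x ∈ Z, χ x = χ 1) → χ ∈ F₂ := by
    intro χ hχ hχZ
    rw [hF₂def, Finset.mem_sdiff, mem_irrKer, mem_irrKer]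
    exact ⟨⟨hχ, fun x hx => by rw [Subgroup.mem_bot.mp hx]⟩, fun h => hχZ h.2⟩
  have hsum₁ : ∀ g : L, ∑ a ∈ F₁, a 1 * a g
      = (if g ∈ K₁ then (K₁.index : ℂ) else 0) - (if g ∈ K then (K.index : ℂ) else 0) := by
    intro g
    have hsub : irrKer K ⊆ irrKer K₁ := by
      intro a ha
      rw [mem_irrKer] at ha ⊢
      exact ⟨ha.1, fun x hx => ha.2 x (hK₁K hx)⟩
    rw [hF₁def, ← sum_irrKer K₁ g, ← sum_irrKer K g, eq_sub_iff_add_eq, Finset.sum_sdiff hsub]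
  have hsum₂ : ∀ g : L, ∑ a ∈ F₂, a 1 * a g
      = (if g = 1 then (Nat.card L : ℂ) else 0) - (if g ∈ Z then (Z.index : ℂ) else 0) := by
    intro g
    have hsub : irrKer Z ⊆ irrKer (⊥ : Subgroup L) := by
      intro a ha
      rw [mem_irrKer] at ha ⊢
      exact ⟨ha.1, fun x hx => by rw [Subgroup.mem_bot.mp hx]⟩
    have h1 := sum_irrKer (⊥ : Subgroup L) g
    rw [Subgroup.index_bot] at h1
    simp only [Subgroup.mem_bot] at h1
    rw [hF₂def, ← h1, ← sum_irrKer Z g, eq_sub_iff_add_eq, Finset.sum_sdiff hsub]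
  have hiso : IsLinearIsometryOn (zspanOn (↑(F₁ ∪ F₂) : Set (L → ℂ)) {1}ᶜ)
      (fun α : L → ℂ => indFun L α) :=
    isLinearIsometryOn_mono hsys.isometry (zspanOn_mono hFsub _)
  -- members
  obtain ⟨χ₁, hχ₁S⟩ := above_nonempty K hsolv K₁ hK₁lt
  have hχ₁ : χ₁ ∈ F₁ := by rw [← Finset.mem_coe, hF₁S]; exact hχ₁S
  have hconj₁ : ∀ a ∈ F₁, conjFun a ∈ F₁ := by
    intro a ha
    rw [← Finset.mem_coe, hF₁S] at ha ⊢
    exact conj_mem_above K K₁ ha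
  have hconj₂ : ∀ a ∈ F₂, conjFun a ∈ F₂ := by
    intro a ha
    rw [← Finset.mem_coe, hF₂S] at ha ⊢
    exact conj_mem_diff_above K Z ha
  have hcne : ∀ a ∈ F₁ ∪ F₂, conjFun a ≠ a := fun a ha =>
    frob_conj_ne H L W₁ hodd hHL hW₁L hW1 hinf hsup hfpf ⊥ a (hFsub (Finset.mem_coe.mpr ha))
  have hdeg₁ : ∀ a ∈ F₁, a 1 = ((K.index : ℕ) : ℂ) := by
    intro a ha
    rw [← Finset.mem_coe, hF₁S] at ha
    obtain ⟨θ, hθ, -, hker, rfl⟩ := ha
    rw [indFun_apply_one]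
    have h1 : θ 1 = 1 := by
      apply linear_of_commutator hθ
      intro c hc
      apply hker
      have h2 : (commutator ↥K).map K.subtype = ⁅K, K⁆ := Subgroup.map_subtype_commutator K
      rw [hK₁def, ← h2]
      exact ⟨c, hc, rfl⟩
    rw [h1, mul_one]
  have hdeg₂ : ∀ a ∈ F₂, ∃ b : ℕ, a 1 = ((p ^ b * K.index : ℕ) : ℂ) := by
    intro a ha
    obtain ⟨θ, hθ, -, -, rfl⟩ := hF₂sub a ha
    have h1 := Cfsg.Agent.Lib.Helper80.charDegree_dvd_card hθ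
    rw [hKcard] at h1
    obtain ⟨b, -, hb⟩ := (Nat.dvd_prime_pow hp).mp h1
    refine ⟨b, ?_⟩
    rw [indFun_apply_one, Cfsg.Agent.Lib.Helper80.char_one_eq_charDegree
      (Cfsg.Agent.Lib.Helper80.isCharacter_of_isIrrCharacter hθ), hb]
    push_cast; ring
  choose! bdeg hbdeg using hdeg₂
  have hF₂ne : F₂.Nonempty := by
    rw [Finset.nonempty_iff_ne_empty]
    intro hempty
    have h1 := hsum₂ 1
    rw [hempty, Finset.sum_empty, if_pos rfl, if_pos Z.one_mem] at h1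
    have h2 : (Z.index : ℂ) = (Nat.card L : ℂ) := by linear_combination h1
    have h3 : Z.index = Nat.card L := by exact_mod_cast h2
    have h4 := Subgroup.card_mul_index Z
    rw [h3] at h4
    have h5 : Nat.card Z = 1 := by
      have hpos : 0 < Nat.card L := Nat.card_pos
      have h6 : Nat.card Z * Nat.card L = 1 * Nat.card L := by rw [h4, one_mul]
      exact Nat.eq_of_mul_eq_mul_right hpos h6
    exact hZ1 (Subgroup.card_eq_one.mp h5)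
  obtain ⟨χ, hχ, hχmin⟩ := Finset.exists_min_image F₂ bdeg hF₂ne
  set D : ℕ := p ^ bdeg χ with hD
  have hχdeg : χ 1 = (D : ℂ) * ((K.index : ℕ) : ℂ) := by
    rw [hbdeg χ hχ, hD]; push_cast; ring
  set m : (L → ℂ) → ℕ := fun a => p ^ (bdeg a - bdeg χ) with hm
  have hmF : ∀ a ∈ F₂, a 1 = (m a : ℂ) * χ 1 := by
    intro a ha
    rw [hbdeg a ha, hbdeg χ hχ]
    have h1 : p ^ bdeg a = p ^ (bdeg a - bdeg χ) * p ^ bdeg χ := by
      rw [← pow_add, Nat.sub_add_cancel (hχmin a ha)]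
    rw [h1]
    simp only [hm]
    push_cast; ring
  have hX2 : ∃ a ∈ (↑F₁ : Set (L → ℂ)), ∃ b ∈ (↑F₁ : Set (L → ℂ)), a ≠ b :=
    ⟨conjFun χ₁, Finset.mem_coe.mpr (hconj₁ χ₁ hχ₁), χ₁, Finset.mem_coe.mpr hχ₁,
      hcne χ₁ (Finset.mem_union_left _ hχ₁)⟩
  have hY2 : ∃ a ∈ (↑F₂ : Set (L → ℂ)), ∃ b ∈ (↑F₂ : Set (L → ℂ)), a ≠ b :=
    ⟨conjFun χ, Finset.mem_coe.mpr (hconj₂ χ hχ), χ, Finset.mem_coe.mpr hχ,
      hcne χ (Finset.mem_union_right _ hχ)⟩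
  have hcross : ∀ a ∈ F₁, ∀ b ∈ F₂, classInner (τ₁ a) (τ₂ b) = 0 := by
    intro a ha b hb
    exact Cfsg.Agent.S1531.part1 L S (↑F₁) (↑F₂) hirrS (fun a ha => hF₁sub a ha)
      (fun a ha => hF₂sub a ha) (Finset.disjoint_coe.mpr hdisj) hX2 hY2
      (fun α : L → ℂ => indFun L α) hsys.isometry hsys.map_one τ₁ τ₂ hτ₁ hag₁ hτ₂ hag₂
      a (Finset.mem_coe.mpr ha) b (Finset.mem_coe.mpr hb)
  have hcop : Nat.Coprime D (K.index * F₁.card) := by
    have h1 := hsum₁ 1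
    rw [if_pos K₁.one_mem, if_pos K.one_mem,
      Finset.sum_congr rfl (fun a ha => by rw [hdeg₁ a ha]), Finset.sum_const, nsmul_eq_mul] at h1
    have h2 : F₁.card * (K.index * K.index) + K.index = K₁.index := by
      have h2' : ((F₁.card * (K.index * K.index) + K.index : ℕ) : ℂ) = (K₁.index : ℂ) := by
        push_cast; linear_combination h1
      exact_mod_cast h2'
    have h3 := Subgroup.relIndex_mul_index hK₁K
    have hidx : 0 < K.index := Nat.pos_of_ne_zero Subgroup.index_ne_zero_of_finite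
    have h4 : F₁.card * K.index + 1 = K₁.relIndex K := by
      have h4' : (F₁.card * K.index + 1) * K.index = K₁.relIndex K * K.index := by
        rw [h3, ← h2]; ring
      exact Nat.eq_of_mul_eq_mul_right hidx h4'
    have h5 : K₁.relIndex K ∣ p ^ n := by rw [← hKcard]; exact Subgroup.relIndex_dvd_card K₁ K
    obtain ⟨c, -, hc⟩ := (Nat.dvd_prime_pow hp).mp h5
    have hc0 : c ≠ 0 := by
      rintro rfl
      rw [pow_zero, Subgroup.relIndex_eq_one] at hc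
      exact (not_le_of_gt hK₁lt) hc
    have hpr : p ∣ K₁.relIndex K := by rw [hc]; exact dvd_pow_self p hc0
    apply Nat.Coprime.pow_left
    rw [Nat.Prime.coprime_iff_not_dvd hp]
    intro hdvd
    have h6 : p ∣ F₁.card * K.index + 1 := by rw [h4]; exact hpr
    have h7 : p ∣ F₁.card * K.index := by rw [mul_comm]; exact hdvd
    have h8 : p ∣ 1 := (Nat.dvd_add_right h7).mp h6
    exact hp.one_lt.ne' (Nat.dvd_one.mp h8)
  -- (6.7)
  obtain ⟨P, hPH⟩ := exists_sylow_eq H L hH1 hcentG hTI hN p (IsPGroup.of_card hcard)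
  have h67 : ∀ ψ : G → ℂ, IsIrrCharacter G ψ →
      (∀ z ∈ Z, ∀ z' ∈ Z, z ≠ 1 → z' ≠ 1 → ψ ((z : L) : G) = ψ ((z' : L) : G)) →
      ∀ z ∈ Z, z ≠ 1 → ∃ n d : ℤ, ψ ((z : L) : G) = n ∧ ψ 1 = d ∧ (Nat.card K : ℤ) ∣ d - n := by
    intro ψ hψ hconst z hz hz1
    have hPcard : Nat.card (P : Subgroup G) = Nat.card K := by
      rw [hPH, Nat.card_congr hKH.toEquiv]
    rw [← hPcard]
    apply Cfsg.Agent.Lib.Helper4.PF67.pf67 p P (by rw [hPH]; exact hTI)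
      (by rw [hPH, hN]; exact hodd) (Z.map L.subtype) ?_ ?_ ?_ ψ hψ ?_ (z : G) ?_ ?_
    · rw [hPH]
      rintro _ ⟨y, hy, rfl⟩
      exact Subgroup.mem_subgroupOf.mp (hZK hy)
    · rw [hPH, hN]
      rintro x hx _ ⟨y, hy, rfl⟩
      exact ⟨⟨x, hx⟩ * y * ⟨x, hx⟩⁻¹, hZn.conj_mem y hy ⟨x, hx⟩, rfl⟩
    · rw [hPH]
      rintro _ ⟨y, hy, rfl⟩ k hk
      have h1 := hZc y hy ⟨k, hHL hk⟩ (Subgroup.mem_subgroupOf.mpr hk)
      exact congrArg Subtype.val h1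
    · rintro _ ⟨y, hy, rfl⟩ _ ⟨y', hy', rfl⟩ h1 h1'
      exact hconst y hy y' hy' (fun h => h1 (by rw [h]; rfl)) (fun h => h1' (by rw [h]; rfl))
    · exact ⟨z, hz, rfl⟩
    · intro h; apply hz1; exact Subtype.ext h
  have hglue := glue_main L K K₁ Z F₁ F₂ hdisj hirr hF₂mem hsum₁ hsum₂ hiso τ₁ τ₂ hτ₁ hag₁ hτ₂
    hag₂ hcross K.index D rfl hdeg₁ χ₁ χ hχ₁ hχ hχdeg m hmF h67 hZ1 hcop hconj₁ hconj₂ hcne
  have hT₀ : IsCoherent (S₁ ∪ S₂) {1}ᶜ (fun α : L → ℂ => indFun L α) := by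
    have h : (↑(F₁ ∪ F₂) : Set (L → ℂ)) = S₁ ∪ S₂ := by rw [Finset.coe_union, hF₁S, hF₂S]
    rw [← h]; exact hglue
  refine coherent_of_contains_diff K hsys hodd Z hZK hZ1 he (S₁ ∪ S₂) ?_ ?_ hT₀
    (fun a ha => Or.inr ha) χ₁ (Or.inl hχ₁S) (hdeg₁ χ₁ hχ₁)
  · exact Set.union_subset (above_subset_bot K K₁) (fun a ha => ha.1)
  · rintro a (ha | ha)
    · exact Or.inl (conj_mem_above K K₁ ha)
    · exact Or.inr (conj_mem_diff_above K Z ha)

end assembly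

end Cfsg.Agent.Lib.Helper4.Sib
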