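import Mathlib
import Cfsg.Prelude.Def_OddOrderChar
import Cfsg.Prelude.Def_OddOrderLocal
import Cfsg.Agent.Lib.Helper4.Sib6
import Cfsg.Agent.Lib.Helper25.CN1

/-!
# Sylow TI subgroups with self-centralizing elements: the Frobenius package and a dictionary
-/

set_option autoImplicit false

namespace Cfsg.Agent.Lib.Helper4.Sib

open Cfsg Cfsg.Agent.Lib.Helper26 Cfsg.Agent.Lib.Helper25
open scoped ComplexConjugate

/-- A subgroup normalized by an involution acting without fixed points is abelian. -/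
theorem abelian_of_fpf_invol {G : Type*} [Group G] [Finite G] (R : Subgroup G) (y : G)
    (hyy : y * y = 1) (hyR : ∀ r ∈ R, y * r * y⁻¹ ∈ R)
    (hfpf : ∀ r ∈ R, y * r = r * y → r = 1) : ∀ a ∈ R, ∀ b ∈ R, a * b = b * a := by
  have hyinv : y⁻¹ = y := inv_eq_of_mul_eq_one_left hyy
  let φ : R → R := fun r => ⟨(r : G)⁻¹ * (y * r * y⁻¹), R.mul_mem (R.inv_mem r.2) (hyR r r.2)⟩
  have hinj : Function.Injective φ := by
    intro r s hrs
    have h1 : (r : G)⁻¹ * (y * r * y⁻¹) = (s : G)⁻¹ * (y * s * y⁻¹) := congrArg Subtype.val hrs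
    have e : (r : G)⁻¹ * y * r = (s : G)⁻¹ * y * s := by
      have h2 := congrArg (· * y) h1
      simpa [mul_assoc] using h2
    have h2 : y * ((s : G) * (r : G)⁻¹) = (s : G) * (r : G)⁻¹ * y := by
      calc y * ((s : G) * (r : G)⁻¹) = s * ((s : G)⁻¹ * y * s) * (r : G)⁻¹ := by group
        _ = s * ((r : G)⁻¹ * y * r) * (r : G)⁻¹ := by rw [e]
        _ = (s : G) * (r : G)⁻¹ * y := by group
    have h3 := hfpf _ (R.mul_mem s.2 (R.inv_mem r.2)) h2
    apply Subtype.ext
    exact (mul_inv_eq_one.mp h3).symm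
  have hsurj : Function.Surjective φ := Finite.injective_iff_surjective.mp hinj
  have hinv : ∀ t ∈ R, y * t * y⁻¹ = t⁻¹ := by
    intro t ht
    obtain ⟨r, hr⟩ := hsurj ⟨t, ht⟩
    have h1 : t = (r : G)⁻¹ * (y * r * y⁻¹) := (congrArg Subtype.val hr).symm
    rw [h1, hyinv]
    have e1 : y * ((r : G)⁻¹ * (y * (r : G) * y)) * y = y * (r : G)⁻¹ * y * r * (y * y) := by
      group
    rw [e1, hyy, mul_one]
    have e2 : ((r : G)⁻¹ * (y * (r : G) * y))⁻¹ = y⁻¹ * (r : G)⁻¹ * y⁻¹ * r := by group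
    rw [e2, hyinv]
  intro a ha b hb
  have h1 := hinv (a * b) (R.mul_mem ha hb)
  have h2 : y * (a * b) * y⁻¹ = (y * a * y⁻¹) * (y * b * y⁻¹) := by group
  rw [h2, hinv a ha, hinv b hb] at h1
  have h3 : (a⁻¹ * b⁻¹)⁻¹ = ((a * b)⁻¹)⁻¹ := by rw [h1]
  rw [inv_inv, mul_inv_rev, inv_inv, inv_inv] at h3
  exact h3.symm

/-- If the non-identity elements of the odd-order subgroup `H` have their centralizers inside
`H`, then the normalizer of `H` has odd order or `H` is abelian. -/
theorem tifn_odd_or_abelian {G : Type*} [Group G] [Finite G] (H : Subgroup G)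
    (hHodd : Odd (Nat.card H))
    (hC : ∀ k ∈ H, k ≠ 1 → Subgroup.centralizer ({k} : Set G) ≤ H) :
    Odd (Nat.card (Subgroup.normalizer (H : Set G))) ∨ ∀ a ∈ H, ∀ b ∈ H, a * b = b * a := by
  by_cases hodd : Odd (Nat.card (Subgroup.normalizer (H : Set G)))
  · exact Or.inl hodd
  right
  have heven : 2 ∣ Nat.card (Subgroup.normalizer (H : Set G)) :=
    even_iff_two_dvd.mp (Nat.not_odd_iff_even.mp hodd)
  haveI : Fact (Nat.Prime 2) := ⟨Nat.prime_two⟩
  obtain ⟨t, ht⟩ := exists_prime_orderOf_dvd_card' 2 heven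
  have htt : (t : G) * (t : G) = 1 := by
    have h1 := pow_orderOf_eq_one t
    rw [ht, pow_two] at h1
    exact congrArg Subtype.val h1
  have htH : (t : G) ∉ H := by
    intro h
    have h1 : orderOf (⟨(t : G), h⟩ : H) ∣ Nat.card H := orderOf_dvd_natCard _
    rw [Subgroup.orderOf_mk, Subgroup.orderOf_coe, ht] at h1
    exact (Nat.not_even_iff_odd.mpr hHodd) (even_iff_two_dvd.mpr h1)
  apply abelian_of_fpf_invol H (t : G) htt
  · intro r hr
    exact (Subgroup.mem_normalizer_iff.mp t.2 r).mp hr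
  · intro r hr hcomm
    by_contra hr1
    apply htH
    apply hC r hr hr1
    rw [Subgroup.mem_centralizer_singleton_iff]
    exact hcomm

section dict

variable {G : Type*} [Group G] [Fintype G] (H L : Subgroup G) [Fintype L]

omit [Fintype G] in
/-- The irreducible characters of `L` not constant on `Z ≤ H`, as a difference of induced
families. -/
theorem tifn_set_eq [hKn : (H.subgroupOf L).Normal]
    (hirrInd : ∀ θ : H.subgroupOf L → ℂ, IsIrrCharacter (H.subgroupOf L) θ → θ ≠ (fun _ => 1) →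
      IsIrrCharacter L (indFun (H.subgroupOf L) θ))
    (Z : Subgroup G) (hZH : Z ≤ H) [hZn : (Z.subgroupOf L).Normal] :
    {χ : L → ℂ | IsIrrCharacter L χ ∧ ∃ z : L, (z : G) ∈ Z ∧ χ z ≠ χ 1} =
      inducedIrrAbove (H.subgroupOf L) ⊥ \ inducedIrrAbove (H.subgroupOf L) (Z.subgroupOf L) := by
  ext a
  have hZK : Z.subgroupOf L ≤ H.subgroupOf L :=
    fun x hx => Subgroup.mem_subgroupOf.mpr (hZH (Subgroup.mem_subgroupOf.mp hx))
  rw [Set.mem_setOf_eq, Set.mem_diff, above_iff (H.subgroupOf L) hirrInd ⊥ bot_le a,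
    above_iff (H.subgroupOf L) hirrInd (Z.subgroupOf L) hZK a]
  constructor
  · rintro ⟨h1, z, hz, hne⟩
    have h5 : ¬ ∀ x ∈ H.subgroupOf L, a x = a 1 :=
      fun h => hne (h z (Subgroup.mem_subgroupOf.mpr (hZH hz)))
    exact ⟨⟨h1, fun x hx => by rw [Subgroup.mem_bot.mp hx], h5⟩,
      fun h => hne (h.2.1 z (Subgroup.mem_subgroupOf.mpr hz))⟩
  · rintro ⟨⟨h1, -, h3⟩, h4⟩
    refine ⟨h1, ?_⟩
    by_contra hcon
    push Not at hcon
    exact h4 ⟨h1, fun x hx => hcon x (Subgroup.mem_subgroupOf.mp hx), h3⟩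

omit [Fintype G] in
/-- The irreducible characters of `L` not constant on `H`, as an induced family. -/
theorem tifn_set_eq_bot [hKn : (H.subgroupOf L).Normal]
    (hirrInd : ∀ θ : H.subgroupOf L → ℂ, IsIrrCharacter (H.subgroupOf L) θ → θ ≠ (fun _ => 1) →
      IsIrrCharacter L (indFun (H.subgroupOf L) θ)) :
    {χ : L → ℂ | IsIrrCharacter L χ ∧ ∃ z : L, (z : G) ∈ H ∧ χ z ≠ χ 1} =
      inducedIrrAbove (H.subgroupOf L) ⊥ := by
  ext a
  rw [Set.mem_setOf_eq, above_iff (H.subgroupOf L) hirrInd ⊥ bot_le a]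
  constructor
  · rintro ⟨h1, z, hz, hne⟩
    exact ⟨h1, fun x hx => by rw [Subgroup.mem_bot.mp hx],
      fun h => hne (h z (Subgroup.mem_subgroupOf.mpr hz))⟩
  · rintro ⟨h1, -, h3⟩
    refine ⟨h1, ?_⟩
    by_contra hcon
    push Not at hcon
    exact h3 (fun x hx => hcon x (Subgroup.mem_subgroupOf.mp hx))

end dict

section center

variable {G : Type*} [Group G] [Fintype G] (H : Subgroup G)
  [Fintype (Subgroup.normalizer (H : Set G))]

/-- Coherence of the characters of the normalizer nontrivial on a central subgroup of a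
nonabelian TI `p`-subgroup with self-centralizing elements. -/
theorem tifn_center_coherent (p m : ℕ) (hp : p.Prime) (hp2 : p ≠ 2) (hcard : Nat.card H = p ^ m)
    (hna : ¬ ∀ a ∈ H, ∀ b ∈ H, a * b = b * a)
    (hTI : IsTISubset (H : Set G)) (hlt : H < Subgroup.normalizer (H : Set G))
    (hC : ∀ k ∈ H, k ≠ 1 → Subgroup.centralizer ({k} : Set G) ≤ H)
    (Z : Subgroup G) (hZ1 : Z ≠ ⊥) (hZP : ∀ z ∈ Z, z ∈ H ∧ ∀ y ∈ H, z * y = y * z)
    (hZn : ∀ x ∈ Subgroup.normalizer (H : Set G), ∀ z ∈ Z, x * z * x⁻¹ ∈ Z) :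
    IsCoherent {χ : ↥(Subgroup.normalizer (H : Set G)) → ℂ |
        IsIrrCharacter ↥(Subgroup.normalizer (H : Set G)) χ ∧
        ∃ z : ↥(Subgroup.normalizer (H : Set G)), (z : G) ∈ Z ∧ χ z ≠ χ 1} {1}ᶜ
      (fun α => indFun (Subgroup.normalizer (H : Set G)) α) := by
  classical
  haveI : Fact p.Prime := ⟨hp⟩
  have hHL : H ≤ Subgroup.normalizer (H : Set G) := Subgroup.le_normalizer
  have hH1 : H ≠ ⊥ := by
    intro h
    apply hna
    intro a ha b hb
    rw [h, Subgroup.mem_bot] at ha hb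
    rw [ha, hb]
  have hHodd : Odd (Nat.card H) := by
    rw [hcard]
    exact Odd.pow (hp.odd_of_ne_two hp2)
  have hodd : Odd (Nat.card (Subgroup.normalizer (H : Set G))) :=
    (tifn_odd_or_abelian H hHodd hC).resolve_right hna
  obtain ⟨W, hWL, hW1, hinf, hsup, hfpf⟩ := sector_complement H hlt
    (fun h hh hh1 => inf_le_right.trans (hC h hh hh1))
  haveI hKn : (H.subgroupOf (Subgroup.normalizer (H : Set G))).Normal :=
    Subgroup.normal_in_normalizer
  have hnil : Group.IsNilpotent H := (IsPGroup.of_card hcard).isNilpotent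
  obtain ⟨hcent, hKnil, hK₁lt, hKL⟩ :=
    frob_setup H (Subgroup.normalizer (H : Set G)) W hHL hWL hH1 hW1 hnil hinf hsup hfpf
  have hirrInd : ∀ θ : H.subgroupOf (Subgroup.normalizer (H : Set G)) → ℂ,
      IsIrrCharacter (H.subgroupOf (Subgroup.normalizer (H : Set G))) θ → θ ≠ (fun _ => 1) →
      IsIrrCharacter (Subgroup.normalizer (H : Set G))
        (indFun (H.subgroupOf (Subgroup.normalizer (H : Set G))) θ) :=
    fun θ hθ hθ1 => frob_induced_irr H _ W hHL hWL hinf hsup hfpf hθ hθ1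
  obtain ⟨R, hsys⟩ := frob_coherenceSystem H (Subgroup.normalizer (H : Set G)) W hodd hHL hWL
    hH1 hW1 hinf hsup hfpf hTI rfl
  have hKH : H.subgroupOf (Subgroup.normalizer (H : Set G)) ≃* H :=
    Subgroup.subgroupOfEquivOfLe hHL
  have hKcard : Nat.card (H.subgroupOf (Subgroup.normalizer (H : Set G))) = p ^ m := by
    rw [Nat.card_congr hKH.toEquiv, hcard]
  have hZH : Z ≤ H := fun z hz => (hZP z hz).1
  haveI hZ'n : (Z.subgroupOf (Subgroup.normalizer (H : Set G))).Normal :=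
    normal_subgroupOf_of_conj Z _ hZn
  have hZK : Z.subgroupOf (Subgroup.normalizer (H : Set G)) ≤
      H.subgroupOf (Subgroup.normalizer (H : Set G)) :=
    fun x hx => Subgroup.mem_subgroupOf.mpr (hZH (Subgroup.mem_subgroupOf.mp hx))
  have hZc : ∀ z ∈ Z.subgroupOf (Subgroup.normalizer (H : Set G)),
      ∀ k ∈ H.subgroupOf (Subgroup.normalizer (H : Set G)), z * k = k * z := by
    intro z hz k hk
    exact Subtype.ext ((hZP z (Subgroup.mem_subgroupOf.mp hz)).2 k (Subgroup.mem_subgroupOf.mp hk))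
  have hZ'1 : Z.subgroupOf (Subgroup.normalizer (H : Set G)) ≠ ⊥ := by
    intro h
    apply hZ1
    rw [eq_bot_iff]
    intro z hz
    have h1 : (⟨z, hHL (hZH hz)⟩ : Subgroup.normalizer (H : Set G)) ∈
        Z.subgroupOf (Subgroup.normalizer (H : Set G)) := Subgroup.mem_subgroupOf.mpr hz
    rw [h, Subgroup.mem_bot] at h1
    exact congrArg Subtype.val h1
  have he : (H.subgroupOf (Subgroup.normalizer (H : Set G))).index ∣
      Nat.card (Z.subgroupOf (Subgroup.normalizer (H : Set G))) - 1 := by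
    apply frob_count (H.subgroupOf (Subgroup.normalizer (H : Set G)))
      (Z.subgroupOf (Subgroup.normalizer (H : Set G)))
    intro z hz hz1
    ext x
    rw [Subgroup.mem_centralizer_iff]
    constructor
    · intro h
      exact hcent z (hZK hz) hz1 x (h z rfl).symm
    · intro hx y hy
      rw [Set.mem_singleton_iff.mp hy]
      exact hZc z hz x hx
  have hp3 : 3 ≤ p := by
    have := hp.two_le
    omega
  have hirrS : ∀ χ ∈ inducedIrrAbove (H.subgroupOf (Subgroup.normalizer (H : Set G))) ⊥,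
      IsIrrCharacter (Subgroup.normalizer (H : Set G)) χ :=
    frob_above_irr H _ W hHL hWL hinf hsup hfpf ⊥
  have hcoh := coherent_diff_pgroup (H.subgroupOf (Subgroup.normalizer (H : Set G))) hsys
    (Z.subgroupOf (Subgroup.normalizer (H : Set G))) hZK hZc (fun χ hχ => hirrS χ hχ.1) hp hp3
    hKcard hZ'1 he
  rw [tifn_set_eq H (Subgroup.normalizer (H : Set G)) hirrInd Z hZH]
  exact hcoh

end center

end Cfsg.Agent.Lib.Helper4.Sib
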