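import Mathlib
import Cfsg.Prelude.Def_OddOrderChar
import Cfsg.Prelude.Def_OddOrderLocal
import Cfsg.Agent.Lib.Helper4.Sib7
import Cfsg.Agent.Lib.Helper3.BrauerIdeal
import Cfsg.Agent.Lib.Helper82.AbelianSylow
import Cfsg.Agent.S0170
import Cfsg.Agent.S1524

/-!
# Sibley's theorem for a Sylow TI subgroup: the case of an abelian kernel
-/

set_option autoImplicit false

namespace Cfsg.Agent.Lib.Helper4.Sib

open Cfsg Cfsg.Agent.Lib.Helper26 Cfsg.Agent.Lib.Helper25
open scoped ComplexConjugate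

section exceptional

variable {G : Type*} [Group G] [Fintype G] (X : Set G) [Fintype (Subgroup.normalizer X)]

/-- Coherence of a family of at least two irreducible characters of equal degree of the normalizer
of a TI set, vanishing off that set. -/
theorem coherent_of_exceptional (hXN : X ⊆ Subgroup.normalizer X)
    (hTI : ∀ g : G, g ∉ Subgroup.normalizer X → ∀ s ∈ X, g * s * g⁻¹ ∈ X → s = 1)
    (F : Finset (Subgroup.normalizer X → ℂ)) (hF2 : 2 ≤ F.card)
    (hirr : ∀ a ∈ F, IsIrrCharacter (Subgroup.normalizer X) a)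
    (hvan : ∀ a ∈ F, ∀ x : Subgroup.normalizer X, (x : G) ∉ X → a x = 0)
    (hdeg : ∀ a ∈ F, ∀ b ∈ F, a 1 = b 1) :
    IsCoherent (↑F : Set (Subgroup.normalizer X → ℂ)) {1}ᶜ
      (fun α => indFun (Subgroup.normalizer X) α) := by
  classical
  let e : F ≃ Fin F.card := F.equivFin
  let χ : Fin F.card → (Subgroup.normalizer X → ℂ) :=
    fun i => ((e.symm i : F) : Subgroup.normalizer X → ℂ)
  have hχF : ∀ i, χ i ∈ F := fun i => (e.symm i).2
  have hχinj : Function.Injective χ := fun i j h => e.symm.injective (Subtype.ext h)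
  obtain ⟨ε, hε, θ, hθirr, hθinj, hdiff⟩ := Cfsg.Agent.S0170.result X hXN hTI F.card hF2 χ
    (fun i => hirr _ (hχF i)) hχinj (fun i => hvan _ (hχF i))
    (fun i j => hdeg _ (hχF i) _ (hχF j))
  let T : (Subgroup.normalizer X → ℂ) → (G → ℂ) :=
    fun a => if h : a ∈ F then ε • θ (e ⟨a, h⟩) else 0
  have hT : ∀ i, T (χ i) = ε • θ i := by
    intro i
    show (if h : χ i ∈ F then ε • θ (e ⟨χ i, h⟩) else 0) = ε • θ i
    rw [dif_pos (hχF i)]
    have h1 : e ⟨χ i, hχF i⟩ = i := e.apply_symm_apply i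
    rw [h1]
  have hsurj : ∀ a ∈ F, ∃ i, χ i = a := by
    intro a ha
    refine ⟨e ⟨a, ha⟩, ?_⟩
    show ((e.symm (e ⟨a, ha⟩) : F) : Subgroup.normalizer X → ℂ) = a
    rw [e.symm_apply_apply]
  have hεε : ε * (starRingEnd ℂ) ε = 1 := by
    rcases hε with rfl | rfl <;> simp
  have horth : ∀ a ∈ F, ∀ b ∈ F, a ≠ b → classInner a b = 0 :=
    fun a ha b hb hab => classInner_irr_ne (hirr a ha) (hirr b hb) hab
  have hnorm : ∀ a ∈ F, classInner a a ≠ 0 := by
    intro a ha
    rw [classInner_irr_self (hirr a ha)]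
    exact one_ne_zero
  have hTinner : ∀ a ∈ F, ∀ b ∈ F, classInner (T a) (T b) = classInner a b := by
    intro a ha b hb
    obtain ⟨i, rfl⟩ := hsurj a ha
    obtain ⟨j, rfl⟩ := hsurj b hb
    rw [hT, hT, classInner_smul_left, classInner_smul_right, ← mul_assoc, hεε, one_mul]
    by_cases hij : i = j
    · subst hij
      rw [classInner_irr_self (hθirr i), classInner_irr_self (hirr _ (hχF i))]
    · rw [classInner_irr_ne (hθirr i) (hθirr j) (fun h => hij (hθinj h)),
        classInner_irr_ne (hirr _ (hχF i)) (hirr _ (hχF j)) (fun h => hij (hχinj h))]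
  have hTgen : ∀ a ∈ F, IsGeneralizedCharacter G (T a) := by
    intro a ha
    obtain ⟨i, rfl⟩ := hsurj a ha
    rw [hT]
    rcases hε with rfl | rfl
    · rw [one_smul]; exact isGen_of_irr (hθirr i)
    · rw [neg_one_smul]; exact isGen_neg (isGen_of_irr (hθirr i))
  have hTdiff : ∀ a ∈ F, ∀ b ∈ F,
      indFun (Subgroup.normalizer X) a - indFun (Subgroup.normalizer X) b = T a - T b := by
    intro a ha b hb
    obtain ⟨i, rfl⟩ := hsurj a ha
    obtain ⟨j, rfl⟩ := hsurj b hb
    rw [hT, hT, hdiff i j, smul_sub]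
  obtain ⟨a₁, ha₁, a₂, ha₂, hne12⟩ := Finset.one_lt_card.mp hF2
  refine ⟨⟨a₁ - a₂, ?_, sub_ne_zero.mpr hne12⟩, extMap F T,
    extMap_isometry horth hnorm T hTinner hTgen, ?_⟩
  · rw [mem_zspanOn_one]
    refine ⟨Submodule.sub_mem _ (Submodule.subset_span (Finset.mem_coe.mpr ha₁))
      (Submodule.subset_span (Finset.mem_coe.mpr ha₂)), ?_⟩
    rw [Pi.sub_apply, hdeg a₁ ha₁ a₂ ha₂, sub_self]
  · intro α hα
    rw [mem_zspanOn_one] at hα
    obtain ⟨hα1, hα0⟩ := hα
    obtain ⟨f, rfl⟩ := mem_zspan_finset.mp hα1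
    rw [extMap_comb horth hnorm T f]
    have hd0 : a₁ 1 ≠ 0 := by
      obtain ⟨d, hd, hd'⟩ := irr_degree (hirr a₁ ha₁)
      rw [hd']
      exact_mod_cast hd.ne'
    have hsum0 : ∑ a ∈ F, (f a : ℂ) = 0 := by
      have h1 : ∑ a ∈ F, (f a : ℂ) * a₁ 1 = 0 := by
        rw [← hα0, Finset.sum_apply]
        refine Finset.sum_congr rfl (fun a ha => ?_)
        rw [zsmul_apply', hdeg a ha a₁ ha₁]
      rw [← Finset.sum_mul] at h1
      exact (mul_eq_zero.mp h1).resolve_right hd0
    show ∑ a ∈ F, f a • T a = indFun (Subgroup.normalizer X) (∑ a ∈ F, f a • a)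
    rw [Cfsg.Agent.Lib.Helper3.indFun_sum]
    have h2 : ∀ a ∈ F, indFun (Subgroup.normalizer X) (f a • a) =
        f a • T a + (f a : ℂ) • (indFun (Subgroup.normalizer X) a₁ - T a₁) := by
      intro a ha
      have h3 := hTdiff a ha a₁ ha₁
      have h4 : indFun (Subgroup.normalizer X) a =
          T a + (indFun (Subgroup.normalizer X) a₁ - T a₁) := by
        rw [← sub_eq_zero]
        have h5 : indFun (Subgroup.normalizer X) a - (T a + (indFun (Subgroup.normalizer X) a₁
            - T a₁)) = (indFun (Subgroup.normalizer X) a - indFun (Subgroup.normalizer X) a₁)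
            - (T a - T a₁) := by abel
        rw [h5, h3, sub_self]
      rw [zsmul_eq_smul, Cfsg.Agent.Lib.Helper3.indFun_smul, h4, smul_add, zsmul_eq_smul]
    rw [Finset.sum_congr rfl h2, Finset.sum_add_distrib, ← Finset.sum_smul, hsum0, zero_smul,
      add_zero]

end exceptional

section count

variable {L : Type*} [Group L] [Fintype L] (K : Subgroup L) [hK : K.Normal]

/-- Counting the irreducible characters not trivial on `K` when they all have degree `[L:K]`. -/
theorem tifn_abelian_count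
    (hdeg : ∀ a ∈ irrKer (⊥ : Subgroup L) \ irrKer K, a 1 = (K.index : ℂ)) :
    (irrKer (⊥ : Subgroup L) \ irrKer K).card * K.index = Nat.card K - 1 := by
  classical
  have hsub : irrKer K ⊆ irrKer (⊥ : Subgroup L) := by
    intro a ha
    rw [mem_irrKer] at ha ⊢
    exact ⟨ha.1, fun x hx => by rw [Subgroup.mem_bot.mp hx]⟩
  have h1 := sum_irrKer (⊥ : Subgroup L) (1 : L)
  rw [if_pos (Subgroup.one_mem _), Subgroup.index_bot] at h1
  have h2 := sum_irrKer K (1 : L)
  rw [if_pos (Subgroup.one_mem _)] at h2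
  have h3 := Finset.sum_sdiff (f := fun a : L → ℂ => a 1 * a 1) hsub
  rw [h1, h2] at h3
  have h4 : ∑ a ∈ irrKer (⊥ : Subgroup L) \ irrKer K, a 1 * a 1 =
      ((irrKer (⊥ : Subgroup L) \ irrKer K).card : ℂ) * ((K.index : ℂ) * (K.index : ℂ)) := by
    rw [Finset.sum_congr rfl (fun a ha => by rw [hdeg a ha]), Finset.sum_const, nsmul_eq_mul]
  rw [h4] at h3
  have h5 := Subgroup.card_mul_index K
  have h6 : (irrKer (⊥ : Subgroup L) \ irrKer K).card * (K.index * K.index) + K.index =
      Nat.card K * K.index := by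
    rw [h5]
    exact_mod_cast h3
  have hpos : 0 < K.index := Nat.pos_of_ne_zero Subgroup.index_ne_zero_of_finite
  have h7 : ((irrKer (⊥ : Subgroup L) \ irrKer K).card * K.index + 1) * K.index =
      Nat.card K * K.index := by
    rw [← h6]; ring
  have h8 := Nat.eq_of_mul_eq_mul_right hpos h7
  omega

end count

section elementary

/-- If `H` is abelian of order `[N(H):H] + 1` with self-centralizing elements then `H` has
exponent `p` for each prime divisor `p` of its order. -/
theorem tifn_elementary {G : Type*} [Group G] [Finite G] (H : Subgroup G) (p : ℕ)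
    [Fact p.Prime] (hpH : p ∣ Nat.card H)
    (hab : ∀ a ∈ H, ∀ b ∈ H, a * b = b * a)
    (hC : ∀ k ∈ H, k ≠ 1 → Subgroup.centralizer ({k} : Set G) ≤ H)
    (hcard : Nat.card H = (H.subgroupOf (Subgroup.normalizer (H : Set G))).index + 1) :
    ∀ a ∈ H, a ^ p = 1 := by
  classical
  have hHL : H ≤ Subgroup.normalizer (H : Set G) := Subgroup.le_normalizer
  let Ω : Subgroup G :=
    { carrier := {y | y ∈ H ∧ y ^ p = 1}
      one_mem' := ⟨H.one_mem, one_pow p⟩
      mul_mem' := by
        rintro a b ⟨ha, ha'⟩ ⟨hb, hb'⟩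
        refine ⟨H.mul_mem ha hb, ?_⟩
        have hc : Commute a b := hab a ha b hb
        rw [hc.mul_pow, ha', hb', one_mul]
      inv_mem' := by
        rintro a ⟨ha, ha'⟩
        exact ⟨H.inv_mem ha, by rw [inv_pow, ha', inv_one]⟩ }
  have hΩmem : ∀ y, y ∈ Ω ↔ y ∈ H ∧ y ^ p = 1 := fun y => Iff.rfl
  have hΩH : Ω ≤ H := fun y hy => hy.1
  have hΩn : ∀ x ∈ Subgroup.normalizer (H : Set G), ∀ z ∈ Ω, x * z * x⁻¹ ∈ Ω := by
    intro x hx z hz
    refine ⟨(Subgroup.mem_normalizer_iff.mp hx z).mp hz.1, ?_⟩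
    rw [conj_pow, hz.2, mul_one, mul_inv_cancel]
  haveI hΩ'n : (Ω.subgroupOf (Subgroup.normalizer (H : Set G))).Normal :=
    normal_subgroupOf_of_conj Ω _ hΩn
  have he : (H.subgroupOf (Subgroup.normalizer (H : Set G))).index ∣
      Nat.card (Ω.subgroupOf (Subgroup.normalizer (H : Set G))) - 1 := by
    apply frob_count (H.subgroupOf (Subgroup.normalizer (H : Set G)))
      (Ω.subgroupOf (Subgroup.normalizer (H : Set G)))
    intro z hz hz1
    have hzH : (z : G) ∈ H := hΩH (Subgroup.mem_subgroupOf.mp hz)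
    ext x
    rw [Subgroup.mem_centralizer_iff]
    constructor
    · intro h
      have h1 := h z rfl
      rw [Subgroup.mem_subgroupOf]
      apply hC (z : G) hzH (fun h' => hz1 (Subtype.ext h'))
      rw [Subgroup.mem_centralizer_singleton_iff]
      exact (congrArg Subtype.val h1).symm
    · intro hx y hy
      rw [Set.mem_singleton_iff.mp hy]
      exact Subtype.ext (hab _ hzH _ (Subgroup.mem_subgroupOf.mp hx))
  have hΩcard : Nat.card (Ω.subgroupOf (Subgroup.normalizer (H : Set G))) = Nat.card Ω :=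
    Nat.card_congr (Subgroup.subgroupOfEquivOfLe (hΩH.trans hHL)).toEquiv
  rw [hΩcard] at he
  obtain ⟨h₀, hh₀⟩ := exists_prime_orderOf_dvd_card' p hpH
  have hΩ1 : 1 < Nat.card Ω := by
    rw [Subgroup.one_lt_card_iff_ne_bot]
    intro hbot
    have h1 : (h₀ : G) ∈ Ω := by
      refine ⟨h₀.2, ?_⟩
      have h2 := pow_orderOf_eq_one h₀
      rw [hh₀] at h2
      exact_mod_cast congrArg Subtype.val h2
    rw [hbot, Subgroup.mem_bot] at h1
    have h3 : h₀ = 1 := Subtype.ext h1
    rw [h3, orderOf_one] at hh₀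
    exact (Fact.out : p.Prime).one_lt.ne hh₀
  have h1 : (H.subgroupOf (Subgroup.normalizer (H : Set G))).index ≤ Nat.card Ω - 1 :=
    Nat.le_of_dvd (by omega) he
  have h2 : Nat.card H ≤ Nat.card Ω := by omega
  have h3 : Ω = H := Subgroup.eq_of_le_of_card_ge hΩH h2
  intro a ha
  rw [← h3] at ha
  exact ha.2

end elementary

section sibley

variable {G : Type*} [Group G] [Fintype G] (H : Subgroup G)
  [Fintype (Subgroup.normalizer (H : Set G))]

/-- Sibley's theorem for a TI `p`-subgroup with self-centralizing elements. -/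
theorem tifn_sibley (p m : ℕ) (hp : p.Prime) (hp2 : p ≠ 2) (hcard : Nat.card H = p ^ m)
    (hH1 : H ≠ ⊥)
    (hTI : IsTISubset (H : Set G)) (hlt : H < Subgroup.normalizer (H : Set G))
    (hC : ∀ k ∈ H, k ≠ 1 → Subgroup.centralizer ({k} : Set G) ≤ H) :
    (Nat.card {χ : ↥(Subgroup.normalizer (H : Set G)) → ℂ //
        IsIrrCharacter ↥(Subgroup.normalizer (H : Set G)) χ ∧
        ∃ x : ↥(Subgroup.normalizer (H : Set G)), (x : G) ∈ H ∧ χ x ≠ χ 1} = 1 ∧
      ((∀ a ∈ H, ∀ b ∈ H, a * b = b * a) ∧ ∀ a ∈ H, a ^ p = 1) ∧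
      Nat.card H = (H.subgroupOf (Subgroup.normalizer (H : Set G))).index + 1) ∨
    IsCoherent {χ : ↥(Subgroup.normalizer (H : Set G)) → ℂ |
        IsIrrCharacter ↥(Subgroup.normalizer (H : Set G)) χ ∧
        ∃ x : ↥(Subgroup.normalizer (H : Set G)), (x : G) ∈ H ∧ χ x ≠ χ 1} {1}ᶜ
      (fun α => indFun (Subgroup.normalizer (H : Set G)) α) := by
  classical
  haveI : Fact p.Prime := ⟨hp⟩
  have hHL : H ≤ Subgroup.normalizer (H : Set G) := Subgroup.le_normalizer
  have hHodd : Odd (Nat.card H) := by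
    rw [hcard]
    exact Odd.pow (hp.odd_of_ne_two hp2)
  obtain ⟨W, hWL, hW1, hinf, hsup, hfpf⟩ := sector_complement H hlt
    (fun h hh hh1 => inf_le_right.trans (hC h hh hh1))
  haveI hKn : (H.subgroupOf (Subgroup.normalizer (H : Set G))).Normal :=
    Subgroup.normal_in_normalizer
  have hnil : Group.IsNilpotent H := (IsPGroup.of_card hcard).isNilpotent
  have hirrInd : ∀ θ : H.subgroupOf (Subgroup.normalizer (H : Set G)) → ℂ,
      IsIrrCharacter (H.subgroupOf (Subgroup.normalizer (H : Set G))) θ → θ ≠ (fun _ => 1) →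
      IsIrrCharacter (Subgroup.normalizer (H : Set G))
        (indFun (H.subgroupOf (Subgroup.normalizer (H : Set G))) θ) :=
    fun θ hθ hθ1 => frob_induced_irr H _ W hHL hWL hinf hsup hfpf hθ hθ1
  have hset := tifn_set_eq_bot H (Subgroup.normalizer (H : Set G)) hirrInd
  have hHn : ∀ x ∈ Subgroup.normalizer (H : Set G), ∀ h ∈ H, x * h * x⁻¹ ∈ H :=
    fun x hx h hh => (Subgroup.mem_normalizer_iff.mp hx h).mp hh
  rcases tifn_odd_or_abelian H hHodd hC with hodd | hab
  · right
    rw [hset]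
    exact Cfsg.Agent.S1524.result H (Subgroup.normalizer (H : Set G)) W hodd hHL hWL hH1 hW1 hnil
      hHn hinf hsup hfpf hTI rfl
  · have hKH : H.subgroupOf (Subgroup.normalizer (H : Set G)) ≃* H :=
      Subgroup.subgroupOfEquivOfLe hHL
    have hKcard : Nat.card (H.subgroupOf (Subgroup.normalizer (H : Set G))) = Nat.card H :=
      Nat.card_congr hKH.toEquiv
    set F : Finset (↥(Subgroup.normalizer (H : Set G)) → ℂ) :=
      irrKer (⊥ : Subgroup ↥(Subgroup.normalizer (H : Set G))) \
        irrKer (H.subgroupOf (Subgroup.normalizer (H : Set G))) with hFdef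
    have hFS : (↑F : Set (↥(Subgroup.normalizer (H : Set G)) → ℂ)) =
        {χ : ↥(Subgroup.normalizer (H : Set G)) → ℂ |
          IsIrrCharacter ↥(Subgroup.normalizer (H : Set G)) χ ∧
          ∃ x : ↥(Subgroup.normalizer (H : Set G)), (x : G) ∈ H ∧ χ x ≠ χ 1} := by
      ext a
      rw [Finset.mem_coe, hFdef, Finset.mem_sdiff, mem_irrKer, mem_irrKer]
      constructor
      · rintro ⟨⟨h1, -⟩, h3⟩
        refine ⟨h1, ?_⟩
        by_contra hcon
        push Not at hcon
        exact h3 ⟨h1, fun x hx => hcon x (Subgroup.mem_subgroupOf.mp hx)⟩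
      · rintro ⟨h1, z, hz, hne⟩
        exact ⟨⟨h1, fun x hx => by rw [Subgroup.mem_bot.mp hx]⟩,
          fun h => hne (h.2 z (Subgroup.mem_subgroupOf.mpr hz))⟩
    have hFabove : ∀ a ∈ F, ∃ θ : H.subgroupOf (Subgroup.normalizer (H : Set G)) → ℂ,
        IsIrrCharacter (H.subgroupOf (Subgroup.normalizer (H : Set G))) θ ∧
        a = indFun (H.subgroupOf (Subgroup.normalizer (H : Set G))) θ := by
      intro a ha
      have h1 : a ∈ (↑F : Set (↥(Subgroup.normalizer (H : Set G)) → ℂ)) := Finset.mem_coe.mpr ha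
      rw [hFS, hset] at h1
      obtain ⟨θ, hθ, -, -, rfl⟩ := h1
      exact ⟨θ, hθ, rfl⟩
    have hirrF : ∀ a ∈ F, IsIrrCharacter ↥(Subgroup.normalizer (H : Set G)) a := by
      intro a ha
      rw [hFdef, Finset.mem_sdiff, mem_irrKer] at ha
      exact ha.1.1
    have hdeg : ∀ a ∈ F,
        a 1 = ((H.subgroupOf (Subgroup.normalizer (H : Set G))).index : ℂ) := by
      intro a ha
      obtain ⟨θ, hθ, rfl⟩ := hFabove a ha
      rw [indFun_apply_one]
      have h1 : θ 1 = 1 := by
        apply Cfsg.Agent.Lib.Helper82.irr_one_eq_one_of_comm _ hθ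
        intro x y
        exact Subtype.ext (Subtype.ext (hab _ (Subgroup.mem_subgroupOf.mp x.2) _
          (Subgroup.mem_subgroupOf.mp y.2)))
      rw [h1, mul_one]
    have hvan : ∀ a ∈ F, ∀ x : ↥(Subgroup.normalizer (H : Set G)),
        (x : G) ∉ (H : Set G) → a x = 0 := by
      intro a ha x hx
      obtain ⟨θ, hθ, rfl⟩ := hFabove a ha
      apply indFun_apply_of_notMem
      intro h
      exact hx (Subgroup.mem_subgroupOf.mp h)
    have hcount := tifn_abelian_count (H.subgroupOf (Subgroup.normalizer (H : Set G))) hdeg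
    rw [← hFdef, hKcard] at hcount
    by_cases h2 : 2 ≤ F.card
    · right
      rw [← hFS]
      exact coherent_of_exceptional (H : Set G) hHL hTI F h2 hirrF hvan
        (fun a ha b hb => by rw [hdeg a ha, hdeg b hb])
    · left
      have hH2 : 1 < Nat.card H := (Subgroup.one_lt_card_iff_ne_bot H).mpr hH1
      have hF1 : F.card = 1 := by
        have h0 : F.card ≠ 0 := by
          intro h0
          rw [h0, zero_mul] at hcount
          omega
        omega
      rw [hF1, one_mul] at hcount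
      have hcardH : Nat.card H =
          (H.subgroupOf (Subgroup.normalizer (H : Set G))).index + 1 := by omega
      refine ⟨?_, ⟨hab, ?_⟩, hcardH⟩
      · have h3 : Nat.card {χ : ↥(Subgroup.normalizer (H : Set G)) → ℂ //
            IsIrrCharacter ↥(Subgroup.normalizer (H : Set G)) χ ∧
            ∃ x : ↥(Subgroup.normalizer (H : Set G)), (x : G) ∈ H ∧ χ x ≠ χ 1} =
            Nat.card ↥(↑F : Set (↥(Subgroup.normalizer (H : Set G)) → ℂ)) := by
          rw [hFS]
          rfl
        rw [h3, Nat.card_coe_set_eq, Set.ncard_coe_finset, hF1]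
      · apply tifn_elementary H p _ hab hC hcardH
        have hm0 : m ≠ 0 := by
          rintro rfl
          rw [pow_zero] at hcard
          omega
        rw [hcard]
        exact dvd_pow_self p hm0

end sibley

end Cfsg.Agent.Lib.Helper4.Sib
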