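import Mathlib
import Cfsg.Agent.Lib.Helper4.CNSolv
import Cfsg.Agent.Lib.Helper9.CN
import Cfsg.Agent.Lib.Helper11.ThompsonOf
import Cfsg.Agent.Lib.Helper11.ThompsonSylow
import Cfsg.Agent.Lib.Helper55.Coprime2
import Cfsg.Agent.S0108
import Cfsg.Agent.S4216

/-!
# Three-step groups in minimal simple CN-groups of odd order

No subgroup of a minimal simple CN-group of odd order is a three-step group.
-/

set_option autoImplicit false
set_option linter.style.haveILetI false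

namespace Cfsg.Agent.Lib.Helper4.CN

open Cfsg

open scoped commutatorElement

universe u

/-- Elements of `pCore p X` have order dividing a power of `p` (for any natural number `p`). -/
theorem orderOf_dvd_of_mem_pCore {X : Type*} [Group X] (p : ℕ) {x : X}
    (hx : x ∈ Cfsg.pCore p X) : ∃ k, orderOf x ∣ p ^ k := by
  obtain ⟨k, hk⟩ := Cfsg.Agent.Lib.Helper84.pCore_isPGroup p X ⟨x, hx⟩
  refine ⟨k, orderOf_dvd_of_pow_eq_one ?_⟩
  have := congrArg Subtype.val hk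
  simpa using this

theorem eq_one_of_orderOf_dvd_coprime {X : Type*} [Group X] {p m k : ℕ} {x : X}
    (h1 : orderOf x ∣ p ^ k) (h2 : orderOf x ∣ m) (hcop : m.Coprime p) : x = 1 := by
  rw [← orderOf_eq_one_iff]
  exact Nat.eq_one_of_dvd_coprimes (Nat.Coprime.pow_right k hcop) h2 h1

/-- A nilpotent group is not a three-step group. -/
theorem not_threeStep_of_nilpotent {X : Type*} [Group X] [Finite X] (hnil : Group.IsNilpotent X)
    (p : ℕ) : ¬ Cfsg.IsThreeStepGroup p X := by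
  rintro ⟨hQ, A, hA, -, -, hcop, -, -, -, hfpf, -⟩
  obtain ⟨a, ha, ha1⟩ : ∃ a ∈ A, a ≠ 1 := by
    by_contra hcon
    apply hA
    rw [eq_bot_iff]
    intro a ha
    rw [Subgroup.mem_bot]
    by_contra ha1
    exact hcon ⟨a, ha, ha1⟩
  apply hQ
  rw [eq_bot_iff, ← hfpf a ha ha1]
  intro x hx
  refine Subgroup.mem_inf.2 ⟨hx, ?_⟩
  obtain ⟨k, hk⟩ := orderOf_dvd_of_mem_pCore p hx
  have hco : (orderOf x).Coprime (orderOf a) :=
    Nat.Coprime.coprime_dvd_left hk (Nat.Coprime.pow_left k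
      (Nat.Coprime.coprime_dvd_right (Subgroup.orderOf_dvd_natCard A ha) hcop.symm))
  haveI := hnil
  exact Subgroup.mem_centralizer_singleton_iff.2
    (Cfsg.Agent.Lib.Helper9.commute_of_coprime_orderOf_of_isNilpotent X x a hco)


theorem mem_of_pow_mem_coprime {X : Type*} [Group X] (H : Subgroup X) {v : X} {a b : ℕ}
    (hab : Nat.Coprime a b) (ha : v ^ a ∈ H) (hb : v ^ b ∈ H) : v ∈ H := by
  have h1 : (v ^ a) ^ (Nat.gcdA a b) * (v ^ b) ^ (Nat.gcdB a b) ∈ H :=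
    H.mul_mem (H.zpow_mem ha _) (H.zpow_mem hb _)
  have h2 : (v ^ a) ^ (Nat.gcdA a b) * (v ^ b) ^ (Nat.gcdB a b) = v := by
    rw [← zpow_natCast v a, ← zpow_natCast v b, ← zpow_mul, ← zpow_mul, ← zpow_add,
      ← Nat.gcd_eq_gcd_ab, hab.gcd_eq_one]
    simp
  rwa [h2] at h1

theorem orderOf_mk_dvd {X : Type*} [Group X] (N : Subgroup X) [N.Normal] (x : X) :
    orderOf (QuotientGroup.mk x : X ⧸ N) ∣ orderOf x := by
  apply orderOf_dvd_of_pow_eq_one
  rw [← QuotientGroup.mk_pow, pow_orderOf_eq_one]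
  rfl

/-- A normal nilpotent subgroup inside `Q ⋊ A` (fixed-point-free action of the `p'`-group `A` on
the normal `p`-subgroup `Q`) lies in `Q`. -/
theorem normal_nilpotent_le_core {X : Type*} [Group X] [Finite X] (p : ℕ) (Q A : Subgroup X)
    [Q.Normal] (hQp : ∀ x ∈ Q, ∃ k, orderOf x ∣ p ^ k) (hQne : Q ≠ ⊥)
    (hcop : (Nat.card A).Coprime p)
    (hfpf : ∀ a ∈ A, a ≠ 1 → Q ⊓ Subgroup.centralizer ({a} : Set X) = ⊥)
    (Y : Subgroup X) [Y.Normal] (hY : Group.IsNilpotent Y) (hYL : Y ≤ Q ⊔ A) : Y ≤ Q := by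
  intro y hy
  have h1 : y ∈ ((Q ⊔ A : Subgroup X) : Set X) := hYL hy
  rw [Subgroup.normal_mul] at h1
  obtain ⟨q, hq, b, hb, rfl⟩ := Set.mem_mul.1 h1
  by_cases hb1 : b = 1
  · rw [hb1, mul_one]; exact hq
  exfalso
  have hQn : Q.Normal := inferInstance
  have hYn : Y.Normal := inferInstance
  have hfix : ∀ w ∈ Q, w * b = b * w → w = 1 := by
    intro w hw hwb
    have h2 : w ∈ Q ⊓ Subgroup.centralizer ({b} : Set X) :=
      Subgroup.mem_inf.2 ⟨hw, Subgroup.mem_centralizer_singleton_iff.2 hwb⟩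
    rw [hfpf b hb hb1] at h2
    exact Subgroup.mem_bot.1 h2
  let φ : Q → Q := fun q₂ => ⟨(q₂ : X) * b * (q₂ : X)⁻¹ * b⁻¹, by
    have h2 : b * (q₂ : X)⁻¹ * b⁻¹ ∈ Q := hQn.conj_mem _ (Q.inv_mem q₂.2) b
    have h3 : (q₂ : X) * b * (q₂ : X)⁻¹ * b⁻¹ = (q₂ : X) * (b * (q₂ : X)⁻¹ * b⁻¹) := by group
    rw [h3]; exact Q.mul_mem q₂.2 h2⟩
  have hinj : Function.Injective φ := by
    intro q₂ q₃ h
    have h2 : (q₂ : X) * b * (q₂ : X)⁻¹ * b⁻¹ = (q₃ : X) * b * (q₃ : X)⁻¹ * b⁻¹ :=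
      congrArg Subtype.val h
    have h3 : ((q₃ : X)⁻¹ * (q₂ : X)) * b = b * ((q₃ : X)⁻¹ * (q₂ : X)) := by
      have h4 : (q₂ : X) * b * (q₂ : X)⁻¹ = (q₃ : X) * b * (q₃ : X)⁻¹ := by
        have := congrArg (fun t => t * b) h2
        simpa using this
      calc ((q₃ : X)⁻¹ * (q₂ : X)) * b = (q₃ : X)⁻¹ * ((q₂ : X) * b * (q₂ : X)⁻¹) * (q₂ : X) := by
            group
        _ = b * ((q₃ : X)⁻¹ * (q₂ : X)) := by rw [h4]; group
    have h5 := hfix _ (Q.mul_mem (Q.inv_mem q₃.2) q₂.2) h3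
    apply Subtype.ext
    calc (q₂ : X) = (q₃ : X) * ((q₃ : X)⁻¹ * (q₂ : X)) := by group
      _ = (q₃ : X) := by rw [h5, mul_one]
  obtain ⟨q₂, hq₂⟩ := (Finite.injective_iff_surjective.1 hinj) ⟨q, hq⟩
  have hq₂' : (q₂ : X) * b * (q₂ : X)⁻¹ * b⁻¹ = q := congrArg Subtype.val hq₂
  have hbY : b ∈ Y := by
    have h2 : (q₂ : X)⁻¹ * (q * b) * ((q₂ : X)⁻¹)⁻¹ ∈ Y := hYn.conj_mem _ hy _
    have h3 : (q₂ : X)⁻¹ * (q * b) * ((q₂ : X)⁻¹)⁻¹ = b := by
      rw [← hq₂']; group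
    rwa [h3] at h2
  have hall : ∀ q₁ ∈ Q, q₁ = 1 := by
    intro q₁ hq₁
    have hcY : q₁ * b * q₁⁻¹ * b⁻¹ ∈ Y := Y.mul_mem (hYn.conj_mem _ hbY q₁) (Y.inv_mem hbY)
    have hcQ : q₁ * b * q₁⁻¹ * b⁻¹ ∈ Q := by
      have h2 : b * q₁⁻¹ * b⁻¹ ∈ Q := hQn.conj_mem _ (Q.inv_mem hq₁) b
      have h3 : q₁ * b * q₁⁻¹ * b⁻¹ = q₁ * (b * q₁⁻¹ * b⁻¹) := by group
      rw [h3]; exact Q.mul_mem hq₁ h2
    obtain ⟨k, hk⟩ := hQp _ hcQ
    have hco : (orderOf (q₁ * b * q₁⁻¹ * b⁻¹)).Coprime (orderOf b) :=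
      Nat.Coprime.coprime_dvd_left hk (Nat.Coprime.pow_left k
        (Nat.Coprime.coprime_dvd_right (Subgroup.orderOf_dvd_natCard A hb) hcop.symm))
    have hcomm := Cfsg.Agent.S1477.comm_of_coprime hY hcY hbY hco
    have hc1 := hfix _ hcQ hcomm
    apply hfix q₁ hq₁
    calc q₁ * b = (q₁ * b * q₁⁻¹ * b⁻¹) * (b * q₁) := by group
      _ = b * q₁ := by rw [hc1, one_mul]
  exact hQne (eq_bot_iff.2 (fun q₁ hq₁ => Subgroup.mem_bot.2 (hall q₁ hq₁)))

/-- A non-nilpotent CN-group with a nontrivial normal nilpotent Hall subgroup is not a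
three-step group. -/
theorem not_threeStep_of_fittingHall {X : Type*} [Group X] [Finite X] (hCN : IsCNGroup X)
    (hnn : ¬ Group.IsNilpotent X) (hF1 : Cfsg.fittingHall X ≠ ⊥) (p : ℕ) :
    ¬ Cfsg.IsThreeStepGroup p X := by
  rintro ⟨hQ, A, hA, -, -, hcop, hLn, hLtop, ⟨n, hLidx⟩, hfpf, hfrob⟩
  obtain ⟨-, -, hquot⟩ := frobenius_of_normal_sylow hCN hnn hF1
  have hFnil := fittingHall_nilpotent X
  obtain ⟨Q, hQdef⟩ : ∃ Q : Subgroup X, Q = Cfsg.pCore p X := ⟨_, rfl⟩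
  rw [← hQdef] at hQ hLn hLtop hLidx hfpf hfrob
  haveI hQn : Q.Normal := by rw [hQdef]; infer_instance
  have hQp : ∀ x ∈ Q, ∃ k, orderOf x ∣ p ^ k := fun x hx =>
    orderOf_dvd_of_mem_pCore p (hQdef ▸ hx)
  haveI := hLn
  -- an element of prime order in `A`
  have hAcard : Nat.card A ≠ 1 := fun h => hA (Subgroup.card_eq_one.1 h)
  obtain ⟨r, hr, hrdvd⟩ := Nat.exists_prime_and_dvd hAcard
  haveI : Fact r.Prime := ⟨hr⟩
  obtain ⟨a', ha'⟩ := exists_prime_orderOf_dvd_card' r hrdvd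
  obtain ⟨a, haa⟩ : ∃ a : X, a = (a' : X) := ⟨_, rfl⟩
  have haA : a ∈ A := by rw [haa]; exact a'.2
  have hao : orderOf a = r := by rw [haa, Subgroup.orderOf_coe, ha']
  have ha1 : a ≠ 1 := by
    intro h
    rw [h, orderOf_one] at hao
    exact hr.one_lt.ne hao
  have hrp : r.Coprime p := Nat.Coprime.coprime_dvd_left hrdvd hcop
  -- an element outside `L` of order prime to `r`
  obtain ⟨x, hx⟩ : ∃ x : X, x ∉ Q ⊔ A := by
    by_contra hcon
    apply hLtop
    rw [eq_top_iff]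
    intro x _
    by_contra hx
    exact hcon ⟨x, hx⟩
  obtain ⟨j, m, hm, hjm⟩ := Nat.exists_eq_pow_mul_and_not_dvd (orderOf_pos x).ne' r
    hr.one_lt.ne'
  have hrm : (r ^ j).Coprime m := Nat.Coprime.pow_left j ((Nat.Prime.coprime_iff_not_dvd hr).2 hm)
  have hxm : x ^ m ∈ Q ⊔ A := by
    apply Cfsg.Agent.Lib.Helper1.mem_of_coprime_index
    rw [hLidx]
    apply Nat.Coprime.pow_right
    have h1 : orderOf (x ^ m) ∣ r ^ j := by
      apply orderOf_dvd_of_pow_eq_one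
      rw [← pow_mul, mul_comm, ← hjm, pow_orderOf_eq_one]
    exact Nat.Coprime.coprime_dvd_left h1 (Nat.Coprime.pow_left j hrp)
  have hx' : x ^ r ^ j ∉ Q ⊔ A := by
    intro h
    exact hx (mem_of_pow_mem_coprime _ hrm h hxm)
  have hx'o : orderOf (x ^ r ^ j) ∣ m := by
    apply orderOf_dvd_of_pow_eq_one
    rw [← pow_mul, ← hjm, pow_orderOf_eq_one]
  -- the commutator lies in `F ⊓ L ≤ Q`
  have hcF : x ^ r ^ j * a * (x ^ r ^ j)⁻¹ * a⁻¹ ∈ Cfsg.fittingHall X := by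
    haveI := hquot
    have hco : (orderOf (QuotientGroup.mk (x ^ r ^ j) : X ⧸ Cfsg.fittingHall X)).Coprime
        (orderOf (QuotientGroup.mk a : X ⧸ Cfsg.fittingHall X)) := by
      apply Nat.Coprime.coprime_dvd_left ((orderOf_mk_dvd (Cfsg.fittingHall X) _).trans hx'o)
      apply Nat.Coprime.coprime_dvd_right (orderOf_mk_dvd (Cfsg.fittingHall X) a)
      rw [hao]
      exact ((Nat.Prime.coprime_iff_not_dvd hr).2 hm).symm
    have h1 := Cfsg.Agent.Lib.Helper9.commute_of_coprime_orderOf_of_isNilpotent (X ⧸ Cfsg.fittingHall X) _ _ hco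
    rw [← QuotientGroup.eq_one_iff, QuotientGroup.mk_mul, QuotientGroup.mk_mul,
      QuotientGroup.mk_mul, QuotientGroup.mk_inv, QuotientGroup.mk_inv, h1]
    group
  have hcL : x ^ r ^ j * a * (x ^ r ^ j)⁻¹ * a⁻¹ ∈ Q ⊔ A := by
    have haL : a ∈ Q ⊔ A := (le_sup_right : A ≤ Q ⊔ A) haA
    exact Subgroup.mul_mem _ (hLn.conj_mem a haL _) (Subgroup.inv_mem _ haL)
  have hYnil : Group.IsNilpotent (Cfsg.fittingHall X ⊓ (Q ⊔ A) : Subgroup X) := nilpotent_of_le hFnil inf_le_left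
  have hle := normal_nilpotent_le_core p Q A hQp hQ hcop hfpf (Cfsg.fittingHall X ⊓ (Q ⊔ A)) hYnil inf_le_right
  exact hfrob _ hx' a haA ha1 (hle (Subgroup.mem_inf.2 ⟨hcF, hcL⟩))


/-- The three-step structure of a subgroup `N` of `G`, stated inside `G`. -/
structure IsTSIn (p : ℕ) {G : Type*} [Group G] (N Q K : Subgroup G) : Prop where
  Q_le : Q ≤ K
  K_le : K ≤ N
  Q_norm : ∀ n ∈ N, ∀ q ∈ Q, n * q * n⁻¹ ∈ Q
  K_norm : ∀ n ∈ N, ∀ k ∈ K, n * k * n⁻¹ ∈ K
  Q_pgroup : IsPGroup p Q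
  Q_max : ∀ T : Subgroup G, T ≤ N → IsPGroup p T → (∀ n ∈ N, ∀ t ∈ T, n * t * n⁻¹ ∈ T) → T ≤ Q
  Q_ne : Q ≠ ⊥
  cent : ∀ x ∈ N, (∀ q ∈ Q, q * x = x * q) → x ∈ Q
  K_ne : ∃ x ∈ N, x ∉ K
  pprime_mem : ∀ c ∈ N, (orderOf c).Coprime p → c ∈ K
  pelt_mem : ∀ x ∈ K, (∃ j, orderOf x = p ^ j) → x ∈ Q
  frob : ∀ x ∈ N, x ∉ K → ∀ a ∈ K, a ∉ Q → x * a * x⁻¹ * a⁻¹ ∉ Q
  comm_mem : ∀ x ∈ N, ∀ y ∈ N, x * y * x⁻¹ * y⁻¹ ∈ K
  ne_core : ∃ c ∈ K, c ∉ Q

theorem mem_map_subtype_iff {G : Type*} [Group G] {N : Subgroup G} (Q' : Subgroup N) (x : G) :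
    x ∈ Q'.map N.subtype ↔ ∃ hx : x ∈ N, (⟨x, hx⟩ : N) ∈ Q' := by
  constructor
  · rintro ⟨y, hy, rfl⟩
    exact ⟨y.2, hy⟩
  · rintro ⟨hx, h⟩
    exact ⟨⟨x, hx⟩, h, rfl⟩

theorem IsTS.toIn {G : Type*} [Group G] {p : ℕ} {N : Subgroup G} {Q' K' : Subgroup N}
    (h : IsTS p Q' K') : IsTSIn p N (Q'.map N.subtype) (K'.map N.subtype) := by
  have hQn : Q'.Normal := by rw [h.core_eq]; infer_instance
  have hKn : K'.Normal := h.normal
  refine ⟨Subgroup.map_mono h.core_le, Subgroup.map_subtype_le _, ?_, ?_, ?_, ?_, ?_, ?_, ?_, ?_,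
    ?_, ?_, ?_, ?_⟩
  · intro n hn q hq
    obtain ⟨hq1, hq2⟩ := (mem_map_subtype_iff Q' q).1 hq
    exact (mem_map_subtype_iff Q' _).2 ⟨N.mul_mem (N.mul_mem hn hq1) (N.inv_mem hn),
      hQn.conj_mem _ hq2 ⟨n, hn⟩⟩
  · intro n hn k hk
    obtain ⟨hk1, hk2⟩ := (mem_map_subtype_iff K' k).1 hk
    exact (mem_map_subtype_iff K' _).2 ⟨N.mul_mem (N.mul_mem hn hk1) (N.inv_mem hn),
      hKn.conj_mem _ hk2 ⟨n, hn⟩⟩
  · have h1 : IsPGroup p Q' := by
      rw [h.core_eq]; exact Cfsg.Agent.Lib.Helper84.pCore_isPGroup p _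
    exact h1.map N.subtype
  · intro T hTN hTp hTnorm
    have h1 : (T.subgroupOf N).Normal := by
      refine ⟨fun t ht n => ?_⟩
      rw [Subgroup.mem_subgroupOf] at ht ⊢
      exact hTnorm n n.2 t ht
    have h2 : IsPGroup p (T.subgroupOf N) :=
      hTp.comap_of_injective N.subtype N.subtype_injective
    have h3 : T.subgroupOf N ≤ Q' := by
      rw [h.core_eq]; exact Cfsg.Agent.Lib.Helper84.le_pCore h1 h2
    intro t ht
    exact (mem_map_subtype_iff Q' t).2 ⟨hTN ht, h3 (Subgroup.mem_subgroupOf.2 ht)⟩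
  · intro hbot
    apply h.core_ne
    rw [eq_bot_iff]
    intro q hq
    have h1 : (q : G) ∈ Q'.map N.subtype := (mem_map_subtype_iff Q' _).2 ⟨q.2, hq⟩
    rw [hbot, Subgroup.mem_bot] at h1
    exact Subgroup.mem_bot.2 (Subtype.ext h1)
  · intro x hx hcomm
    refine (mem_map_subtype_iff Q' x).2 ⟨hx, h.cent ?_⟩
    rw [Subgroup.mem_centralizer_iff]
    intro q hq
    exact Subtype.ext (hcomm q ((mem_map_subtype_iff Q' _).2 ⟨q.2, hq⟩))
  · have h1 : ∃ x : N, x ∉ K' := by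
      by_contra hcon
      apply h.ne_top
      rw [eq_top_iff]
      intro x _
      by_contra hx
      exact hcon ⟨x, hx⟩
    obtain ⟨x, hx⟩ := h1
    refine ⟨x, x.2, fun hmem => hx ?_⟩
    obtain ⟨_, h2⟩ := (mem_map_subtype_iff K' _).1 hmem
    exact h2
  · intro c hc hco
    refine (mem_map_subtype_iff K' c).2 ⟨hc, h.pprime_mem ⟨c, hc⟩ ?_⟩
    rw [← Subgroup.orderOf_coe]; exact hco
  · intro x hx ⟨j, hj⟩
    obtain ⟨hx1, hx2⟩ := (mem_map_subtype_iff K' x).1 hx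
    refine (mem_map_subtype_iff Q' x).2 ⟨hx1, h.pelt_mem _ hx2 ⟨j, ?_⟩⟩
    rw [← Subgroup.orderOf_coe]; exact hj
  · intro x hx hxK a ha haQ hmem
    obtain ⟨ha1, ha2⟩ := (mem_map_subtype_iff K' a).1 ha
    obtain ⟨_, h3⟩ := (mem_map_subtype_iff Q' _).1 hmem
    exact h.frob ⟨x, hx⟩ (fun h4 => hxK ((mem_map_subtype_iff K' x).2 ⟨hx, h4⟩)) ⟨a, ha1⟩ ha2
      (fun h4 => haQ ((mem_map_subtype_iff Q' a).2 ⟨ha1, h4⟩)) h3
  · intro x hx y hy
    exact (mem_map_subtype_iff K' _).2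
      ⟨N.mul_mem (N.mul_mem (N.mul_mem hx hy) (N.inv_mem hx)) (N.inv_mem hy),
        h.comm_mem ⟨x, hx⟩ ⟨y, hy⟩⟩
  · obtain ⟨c, hc, hcQ⟩ := h.ne_core
    refine ⟨c, (mem_map_subtype_iff K' _).2 ⟨c.2, hc⟩, fun hmem => hcQ ?_⟩
    obtain ⟨_, h2⟩ := (mem_map_subtype_iff Q' _).1 hmem
    exact h2

theorem IsTS.toTop {X : Type*} [Group X] {p : ℕ} {Q K : Subgroup X} (h : IsTS p Q K) :
    IsTSIn p ⊤ Q K := by
  have hQn : Q.Normal := by rw [h.core_eq]; infer_instance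
  have hKn : K.Normal := h.normal
  refine ⟨h.core_le, le_top, fun n _ q hq => hQn.conj_mem q hq n,
    fun n _ k hk => hKn.conj_mem k hk n, ?_, ?_, h.core_ne, ?_, ?_, fun c _ hc => h.pprime_mem c hc,
    h.pelt_mem, fun x _ hx a ha haQ => h.frob x hx a ha haQ, fun x _ y _ => h.comm_mem x y,
    h.ne_core⟩
  · rw [h.core_eq]; exact Cfsg.Agent.Lib.Helper84.pCore_isPGroup p _
  · intro T _ hTp hTnorm
    rw [h.core_eq]
    exact Cfsg.Agent.Lib.Helper84.le_pCore ⟨fun t ht n => hTnorm n (Subgroup.mem_top n) t ht⟩ hTp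
  · intro x _ hcomm
    apply h.cent
    rw [Subgroup.mem_centralizer_iff]
    exact hcomm
  · by_contra hcon
    apply h.ne_top
    rw [eq_top_iff]
    intro x _
    by_contra hx
    exact hcon ⟨x, Subgroup.mem_top x, hx⟩

namespace IsTSIn

variable {G : Type*} [Group G] [Finite G] {p : ℕ} [Fact p.Prime] {N Q K : Subgroup G}

theorem exists_pprime (h : IsTSIn p N Q K) :
    ∃ c ∈ K, c ∉ Q ∧ c ≠ 1 ∧ (orderOf c).Coprime p := by
  have hp : p.Prime := Fact.out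
  obtain ⟨a, ha, haQ⟩ := h.ne_core
  obtain ⟨j, m, hm, hjm⟩ := Nat.exists_eq_pow_mul_and_not_dvd (orderOf_pos a).ne' p
    hp.one_lt.ne'
  have hpm : (p ^ j).Coprime m := Nat.Coprime.pow_left j ((Nat.Prime.coprime_iff_not_dvd hp).2 hm)
  have h1 : orderOf (a ^ m) ∣ p ^ j := by
    apply orderOf_dvd_of_pow_eq_one
    rw [← pow_mul, mul_comm, ← hjm, pow_orderOf_eq_one]
  obtain ⟨i, -, hi⟩ := (Nat.dvd_prime_pow hp).1 h1
  have h2 : a ^ m ∈ Q := h.pelt_mem _ (K.pow_mem ha m) ⟨i, hi⟩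
  have h3 : a ^ p ^ j ∉ Q := fun h4 => haQ (mem_of_pow_mem_coprime Q hpm h4 h2)
  have h5 : orderOf (a ^ p ^ j) ∣ m := by
    apply orderOf_dvd_of_pow_eq_one
    rw [← pow_mul, ← hjm, pow_orderOf_eq_one]
  refine ⟨a ^ p ^ j, K.pow_mem ha _, h3, fun h6 => h3 (h6 ▸ Q.one_mem), ?_⟩
  exact Nat.Coprime.coprime_dvd_left h5 ((Nat.Prime.coprime_iff_not_dvd hp).2 hm).symm

theorem exists_pelt (h : IsTSIn p N Q K) : ∃ x ∈ N, x ∉ K ∧ ∃ i, orderOf x = p ^ i := by
  have hp : p.Prime := Fact.out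
  obtain ⟨x, hxN, hxK⟩ := h.K_ne
  obtain ⟨j, m, hm, hjm⟩ := Nat.exists_eq_pow_mul_and_not_dvd (orderOf_pos x).ne' p
    hp.one_lt.ne'
  have hpm : (p ^ j).Coprime m := Nat.Coprime.pow_left j ((Nat.Prime.coprime_iff_not_dvd hp).2 hm)
  have h5 : orderOf (x ^ p ^ j) ∣ m := by
    apply orderOf_dvd_of_pow_eq_one
    rw [← pow_mul, ← hjm, pow_orderOf_eq_one]
  have h6 : x ^ p ^ j ∈ K := h.pprime_mem _ (N.pow_mem hxN _)
    (Nat.Coprime.coprime_dvd_left h5 ((Nat.Prime.coprime_iff_not_dvd hp).2 hm).symm)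
  have h1 : orderOf (x ^ m) ∣ p ^ j := by
    apply orderOf_dvd_of_pow_eq_one
    rw [← pow_mul, mul_comm, ← hjm, pow_orderOf_eq_one]
  obtain ⟨i, -, hi⟩ := (Nat.dvd_prime_pow hp).1 h1
  exact ⟨x ^ m, N.pow_mem hxN m, fun h7 => hxK (mem_of_pow_mem_coprime K hpm h6 h7), i, hi⟩

theorem not_pclosed (h : IsTSIn p N Q K) :
    ¬ ∃ S : Subgroup G, IsPGroup p S ∧ ∀ x ∈ N, (∃ j, orderOf x = p ^ j) → x ∈ S := by
  rintro ⟨S, hSp, hS⟩
  obtain ⟨x, hxN, hxK, hxo⟩ := h.exists_pelt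
  obtain ⟨c, hcK, hcQ, hc1, hco⟩ := h.exists_pprime
  have hcN : c ∈ N := h.K_le hcK
  have h1 : x ∈ S := hS x hxN hxo
  have h2 : c * x⁻¹ * c⁻¹ ∈ S := by
    apply hS _ (N.mul_mem (N.mul_mem hcN (N.inv_mem hxN)) (N.inv_mem hcN))
    rw [Cfsg.Agent.S1477.orderOf_conj', orderOf_inv]
    exact hxo
  have h3 : x * c * x⁻¹ * c⁻¹ ∈ S := by
    have : x * c * x⁻¹ * c⁻¹ = x * (c * x⁻¹ * c⁻¹) := by group
    rw [this]; exact S.mul_mem h1 h2
  have h4 : x * c * x⁻¹ * c⁻¹ ∈ K := K.mul_mem (h.K_norm x hxN c hcK) (K.inv_mem hcK)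
  exact h.frob x hxN hxK c hcK hcQ (h.pelt_mem _ h4 (orderOf_of_mem_pgroup hSp h3))

/-- Monotonicity of the `p`-core along three-step subgroups. -/
theorem core_mono {N₁ Q₁ K₁ : Subgroup G} (h : IsTSIn p N Q K) (h₁ : IsTSIn p N₁ Q₁ K₁)
    (hle : N ≤ N₁) : Q ≤ Q₁ := by
  have hp : p.Prime := Fact.out
  intro y hy
  by_contra hyQ₁
  obtain ⟨c, hcK, hcQ, hc1, hco⟩ := h.exists_pprime
  have hcN : c ∈ N := h.K_le hcK
  have hyN : y ∈ N := h.K_le (h.Q_le hy)
  have hyK₁ : y ∉ K₁ := fun hk => hyQ₁ (h₁.pelt_mem y hk (orderOf_of_mem_pgroup h.Q_pgroup hy))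
  have hcK₁ : c ∈ K₁ := h₁.pprime_mem c (hle hcN) hco
  have hcQ₁ : c ∉ Q₁ := by
    intro hc
    obtain ⟨j, hj⟩ := orderOf_of_mem_pgroup h₁.Q_pgroup hc
    apply hc1
    rw [← orderOf_eq_one_iff]
    exact Nat.eq_one_of_dvd_coprimes (Nat.Coprime.pow_right j hco) (dvd_refl _) (hj ▸ dvd_refl _)
  have h2 : y * c * y⁻¹ * c⁻¹ ∈ Q := by
    have : y * c * y⁻¹ * c⁻¹ = y * (c * y⁻¹ * c⁻¹) := by group
    rw [this]; exact Q.mul_mem hy (h.Q_norm c hcN _ (Q.inv_mem hy))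
  have h3 : y * c * y⁻¹ * c⁻¹ ∈ K₁ :=
    K₁.mul_mem (h₁.K_norm y (hle hyN) c hcK₁) (K₁.inv_mem hcK₁)
  exact h₁.frob y (hle hyN) hyK₁ c hcK₁ hcQ₁
    (h₁.pelt_mem _ h3 (orderOf_of_mem_pgroup h.Q_pgroup h2))

end IsTSIn


/-- A finite nilpotent group has a normal `p`-complement. -/
theorem hasNormalPComplement_of_nilpotent {Y : Type*} [Group Y] [Finite Y]
    (hY : Group.IsNilpotent Y) (p : ℕ) [Fact p.Prime] : Cfsg.HasNormalPComplement p Y := by
  have hp : p.Prime := Fact.out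
  haveI := hY
  obtain ⟨P⟩ : Nonempty (Sylow p Y) := inferInstance
  haveI hPn : (P : Subgroup Y).Normal :=
    P.normal_of_normalizerCondition normalizerCondition_of_isNilpotent
  obtain ⟨H, hH⟩ := Subgroup.exists_right_complement'_of_coprime P.card_coprime_index
  have hHcard : Nat.card H = (P : Subgroup Y).index := hH.symm.index_eq_card.symm
  have hcomm : ∀ u ∈ (P : Subgroup Y), ∀ h ∈ H, u * h = h * u := by
    intro u hu h hh
    apply Cfsg.Agent.Lib.Helper9.commute_of_coprime_orderOf_of_isNilpotent Y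
    obtain ⟨j, hj⟩ := orderOf_of_mem_sylow P hu
    rw [hj]
    apply Nat.Coprime.pow_left
    apply Nat.Coprime.coprime_dvd_right (Subgroup.orderOf_dvd_natCard H hh)
    rw [hHcard]
    exact (Nat.Prime.coprime_iff_not_dvd hp).2 P.not_dvd_index
  have hHn : H.Normal := by
    refine ⟨fun h hh g => ?_⟩
    obtain ⟨⟨⟨u, hu⟩, ⟨h', hh'⟩⟩, hg⟩ := hH.2 g
    have hg' : u * h' = g := hg
    have h1 := hcomm u hu (h' * h * h'⁻¹) (H.mul_mem (H.mul_mem hh' hh) (H.inv_mem hh'))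
    have h2 : g * h * g⁻¹ = h' * h * h'⁻¹ := by
      rw [← hg']
      calc (u * h') * h * (u * h')⁻¹ = u * (h' * h * h'⁻¹) * u⁻¹ := by group
        _ = (h' * h * h'⁻¹) * u * u⁻¹ := by rw [h1]
        _ = h' * h * h'⁻¹ := by group
    rw [h2]
    exact H.mul_mem (H.mul_mem hh' hh) (H.inv_mem hh')
  exact ⟨P, H, hHn, hH.symm⟩

/-- In a three-step CN-group (`p` odd), the Thompson subgroup of a Sylow `p`-subgroup lies in
`O_p`. -/
theorem IsTS.J_le {X : Type u} [Group X] [Finite X] (hCN : IsCNGroup X) {p : ℕ} [Fact p.Prime]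
    (hp2 : p ≠ 2) {Q K : Subgroup X} (h : IsTS p Q K) (P : Sylow p X) :
    Cfsg.thompsonSubgroupOf p (P : Subgroup X) ≤ Q := by
  have hp : p.Prime := Fact.out
  have hI := h.toTop
  haveI hQn : Q.Normal := by rw [h.core_eq]; infer_instance
  haveI hKn : K.Normal := h.normal
  have hQp : IsPGroup p Q := hI.Q_pgroup
  obtain ⟨c₀, hc₀K, hc₀Q, hc₀1, hc₀o⟩ := hI.exists_pprime
  -- `X` has no normal `p`-complement
  have h1 : ¬ Cfsg.HasNormalPComplement p X := by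
    rintro ⟨P', Y, hYn, hY⟩
    have hYcard : Nat.card Y = (P' : Subgroup X).index := hY.index_eq_card.symm
    have hYcop : (Nat.card Y).Coprime p := by
      rw [hYcard]; exact ((Nat.Prime.coprime_iff_not_dvd hp).2 P'.not_dvd_index).symm
    have hYbot : ∀ y ∈ Y, y = 1 := by
      intro y hy
      have hcent : y ∈ Subgroup.centralizer (Q : Set X) := by
        rw [Subgroup.mem_centralizer_iff]
        intro q hq
        have hcY : y * q * y⁻¹ * q⁻¹ ∈ Y := by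
          have : y * q * y⁻¹ * q⁻¹ = y * (q * y⁻¹ * q⁻¹) := by group
          rw [this]; exact Y.mul_mem hy (hYn.conj_mem _ (Y.inv_mem hy) q)
        have hcQ : y * q * y⁻¹ * q⁻¹ ∈ Q := Q.mul_mem (hQn.conj_mem _ hq y) (Q.inv_mem hq)
        obtain ⟨j, hj⟩ := orderOf_of_mem_pgroup hQp hcQ
        have hc1 : y * q * y⁻¹ * q⁻¹ = 1 :=
          eq_one_of_orderOf_dvd_coprime (dvd_of_eq hj) (Subgroup.orderOf_dvd_natCard Y hcY)
            hYcop
        calc q * y = (y * q * y⁻¹ * q⁻¹)⁻¹ * (y * q) := by group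
          _ = y * q := by rw [hc1]; group
      have hyQ := h.cent hcent
      obtain ⟨j, hj⟩ := orderOf_of_mem_pgroup hQp hyQ
      exact eq_one_of_orderOf_dvd_coprime (dvd_of_eq hj) (Subgroup.orderOf_dvd_natCard Y hy)
        hYcop
    have hcard : Nat.card (P' : Subgroup X) = Nat.card X := by
      have h2 := hY.card_mul_card
      have h3 : Nat.card Y = 1 := by
        rw [Subgroup.card_eq_one, eq_bot_iff]
        intro y hy
        exact Subgroup.mem_bot.2 (hYbot y hy)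
      rw [h3, one_mul] at h2
      exact h2
    obtain ⟨k, hk⟩ := P'.isPGroup'.exists_card_eq
    apply hc₀1
    exact eq_one_of_orderOf_dvd_coprime (p := p) (k := k)
      (by rw [← hk, hcard]; exact orderOf_dvd_natCard c₀) (dvd_refl _) hc₀o
  -- the centralizer of `Z(P)` has one
  have hPne : (P : Subgroup X) ≠ ⊥ := by
    intro hb
    apply h.core_ne
    have := Cfsg.Agent.Lib.Helper84.pCore_le_sylow p P
    rw [← h.core_eq, hb] at this
    exact eq_bot_iff.2 this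
  obtain ⟨z, hzP, hz1, hzc⟩ := exists_central_sylow P hPne
  have h2 : Cfsg.HasNormalPComplement p (Subgroup.centralizer
      (((P : Subgroup X) ⊓ Subgroup.centralizer (P : Set X) : Subgroup X) : Set X)) := by
    apply hasNormalPComplement_of_nilpotent
    apply nilpotent_of_le (hCN z hz1)
    intro g hg
    rw [Subgroup.mem_centralizer_iff] at hg
    have hzmem : z ∈ ((P : Subgroup X) ⊓ Subgroup.centralizer (P : Set X) : Subgroup X) :=
      Subgroup.mem_inf.2 ⟨hzP, Subgroup.mem_centralizer_iff.2 (fun s hs => hzc s hs)⟩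
    exact Subgroup.mem_centralizer_singleton_iff.2 (hg z hzmem).symm
  have h3 : ¬ Cfsg.HasNormalPComplement p
      (Subgroup.normalizer (Cfsg.thompsonSubgroupOf p (P : Subgroup X) : Set X)) :=
    fun h4 => h1 ((Cfsg.Agent.S0108.result hp2 P).2 ⟨h4, h2⟩)
  -- a `p'`-element in the normalizer of `J(P)`
  obtain ⟨c, hcN, hc1, hco⟩ : ∃ c ∈ Subgroup.normalizer
      (Cfsg.thompsonSubgroupOf p (P : Subgroup X) : Set X), c ≠ 1 ∧ (orderOf c).Coprime p := by
    by_contra hcon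
    apply h3
    apply hasNormalPComplement_of_nilpotent
    apply IsPGroup.isNilpotent (p := p)
    rintro ⟨x, hx⟩
    obtain ⟨j, m, hm, hjm⟩ := Nat.exists_eq_pow_mul_and_not_dvd (orderOf_pos x).ne' p
      hp.one_lt.ne'
    refine ⟨j, Subtype.ext ?_⟩
    by_contra hne
    apply hcon
    have h5 : orderOf (x ^ p ^ j) ∣ m := by
      apply orderOf_dvd_of_pow_eq_one
      rw [← pow_mul, ← hjm, pow_orderOf_eq_one]
    exact ⟨x ^ p ^ j, Subgroup.pow_mem _ hx _, by simpa using hne,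
      Nat.Coprime.coprime_dvd_left h5 ((Nat.Prime.coprime_iff_not_dvd hp).2 hm).symm⟩
  have hcK : c ∈ K := h.pprime_mem c hco
  have hcQ : c ∉ Q := by
    intro hc
    obtain ⟨j, hj⟩ := orderOf_of_mem_pgroup hQp hc
    exact hc1 (eq_one_of_orderOf_dvd_coprime (dvd_of_eq hj) (dvd_refl _) hco)
  intro y hy
  by_contra hyQ
  have hyP : y ∈ (P : Subgroup X) := Cfsg.Agent.Lib.Helper11.thompsonSubgroupOf_le p _ hy
  have hyK : y ∉ K := fun hk => hyQ (h.pelt_mem y hk (orderOf_of_mem_sylow P hyP))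
  have hJ : y * c * y⁻¹ * c⁻¹ ∈ Cfsg.thompsonSubgroupOf p (P : Subgroup X) := by
    have : y * c * y⁻¹ * c⁻¹ = y * (c * y⁻¹ * c⁻¹) := by group
    rw [this]
    exact Subgroup.mul_mem _ hy ((Subgroup.mem_normalizer_iff.1 hcN y⁻¹).1 (Subgroup.inv_mem _ hy))
  have hP : y * c * y⁻¹ * c⁻¹ ∈ (P : Subgroup X) :=
    Cfsg.Agent.Lib.Helper11.thompsonSubgroupOf_le p _ hJ
  have hK : y * c * y⁻¹ * c⁻¹ ∈ K := K.mul_mem (hKn.conj_mem c hcK y) (K.inv_mem hcK)
  exact h.frob y hyK c hcK hcQ (h.pelt_mem _ hK (orderOf_of_mem_sylow P hP))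


/-! ### Three-step subgroups of an ambient group -/

/-- `N` is a three-step group with respect to `p` (structural form). -/
def TSin (p : ℕ) {G : Type*} [Group G] (N : Subgroup G) : Prop :=
  ∃ K' : Subgroup N, IsTS p (Cfsg.pCore p N) K'

/-- `O_p(N)` as a subgroup of the ambient group. -/
def coreOf (p : ℕ) {G : Type*} [Group G] (N : Subgroup G) : Subgroup G :=
  (Cfsg.pCore p N).map N.subtype

/-- `R` is a maximal `p`-subgroup of `N`. -/
def IsMaxP (p : ℕ) {G : Type*} [Group G] (R N : Subgroup G) : Prop :=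
  R ≤ N ∧ IsPGroup p R ∧ ∀ S : Subgroup G, S ≤ N → IsPGroup p S → R ≤ S → S = R

/-- The `p`-elements of `N` lie in a common `p`-subgroup. -/
def PClosedIn (p : ℕ) {G : Type*} [Group G] (N : Subgroup G) : Prop :=
  ∃ S : Subgroup G, IsPGroup p S ∧ ∀ x ∈ N, (∃ j, orderOf x = p ^ j) → x ∈ S

theorem TSin.isTSIn {G : Type*} [Group G] {p : ℕ} {N : Subgroup G} (h : TSin p N) :
    ∃ K : Subgroup G, IsTSIn p N (coreOf p N) K := by
  obtain ⟨K', hK'⟩ := h
  exact ⟨K'.map N.subtype, hK'.toIn⟩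

theorem le_normalizer_of_conj {G : Type*} [Group G] {N H : Subgroup G}
    (h : ∀ n ∈ N, ∀ t ∈ H, n * t * n⁻¹ ∈ H) : N ≤ Subgroup.normalizer (H : Set G) := by
  intro n hn
  rw [Subgroup.mem_normalizer_iff]
  intro t
  refine ⟨fun ht => h n hn t ht, fun ht => ?_⟩
  have := h n⁻¹ (N.inv_mem hn) _ ht
  simpa [mul_assoc] using this

theorem conj_of_le_normalizer {G : Type*} [Group G] {N H : Subgroup G}
    (h : N ≤ Subgroup.normalizer (H : Set G)) : ∀ n ∈ N, ∀ t ∈ H, n * t * n⁻¹ ∈ H :=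
  fun n hn t ht => (Subgroup.mem_normalizer_iff.1 (h hn) t).1 ht

theorem normal_of_normalizer_eq_top {G : Type*} [Group G] {H : Subgroup G}
    (h : Subgroup.normalizer (H : Set G) = ⊤) : H.Normal :=
  ⟨fun t ht g => (Subgroup.mem_normalizer_iff.1 (h ▸ Subgroup.mem_top g) t).1 ht⟩

theorem TSin.ne_top {G : Type*} [Group G] [IsSimpleGroup G] {p : ℕ} {N : Subgroup G}
    (h : TSin p N) : N ≠ ⊤ := by
  intro htop
  obtain ⟨K, hI⟩ := h.isTSIn
  have hQn : (coreOf p N).Normal :=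
    ⟨fun q hq g => hI.Q_norm g (htop ▸ Subgroup.mem_top g) q hq⟩
  rcases hQn.eq_bot_or_eq_top with h1 | h1
  · exact hI.Q_ne h1
  · obtain ⟨x, -, hx⟩ := hI.K_ne
    exact hx (hI.Q_le (h1 ▸ Subgroup.mem_top x))

theorem exists_sylow_of_isMaxP {G : Type*} [Group G] {p : ℕ} {R N : Subgroup G}
    (h : IsMaxP p R N) : ∃ P : Sylow p N, (P : Subgroup N).map N.subtype = R := by
  refine ⟨⟨R.subgroupOf N, h.2.1.comap_of_injective N.subtype N.subtype_injective, ?_⟩,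
    Subgroup.map_subgroupOf_eq_of_le h.1⟩
  intro Q' hQ' hle
  have h1 : Q'.map N.subtype = R := by
    apply h.2.2 _ (Subgroup.map_subtype_le _) (hQ'.map _)
    rw [← Subgroup.map_subgroupOf_eq_of_le h.1]
    exact Subgroup.map_mono hle
  rw [← h1]
  ext x
  rw [Subgroup.mem_subgroupOf]
  exact ⟨fun hx => Subgroup.mem_map_of_mem _ hx, fun hx => by
    obtain ⟨_, h2⟩ := (mem_map_subtype_iff Q' _).1 hx
    exact h2⟩

theorem isMaxP_of_sylow {G : Type*} [Group G] {p : ℕ} {N : Subgroup G} (P : Sylow p N) :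
    IsMaxP p ((P : Subgroup N).map N.subtype) N := by
  refine ⟨Subgroup.map_subtype_le _, P.isPGroup'.map _, ?_⟩
  intro S hSN hSp hle
  have h1 : (P : Subgroup N) ≤ S.subgroupOf N := by
    intro x hx
    exact Subgroup.mem_subgroupOf.2 (hle (Subgroup.mem_map_of_mem _ hx))
  have h2 := P.is_maximal' (hSp.comap_of_injective N.subtype N.subtype_injective) h1
  rw [← Subgroup.map_subgroupOf_eq_of_le hSN]
  exact congrArg (Subgroup.map N.subtype) h2

theorem exists_isMaxP_ge {G : Type*} [Group G] [Finite G] {p : ℕ} [Fact p.Prime]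
    {N T : Subgroup G} (hTN : T ≤ N) (hT : IsPGroup p T) : ∃ R, IsMaxP p R N ∧ T ≤ R := by
  obtain ⟨P, hP⟩ :=
    (hT.comap_of_injective N.subtype N.subtype_injective : IsPGroup p (T.subgroupOf N)).exists_le_sylow
  refine ⟨_, isMaxP_of_sylow P, ?_⟩
  rw [← Subgroup.map_subgroupOf_eq_of_le hTN]
  exact Subgroup.map_mono hP

theorem mem_normal_sylow {X : Type*} [Group X] [Finite X] {p : ℕ} [Fact p.Prime] (P : Sylow p X)
    (hPn : (P : Subgroup X).Normal) {x : X} (hx : ∃ j, orderOf x = p ^ j) :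
    x ∈ (P : Subgroup X) := by
  have hz : IsPGroup p (Subgroup.zpowers x) := isPGroup_zpowers_iff.2 hx
  obtain ⟨P', hP'⟩ := hz.exists_le_sylow
  obtain ⟨g, hg⟩ := MulAction.exists_smul_eq X P P'
  haveI := hPn
  rw [Sylow.smul_eq_of_normal] at hg
  rw [hg]
  exact hP' (Subgroup.mem_zpowers x)

theorem exists_conj_mem_of_isMaxP {G : Type*} [Group G] [Finite G] {p : ℕ} [Fact p.Prime]
    {R N : Subgroup G} (hR : IsMaxP p R N) {x : G} (hx : x ∈ N) (hxo : ∃ j, orderOf x = p ^ j) :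
    ∃ m ∈ N, m * x * m⁻¹ ∈ R := by
  obtain ⟨P, hP⟩ := exists_sylow_of_isMaxP hR
  have hz : IsPGroup p (Subgroup.zpowers (⟨x, hx⟩ : N)) :=
    isPGroup_zpowers_iff.2 (by rw [Subgroup.orderOf_mk]; exact hxo)
  obtain ⟨P', hP'⟩ := hz.exists_le_sylow
  obtain ⟨g, hg⟩ := MulAction.exists_smul_eq N P P'
  have h1 : (⟨x, hx⟩ : N) ∈ ((g • P : Sylow p N) : Subgroup N) := by
    rw [hg]; exact hP' (Subgroup.mem_zpowers _)
  rw [Cfsg.Agent.Lib.Helper11.mem_sylow_smul_iff'] at h1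
  refine ⟨((g⁻¹ : N) : G), (g⁻¹).2, ?_⟩
  rw [← hP]
  refine ⟨_, h1, ?_⟩
  simp

theorem exists_normalizer_not_mem {G : Type*} [Group G] [Finite G] {p : ℕ} [Fact p.Prime]
    {P H : Subgroup G} (hP : IsPGroup p P) (hlt : H < P) :
    ∃ x ∈ P, x ∉ H ∧ x ∈ Subgroup.normalizer (H : Set G) := by
  haveI : Group.IsNilpotent P := hP.isNilpotent
  have hnc : NormalizerCondition P := normalizerCondition_of_isNilpotent
  have h1 : H.subgroupOf P < ⊤ := by
    rw [lt_top_iff_ne_top, Ne, Subgroup.subgroupOf_eq_top]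
    exact not_le_of_gt hlt
  obtain ⟨y, hyn, hyH⟩ := SetLike.exists_of_lt (hnc _ h1)
  refine ⟨(y : G), y.2, fun h => hyH (Subgroup.mem_subgroupOf.2 h), ?_⟩
  rw [Subgroup.mem_normalizer_iff]
  intro t
  rw [Subgroup.mem_normalizer_iff] at hyn
  constructor
  · intro ht
    have h2 := (hyn ⟨t, hlt.le ht⟩).1 (Subgroup.mem_subgroupOf.2 ht)
    exact Subgroup.mem_subgroupOf.1 h2
  · intro ht
    have htP : t ∈ P := by
      have h3 : t = (y : G)⁻¹ * ((y : G) * t * (y : G)⁻¹) * (y : G) := by group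
      rw [h3]
      exact P.mul_mem (P.mul_mem (P.inv_mem y.2) (hlt.le ht)) y.2
    have h2 := (hyn ⟨t, htP⟩).2 (Subgroup.mem_subgroupOf.2 ht)
    exact Subgroup.mem_subgroupOf.1 h2


theorem TSin.J_le' {G : Type u} [Group G] [Finite G] (hCN : IsCNGroup G) {p : ℕ} [Fact p.Prime]
    (hp2 : p ≠ 2) {N R : Subgroup G} (h : TSin p N) (hR : IsMaxP p R N) :
    Cfsg.thompsonSubgroupOf p R ≤ coreOf p N := by
  obtain ⟨P, hP⟩ := exists_sylow_of_isMaxP hR
  obtain ⟨K', hK'⟩ := h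
  have h1 := hK'.J_le (isCN_subgroup hCN N) hp2 P
  rw [← hP, Cfsg.Agent.Lib.Helper11.thompsonSubgroupOf_map p N.subtype N.subtype_injective]
  exact Subgroup.map_mono h1

theorem thompsonSubgroupOf_ne_bot {G : Type u} [Group G] [Finite G] {p : ℕ} [Fact p.Prime]
    {R : Subgroup G} (hR : IsPGroup p R) (hne : R ≠ ⊥) : Cfsg.thompsonSubgroupOf p R ≠ ⊥ := by
  have hp : p.Prime := Fact.out
  have hdvd : p ∣ Nat.card R := by
    obtain ⟨k, hk⟩ := hR.exists_card_eq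
    rcases Nat.eq_zero_or_pos k with h0 | hpos
    · rw [h0, pow_zero] at hk
      exact absurd (Subgroup.card_eq_one.1 hk) hne
    · rw [hk]; exact dvd_pow_self p hpos.ne'
  obtain ⟨z', hz'⟩ := exists_prime_orderOf_dvd_card' p hdvd
  obtain ⟨z, hz⟩ : ∃ z : G, z = (z' : G) := ⟨_, rfl⟩
  have hzR : z ∈ R := by rw [hz]; exact z'.2
  have hzo : orderOf z = p := by rw [hz, Subgroup.orderOf_coe, hz']
  have hB : Cfsg.IsElementaryAbelian p (Subgroup.zpowers z) := by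
    refine ⟨IsMulCommutative.of_setLike_mul_comm (fun a ha b hb => ?_), ?_⟩
    · obtain ⟨i, rfl⟩ := Subgroup.mem_zpowers_iff.1 ha
      obtain ⟨j, rfl⟩ := Subgroup.mem_zpowers_iff.1 hb
      rw [← zpow_add, ← zpow_add, add_comm]
    · intro a ha
      obtain ⟨i, rfl⟩ := Subgroup.mem_zpowers_iff.1 ha
      rw [← zpow_natCast, ← zpow_mul, mul_comm, zpow_mul, zpow_natCast, ← hzo,
        pow_orderOf_eq_one, one_zpow]
  obtain ⟨A, hA⟩ := Cfsg.Agent.Lib.Helper11.maxElemAbIn_nonempty p R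
  have hcard := hA.2.2 (Subgroup.zpowers z) (Subgroup.zpowers_le.2 hzR) hB
  rw [Nat.card_zpowers, hzo] at hcard
  intro hbot
  have hAle := Cfsg.Agent.Lib.Helper11.le_thompsonSubgroupOf hA
  rw [hbot, le_bot_iff] at hAle
  rw [hAle, Subgroup.card_bot] at hcard
  exact absurd hcard (by have := hp.two_le; omega)

/-- A proper subgroup with nontrivial `O_p` that is not `p`-closed is a three-step group. -/
theorem tsin_of_local {G : Type u} [Group G] [Finite G] (hG : Cfsg.IsMinSimpleOddOrder G)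
    (hCN : IsCNGroup G) {p : ℕ} [Fact p.Prime] {N : Subgroup G} (hN : N ≠ ⊤) {T : Subgroup G}
    (hT : T ≠ ⊥) (hTp : IsPGroup p T) (hTN : T ≤ N)
    (hnorm : ∀ n ∈ N, ∀ t ∈ T, n * t * n⁻¹ ∈ T) (hnc : ¬ PClosedIn p N) : TSin p N := by
  have hp : p.Prime := Fact.out
  haveI : Group.IsSolvable N := hG.2.2.2 N hN
  have hCNN := isCN_subgroup hCN N
  have hOp : IsPGroup p (Cfsg.pCore p N) := Cfsg.Agent.Lib.Helper84.pCore_isPGroup p N
  have hOn : (Cfsg.pCore p N).Normal := inferInstance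
  have hO : Cfsg.pCore p N ≠ ⊥ := by
    intro hbot
    apply hT
    rw [eq_bot_iff]
    intro t ht
    have h1 : (T.subgroupOf N).Normal := by
      refine ⟨fun t ht n => ?_⟩
      rw [Subgroup.mem_subgroupOf] at ht ⊢
      exact hnorm n n.2 t ht
    have h2 : IsPGroup p (T.subgroupOf N) :=
      hTp.comap_of_injective N.subtype N.subtype_injective
    have h3 : (⟨t, hTN ht⟩ : N) ∈ Cfsg.pCore p N :=
      Cfsg.Agent.Lib.Helper84.le_pCore h1 h2 (Subgroup.mem_subgroupOf.2 ht)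
    rw [hbot, Subgroup.mem_bot] at h3
    exact Subgroup.mem_bot.2 (congrArg Subtype.val h3)
  have hkey : ∀ P : Sylow p N, (P : Subgroup N).Normal → False := by
    intro P hPn
    apply hnc
    refine ⟨(P : Subgroup N).map N.subtype, P.isPGroup'.map _, ?_⟩
    intro x hx hxo
    have h1 : (⟨x, hx⟩ : N) ∈ (P : Subgroup N) :=
      mem_normal_sylow P hPn (by rw [Subgroup.orderOf_mk]; exact hxo)
    exact ⟨⟨x, hx⟩, h1, rfl⟩
  by_cases hnil : Group.IsNilpotent N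
  · exfalso
    haveI := hnil
    obtain ⟨P⟩ : Nonempty (Sylow p N) := inferInstance
    exact hkey P (P.normal_of_normalizerCondition Group.normalizerCondition_of_isNilpotent)
  rcases solvable_cn_structure hCNN hnil with hF1 | ⟨-, p', hp', -, K', hK'⟩
  · exfalso
    have hFcop := Cfsg.Agent.Lib.Helper23.fittingHall_coprime N
    have hFnil := fittingHall_nilpotent N
    have hFn : (Cfsg.fittingHall N).Normal := inferInstance
    have hdvd : p ∣ Nat.card (Cfsg.pCore p N) := by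
      obtain ⟨k, hk⟩ := hOp.exists_card_eq
      rcases Nat.eq_zero_or_pos k with h0 | hpos
      · rw [h0, pow_zero] at hk
        exact absurd (Subgroup.card_eq_one.1 hk) hO
      · rw [hk]; exact dvd_pow_self p hpos.ne'
    obtain ⟨e', he'⟩ := exists_prime_orderOf_dvd_card' p hdvd
    obtain ⟨e, hee⟩ : ∃ e : N, e = (e' : N) := ⟨_, rfl⟩
    have heO : e ∈ Cfsg.pCore p N := by rw [hee]; exact e'.2
    have heo : orderOf e = p := by rw [hee, Subgroup.orderOf_coe, he']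
    have he1 : e ≠ 1 := by
      intro h
      rw [h, orderOf_one] at heo
      exact hp.one_lt.ne heo
    have hpF : p ∣ Nat.card (Cfsg.fittingHall N) := by
      by_contra hndvd
      have hcop : (orderOf e).Coprime (Nat.card (Cfsg.fittingHall N)) := by
        rw [heo]; exact (Nat.Prime.coprime_iff_not_dvd hp).2 hndvd
      have hfix := fittingHall_fpf hCNN he1 hcop
      apply hF1
      rw [eq_bot_iff]
      intro f hf
      rw [← hfix]
      refine Subgroup.mem_inf.2 ⟨hf, Subgroup.mem_centralizer_singleton_iff.2 ?_⟩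
      have hcO : f * e * f⁻¹ * e⁻¹ ∈ Cfsg.pCore p N :=
        Subgroup.mul_mem _ (hOn.conj_mem e heO f) (Subgroup.inv_mem _ heO)
      have hcF : f * e * f⁻¹ * e⁻¹ ∈ Cfsg.fittingHall N := by
        have : f * e * f⁻¹ * e⁻¹ = f * (e * f⁻¹ * e⁻¹) := by group
        rw [this]
        exact Subgroup.mul_mem _ hf (hFn.conj_mem _ (Subgroup.inv_mem _ hf) e)
      obtain ⟨j, hj⟩ := orderOf_of_mem_pgroup hOp hcO
      have hc1 : f * e * f⁻¹ * e⁻¹ = 1 :=
        eq_one_of_orderOf_dvd_coprime (dvd_of_eq hj) (Subgroup.orderOf_dvd_natCard _ hcF)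
          ((Nat.Prime.coprime_iff_not_dvd hp).2 hndvd).symm
      calc f * e = (f * e * f⁻¹ * e⁻¹) * (e * f) := by group
        _ = e * f := by rw [hc1, one_mul]
    obtain ⟨P⟩ : Nonempty (Sylow p N) := inferInstance
    have hPF : (P : Subgroup N) ≤ Cfsg.fittingHall N := by
      intro x hx
      apply Cfsg.Agent.Lib.Helper1.mem_of_coprime_index
      obtain ⟨j, hj⟩ := orderOf_of_mem_sylow P hx
      rw [hj]
      exact Nat.Coprime.pow_left j (Nat.Coprime.coprime_dvd_left hpF hFcop)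
    exact hkey P (sylow_normal_of_le_nilpotent_normal P hFnil hPF)
  · haveI : Fact p'.Prime := ⟨hp'⟩
    have hO'p : IsPGroup p' (Cfsg.pCore p' N) := Cfsg.Agent.Lib.Helper84.pCore_isPGroup p' N
    have hO'n : (Cfsg.pCore p' N).Normal := inferInstance
    have hpp : p' = p := by
      by_contra hne
      have hcop : (p : ℕ).Coprime p' := (Nat.coprime_primes hp hp').2 (Ne.symm hne)
      apply hO
      rw [eq_bot_iff]
      intro e he
      have hcent : e ∈ Subgroup.centralizer ((Cfsg.pCore p' N : Subgroup N) : Set N) := by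
        rw [Subgroup.mem_centralizer_iff]
        intro q hq
        have hc1 : e * q * e⁻¹ * q⁻¹ ∈ Cfsg.pCore p N := by
          have : e * q * e⁻¹ * q⁻¹ = e * (q * e⁻¹ * q⁻¹) := by group
          rw [this]
          exact Subgroup.mul_mem _ he (hOn.conj_mem _ (Subgroup.inv_mem _ he) q)
        have hc2 : e * q * e⁻¹ * q⁻¹ ∈ Cfsg.pCore p' N :=
          Subgroup.mul_mem _ (hO'n.conj_mem q hq e) (Subgroup.inv_mem _ hq)
        obtain ⟨j, hj⟩ := orderOf_of_mem_pgroup hOp hc1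
        obtain ⟨i, hi⟩ := orderOf_of_mem_pgroup hO'p hc2
        have hc : e * q * e⁻¹ * q⁻¹ = 1 :=
          eq_one_of_orderOf_dvd_coprime (dvd_of_eq hi) (dvd_of_eq hj) (Nat.Coprime.pow_left j hcop)
        calc q * e = (e * q * e⁻¹ * q⁻¹)⁻¹ * (e * q) := by group
          _ = e * q := by rw [hc]; group
      have heQ := hK'.cent hcent
      obtain ⟨j, hj⟩ := orderOf_of_mem_pgroup hOp he
      obtain ⟨i, hi⟩ := orderOf_of_mem_pgroup hO'p heQ
      exact Subgroup.mem_bot.2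
        (eq_one_of_orderOf_dvd_coprime (dvd_of_eq hi) (dvd_of_eq hj) (Nat.Coprime.pow_left j hcop))
    subst hpp
    exact ⟨K', hK'⟩


theorem simple_of_minSimple {G : Type*} [Group G] (hG : Cfsg.IsMinSimpleOddOrder G) :
    IsSimpleGroup G := hG.2.1

/-- Chain lemma: from a three-step subgroup `N` with Sylow `p`-subgroup `R` one reaches a Sylow
`p`-subgroup `P ≥ R` of `G` with `N_G(J(P))` a three-step group, with `O_p(N) ≤ O_p(N_G(J(P)))`. -/
theorem ts_chain {G : Type u} [Group G] [Finite G] (hG : Cfsg.IsMinSimpleOddOrder G)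
    (hCN : IsCNGroup G) {p : ℕ} [Fact p.Prime] (hp2 : p ≠ 2) :
    ∀ (n : ℕ) (N R : Subgroup G), Nat.card G - Nat.card R = n → TSin p N → IsMaxP p R N →
      ∃ P : Sylow p G, R ≤ (P : Subgroup G) ∧
        TSin p (Subgroup.normalizer (Cfsg.thompsonSubgroupOf p (P : Subgroup G) : Set G)) ∧
        coreOf p N ≤
          coreOf p (Subgroup.normalizer (Cfsg.thompsonSubgroupOf p (P : Subgroup G) : Set G)) := by
  haveI : IsSimpleGroup G := simple_of_minSimple hG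
  intro n
  induction n using Nat.strong_induction_on with
  | _ n ih =>
  intro N R hn hTS hR
  obtain ⟨K, hI⟩ := hTS.isTSIn
  have hJQ : Cfsg.thompsonSubgroupOf p R ≤ coreOf p N := hTS.J_le' hCN hp2 hR
  have hRnQ : R ≤ Subgroup.normalizer ((coreOf p N : Subgroup G) : Set G) :=
    le_normalizer_of_conj (fun r hr q hq => hI.Q_norm r (hR.1 hr) q hq)
  have hQR : coreOf p N ≤ R := by
    have h1 : IsPGroup p (R ⊔ coreOf p N : Subgroup G) :=
      IsPGroup.to_sup_of_normal_right' hR.2.1 hI.Q_pgroup hRnQ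
    have h2 := hR.2.2 _ (sup_le hR.1 (hI.Q_le.trans hI.K_le)) h1 le_sup_left
    rw [← h2]; exact le_sup_right
  have hJeq : Cfsg.thompsonSubgroupOf p (coreOf p N) = Cfsg.thompsonSubgroupOf p R :=
    Cfsg.Agent.Lib.Helper11.thompsonSubgroupOf_eq_of_le hQR hJQ
  have hNN₁ : N ≤ Subgroup.normalizer (Cfsg.thompsonSubgroupOf p R : Set G) := by
    rw [← hJeq]
    exact (le_normalizer_of_conj hI.Q_norm).trans
      (Cfsg.Agent.Lib.Helper11.normalizer_le_normalizer_thompsonSubgroupOf p _)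
  have hRne : R ≠ ⊥ := fun h => hI.Q_ne (eq_bot_iff.2 (h ▸ hQR))
  have hJne : Cfsg.thompsonSubgroupOf p R ≠ ⊥ := thompsonSubgroupOf_ne_bot hR.2.1 hRne
  have hJR : Cfsg.thompsonSubgroupOf p R ≤ R := Cfsg.Agent.Lib.Helper11.thompsonSubgroupOf_le p R
  have hN₁top : Subgroup.normalizer (Cfsg.thompsonSubgroupOf p R : Set G) ≠ ⊤ := by
    intro htop
    rcases (normal_of_normalizer_eq_top htop).eq_bot_or_eq_top with h1 | h1
    · exact hJne h1
    · apply hTS.ne_top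
      rw [eq_top_iff]
      exact (h1 ▸ hJR).trans hR.1
  have hnc : ¬ PClosedIn p (Subgroup.normalizer (Cfsg.thompsonSubgroupOf p R : Set G)) := by
    rintro ⟨S, hSp, hS⟩
    exact hI.not_pclosed ⟨S, hSp, fun x hx => hS x (hNN₁ hx)⟩
  have hTS₁ : TSin p (Subgroup.normalizer (Cfsg.thompsonSubgroupOf p R : Set G)) :=
    tsin_of_local hG hCN hN₁top hJne (hR.2.1.to_le hJR) Subgroup.le_normalizer
      (conj_of_le_normalizer le_rfl) hnc
  obtain ⟨K₁, hI₁⟩ := hTS₁.isTSIn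
  have hQQ₁ := hI.core_mono hI₁ hNN₁
  by_cases hmax : IsMaxP p R (Subgroup.normalizer (Cfsg.thompsonSubgroupOf p R : Set G))
  · obtain ⟨P, hRP⟩ := hR.2.1.exists_le_sylow
    have hPR : (P : Subgroup G) = R := by
      by_contra hne
      have hlt : R < (P : Subgroup G) := lt_of_le_of_ne hRP (Ne.symm hne)
      obtain ⟨x, hxP, hxR, hxn⟩ := exists_normalizer_not_mem P.isPGroup' hlt
      have hxN₁ := Cfsg.Agent.Lib.Helper11.normalizer_le_normalizer_thompsonSubgroupOf p R hxn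
      have hS : IsPGroup p (R ⊔ Subgroup.zpowers x : Subgroup G) :=
        P.isPGroup'.to_le (sup_le hRP (Subgroup.zpowers_le.2 hxP))
      have h3 := hmax.2.2 (R ⊔ Subgroup.zpowers x)
        (sup_le (hR.1.trans hNN₁) (Subgroup.zpowers_le.2 hxN₁)) hS le_sup_left
      apply hxR
      rw [← h3]
      exact (le_sup_right : Subgroup.zpowers x ≤ R ⊔ Subgroup.zpowers x) (Subgroup.mem_zpowers x)
    refine ⟨P, hRP, ?_, ?_⟩
    · rw [hPR]; exact hTS₁
    · rw [hPR]; exact hQQ₁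
  · obtain ⟨R₁, hR₁, hRR₁⟩ := exists_isMaxP_ge (p := p) (hR.1.trans hNN₁) hR.2.1
    have hne : R₁ ≠ R := fun h => hmax (h ▸ hR₁)
    have hlt : Nat.card R < Nat.card R₁ := by
      rcases Nat.lt_or_ge (Nat.card R) (Nat.card R₁) with h | h
      · exact h
      · exact absurd (Subgroup.eq_of_le_of_card_ge hRR₁ h).symm hne
    have hle : Nat.card R₁ ≤ Nat.card G := Subgroup.card_le_card_group R₁
    obtain ⟨P, hP1, hP2, hP3⟩ := ih (Nat.card G - Nat.card R₁) (by omega) _ R₁ rfl hTS₁ hR₁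
    exact ⟨P, hRR₁.trans hP1, hP2, hQQ₁.trans hP3⟩


theorem commutator_eq_top_of_minSimple {G : Type*} [Group G]
    (hG : Cfsg.IsMinSimpleOddOrder G) : commutator G = ⊤ := by
  haveI : IsSimpleGroup G := simple_of_minSimple hG
  have hn : (commutator G).Normal := inferInstance
  rcases hn.eq_bot_or_eq_top with h | h
  · exfalso
    apply hG.2.2.1
    refine ⟨⟨fun a b => ?_⟩⟩
    have h1 : ⁅a, b⁆ ∈ commutator G := Subgroup.commutator_mem_commutator
      (Subgroup.mem_top a) (Subgroup.mem_top b)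
    rw [h, Subgroup.mem_bot] at h1
    exact commutatorElement_eq_one_iff_mul_comm.1 h1
  · exact h

/-- No subgroup of a minimal simple CN-group of odd order has the three-step structure. -/
theorem no_tsin {G : Type u} [Group G] [Finite G] (hG : Cfsg.IsMinSimpleOddOrder G)
    (hCN : IsCNGroup G) {p : ℕ} [Fact p.Prime] (N : Subgroup G) : ¬ TSin p N := by
  have hp : p.Prime := Fact.out
  haveI : IsSimpleGroup G := simple_of_minSimple hG
  intro hTS
  have hp2 : p ≠ 2 := by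
    rintro rfl
    obtain ⟨K, hI⟩ := hTS.isTSIn
    obtain ⟨k, hk⟩ := hI.Q_pgroup.exists_card_eq
    have hk0 : k ≠ 0 := by
      rintro rfl
      rw [pow_zero] at hk
      exact hI.Q_ne (Subgroup.card_eq_one.1 hk)
    have h1 : 2 ∣ Nat.card G := by
      refine dvd_trans ?_ (Subgroup.card_subgroup_dvd_card (coreOf 2 N))
      rw [hk]; exact dvd_pow_self 2 hk0
    exact (Nat.not_even_iff_odd.2 hG.1) (even_iff_two_dvd.2 h1)
  obtain ⟨R, hR, -⟩ := exists_isMaxP_ge (p := p) (N := N) (T := ⊥) bot_le IsPGroup.of_bot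
  obtain ⟨P, -, hTSM, -⟩ := ts_chain hG hCN hp2 _ N R rfl hTS hR
  obtain ⟨K, hI⟩ := hTSM.isTSIn
  obtain ⟨M, hM⟩ : ∃ M : Subgroup G,
      M = Subgroup.normalizer (Cfsg.thompsonSubgroupOf p (P : Subgroup G) : Set G) := ⟨_, rfl⟩
  rw [← hM] at hI hTSM
  obtain ⟨P₀, hP₀⟩ : ∃ P₀ : Subgroup G, P₀ = coreOf p M := ⟨_, rfl⟩
  rw [← hP₀] at hI
  have hNPM : Subgroup.normalizer ((P : Subgroup G) : Set G) ≤ M := by
    rw [hM]
    exact Cfsg.Agent.Lib.Helper11.normalizer_le_normalizer_thompsonSubgroupOf p _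
  have hPM : (P : Subgroup G) ≤ M := Subgroup.le_normalizer.trans hNPM
  have hP₀P : P₀ ≤ (P : Subgroup G) := by
    have h1 : IsPGroup p ((P : Subgroup G) ⊔ P₀ : Subgroup G) :=
      IsPGroup.to_sup_of_normal_right' P.isPGroup' hI.Q_pgroup
        (le_normalizer_of_conj (fun r hr q hq => hI.Q_norm r (hPM hr) q hq))
    have h2 := P.is_maximal' h1 le_sup_left
    rw [← h2]; exact le_sup_right
  have hPmax : IsMaxP p (P : Subgroup G) M :=
    ⟨hPM, P.isPGroup', fun S _ hSp hle => P.is_maximal' hSp hle⟩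
  -- an element of `P` outside `K`
  obtain ⟨x₀, hx₀M, hx₀K, hx₀o⟩ := hI.exists_pelt
  obtain ⟨m, hmM, hmx⟩ := exists_conj_mem_of_isMaxP hPmax hx₀M hx₀o
  obtain ⟨x, hx⟩ : ∃ x : G, x = m * x₀ * m⁻¹ := ⟨_, rfl⟩
  rw [← hx] at hmx
  have hxK : x ∉ K := by
    intro h
    apply hx₀K
    have h1 := hI.K_norm m⁻¹ (M.inv_mem hmM) x h
    have h2 : m⁻¹ * x * m⁻¹⁻¹ = x₀ := by rw [hx]; group
    rwa [h2] at h1
  have hxM : x ∈ M := hPM hmx
  -- `N_G(P) = P`
  have hNP : ∀ n ∈ Subgroup.normalizer ((P : Subgroup G) : Set G), n ∈ (P : Subgroup G) := by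
    intro n hn
    obtain ⟨j, m', hm', hjm⟩ := Nat.exists_eq_pow_mul_and_not_dvd (orderOf_pos n).ne' p
      hp.one_lt.ne'
    have h5 : orderOf (n ^ p ^ j) ∣ m' := by
      apply orderOf_dvd_of_pow_eq_one
      rw [← pow_mul, ← hjm, pow_orderOf_eq_one]
    have hco : (orderOf (n ^ p ^ j)).Coprime p :=
      Nat.Coprime.coprime_dvd_left h5 ((Nat.Prime.coprime_iff_not_dvd hp).2 hm').symm
    have hcn : n ^ p ^ j ∈ Subgroup.normalizer ((P : Subgroup G) : Set G) :=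
      Subgroup.pow_mem _ hn _
    have hc1 : n ^ p ^ j = 1 := by
      by_contra hc1
      have hcM : n ^ p ^ j ∈ M := hNPM hcn
      have hcK : n ^ p ^ j ∈ K := hI.pprime_mem _ hcM hco
      have hcP₀ : n ^ p ^ j ∉ P₀ := by
        intro hc
        obtain ⟨i, hi⟩ := orderOf_of_mem_pgroup hI.Q_pgroup hc
        exact hc1 (eq_one_of_orderOf_dvd_coprime (dvd_of_eq hi) (dvd_refl _) hco)
      have h6 : x * n ^ p ^ j * x⁻¹ * (n ^ p ^ j)⁻¹ ∈ (P : Subgroup G) := by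
        have : x * n ^ p ^ j * x⁻¹ * (n ^ p ^ j)⁻¹ = x * (n ^ p ^ j * x⁻¹ * (n ^ p ^ j)⁻¹) := by
          group
        rw [this]
        exact Subgroup.mul_mem _ hmx
          ((Subgroup.mem_normalizer_iff.1 hcn x⁻¹).1 (Subgroup.inv_mem _ hmx))
      have h7 : x * n ^ p ^ j * x⁻¹ * (n ^ p ^ j)⁻¹ ∈ K :=
        K.mul_mem (hI.K_norm x hxM _ hcK) (K.inv_mem hcK)
      exact hI.frob x hxM hxK _ hcK hcP₀ (hI.pelt_mem _ h7 (orderOf_of_mem_sylow P h6))
    have hno : ∃ i, orderOf n = p ^ i := by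
      have h8 : orderOf n ∣ p ^ j := orderOf_dvd_of_pow_eq_one hc1
      obtain ⟨i, -, hi⟩ := (Nat.dvd_prime_pow hp).1 h8
      exact ⟨i, hi⟩
    have h9 : IsPGroup p (Subgroup.zpowers n ⊔ (P : Subgroup G) : Subgroup G) :=
      IsPGroup.to_sup_of_normal_right' (isPGroup_zpowers_iff.2 hno) P.isPGroup'
        (Subgroup.zpowers_le.2 hn)
    have h10 := P.is_maximal' h9 le_sup_right
    rw [← h10]
    exact (le_sup_left : Subgroup.zpowers n ≤ Subgroup.zpowers n ⊔ (P : Subgroup G))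
      (Subgroup.mem_zpowers n)
  have hcomm : ∀ a ∈ (P : Subgroup G), ∀ b ∈ (P : Subgroup G), a * b * a⁻¹ * b⁻¹ ∈ P₀ := by
    intro a ha b hb
    apply hI.pelt_mem _ (hI.comm_mem a (hPM ha) b (hPM hb))
    exact orderOf_of_mem_sylow P
      (Subgroup.mul_mem _ (Subgroup.mul_mem _ (Subgroup.mul_mem _ ha hb) (Subgroup.inv_mem _ ha))
        (Subgroup.inv_mem _ hb))
  have hMtop : M ≠ ⊤ := hTSM.ne_top
  -- intersections with other Sylow subgroups lie in `P₀`
  have hstar : ∀ (n : ℕ) (P'' : Sylow p G), (P'' : Subgroup G) ≠ (P : Subgroup G) →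
      Nat.card (P : Subgroup G) - Nat.card ((P : Subgroup G) ⊓ (P'' : Subgroup G) : Subgroup G) = n →
      (P : Subgroup G) ⊓ (P'' : Subgroup G) ≤ P₀ := by
    intro n
    induction n using Nat.strong_induction_on with
    | _ n ih =>
    intro P'' hne hn
    by_cases hH : (P : Subgroup G) ⊓ (P'' : Subgroup G) = ⊥
    · rw [hH]; exact bot_le
    have hHP : (P : Subgroup G) ⊓ (P'' : Subgroup G) < (P : Subgroup G) := by
      refine lt_of_le_of_ne inf_le_left (fun h => hne ?_)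
      exact P.is_maximal' P''.isPGroup' (inf_eq_left.1 h)
    have hHP'' : (P : Subgroup G) ⊓ (P'' : Subgroup G) < (P'' : Subgroup G) := by
      refine lt_of_le_of_ne inf_le_right (fun h => hne ?_)
      exact (P''.is_maximal' P.isPGroup' (inf_eq_right.1 h)).symm
    have hHp : IsPGroup p ((P : Subgroup G) ⊓ (P'' : Subgroup G) : Subgroup G) :=
      P.isPGroup'.to_le inf_le_left
    obtain ⟨y, hyP, hyH, hyn⟩ := exists_normalizer_not_mem P.isPGroup' hHP
    obtain ⟨y'', hy''P, hy''H, hy''n⟩ := exists_normalizer_not_mem P''.isPGroup' hHP''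
    obtain ⟨NH, hNH⟩ : ∃ NH : Subgroup G, NH = Subgroup.normalizer
        (((P : Subgroup G) ⊓ (P'' : Subgroup G) : Subgroup G) : Set G) := ⟨_, rfl⟩
    rw [← hNH] at hyn hy''n
    have hHNH : (P : Subgroup G) ⊓ (P'' : Subgroup G) ≤ NH := by
      rw [hNH]; exact Subgroup.le_normalizer
    have hNHtop : NH ≠ ⊤ := by
      intro htop
      rw [hNH] at htop
      rcases (normal_of_normalizer_eq_top htop).eq_bot_or_eq_top with h1 | h1
      · exact hH h1
      · apply hMtop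
        rw [eq_top_iff]
        exact (h1 ▸ (inf_le_left : (P : Subgroup G) ⊓ (P'' : Subgroup G) ≤ (P : Subgroup G))).trans
          hPM
    obtain ⟨S, hS, hPS⟩ := exists_isMaxP_ge (p := p) (N := NH)
      (T := (P : Subgroup G) ⊓ NH) inf_le_right (P.isPGroup'.to_le inf_le_left)
    have hyS : y ∈ S := hPS (Subgroup.mem_inf.2 ⟨hyP, hyn⟩)
    have hHS : (P : Subgroup G) ⊓ (P'' : Subgroup G) ≤ S :=
      (le_inf inf_le_left hHNH).trans hPS
    have hcard : Nat.card ((P : Subgroup G) ⊓ (P'' : Subgroup G) : Subgroup G) ≤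
        Nat.card (P : Subgroup G) := Subgroup.card_le_of_le inf_le_left
    -- a strictly larger intersection is handled by induction
    have hbig : ∀ P₃ : Sylow p G, (P₃ : Subgroup G) ≠ (P : Subgroup G) → S ≤ (P₃ : Subgroup G) →
        (P : Subgroup G) ⊓ (P'' : Subgroup G) ≤ P₀ := by
      intro P₃ h3 hSP₃
      have hle : (P : Subgroup G) ⊓ (P'' : Subgroup G) ≤ (P : Subgroup G) ⊓ (P₃ : Subgroup G) :=
        le_inf inf_le_left (hHS.trans hSP₃)
      have hlt : Nat.card ((P : Subgroup G) ⊓ (P'' : Subgroup G) : Subgroup G) <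
          Nat.card ((P : Subgroup G) ⊓ (P₃ : Subgroup G) : Subgroup G) := by
        rcases Nat.lt_or_ge (Nat.card ((P : Subgroup G) ⊓ (P'' : Subgroup G) : Subgroup G))
          (Nat.card ((P : Subgroup G) ⊓ (P₃ : Subgroup G) : Subgroup G)) with h | h
        · exact h
        · exfalso
          have h4 := Subgroup.eq_of_le_of_card_ge hle h
          exact hyH (h4 ▸ Subgroup.mem_inf.2 ⟨hyP, hSP₃ hyS⟩)
      have hcard₃ : Nat.card ((P : Subgroup G) ⊓ (P₃ : Subgroup G) : Subgroup G) ≤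
          Nat.card (P : Subgroup G) := Subgroup.card_le_of_le inf_le_left
      exact hle.trans (ih _ (by omega) P₃ h3 rfl)
    obtain ⟨P₃, hSP₃⟩ := hS.2.1.exists_le_sylow
    by_cases h3 : (P₃ : Subgroup G) = (P : Subgroup G)
    swap
    · exact hbig P₃ h3 hSP₃
    have hSP : S ≤ (P : Subgroup G) := h3 ▸ hSP₃
    have hnc : ¬ PClosedIn p NH := by
      rintro ⟨S', hS'p, hS'⟩
      have h1 : S ≤ S' ⊓ NH :=
        le_inf (fun s hs => hS' s (hS.1 hs) (orderOf_of_mem_pgroup hS.2.1 hs)) hS.1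
      have h2 := hS.2.2 (S' ⊓ NH) inf_le_right (hS'p.to_le inf_le_left) h1
      have h4 : y'' ∈ S' ⊓ NH :=
        Subgroup.mem_inf.2 ⟨hS' y'' hy''n (orderOf_of_mem_sylow P'' hy''P), hy''n⟩
      rw [h2] at h4
      exact hy''H (Subgroup.mem_inf.2 ⟨hSP h4, hy''P⟩)
    have hHconj : ∀ n ∈ NH, ∀ t ∈ ((P : Subgroup G) ⊓ (P'' : Subgroup G) : Subgroup G),
        n * t * n⁻¹ ∈ ((P : Subgroup G) ⊓ (P'' : Subgroup G) : Subgroup G) :=
      conj_of_le_normalizer (le_of_eq hNH)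
    have hTSH : TSin p NH := tsin_of_local hG hCN hNHtop hH hHp hHNH hHconj hnc
    obtain ⟨Pt, hSPt, hTSt, hcore⟩ := ts_chain hG hCN hp2 _ NH S rfl hTSH hS
    obtain ⟨KH, hIH⟩ := hTSH.isTSIn
    have hHcore : (P : Subgroup G) ⊓ (P'' : Subgroup G) ≤ coreOf p NH :=
      hIH.Q_max _ hHNH hHp hHconj
    by_cases h4 : (Pt : Subgroup G) = (P : Subgroup G)
    · rw [h4, ← hM, ← hP₀] at hcore
      exact hHcore.trans hcore
    · exact hbig Pt h4 hSPt
  -- Grün's theorem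
  have hgrun := Cfsg.Agent.S4216.result P
  rw [commutator_eq_top_of_minSimple hG, inf_top_eq] at hgrun
  have hle : (P : Subgroup G) ≤ P₀ := by
    rw [hgrun]
    apply sup_le
    · refine inf_le_right.trans ?_
      rw [Subgroup.commutator_le]
      intro g₁ h₁ g₂ h₂
      rw [commutatorElement_def]
      exact hcomm g₁ (hNP g₁ h₁) g₂ (hNP g₂ h₂)
    · apply iSup_le
      intro z
      have hPP : ⁅(P : Subgroup G), (P : Subgroup G)⁆ ≤ P₀ := by
        rw [Subgroup.commutator_le]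
        intro g₁ h₁ g₂ h₂
        rw [commutatorElement_def]
        exact hcomm g₁ h₁ g₂ h₂
      by_cases hz : z ∈ Subgroup.normalizer ((P : Subgroup G) : Set G)
      · refine inf_le_right.trans ?_
        rintro _ ⟨c, hc, rfl⟩
        exact hI.Q_norm z (hNPM hz) c (hPP hc)
      · have hne : ((z • P : Sylow p G) : Subgroup G) ≠ (P : Subgroup G) := by
          intro h
          rw [Cfsg.Agent.Lib.Helper11.sylow_smul_coe] at h
          exact hz (Cfsg.Agent.Lib.Helper11.mem_normalizer_of_map_conj_eq h)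
        refine le_trans ?_ (hstar _ (z • P) hne rfl)
        rw [Cfsg.Agent.Lib.Helper11.sylow_smul_coe]
        exact inf_le_inf_left _ (Subgroup.map_mono (hPP.trans hP₀P))
  exact hxK (hI.Q_le (hle hmx))

end Cfsg.Agent.Lib.Helper4.CN
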