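import Mathlib

set_option autoImplicit false

namespace Cfsg.Agent.Lib.Helper4

variable {G : Type*} [Group G]

lemma mul_self_of_orderOf_two {u : G} (hu : orderOf u = 2) : u * u = 1 := by
  rw [← pow_two, ← hu]; exact pow_orderOf_eq_one u

lemma inv_eq_self_of_mul_self {u : G} (hu : u * u = 1) : u⁻¹ = u :=
  inv_eq_of_mul_eq_one_left hu

lemma inv_eq_self_of_orderOf_two {u : G} (hu : orderOf u = 2) : u⁻¹ = u :=
  inv_eq_self_of_mul_self (mul_self_of_orderOf_two hu)

lemma ne_one_of_orderOf_two {u : G} (hu : orderOf u = 2) : u ≠ 1 := by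
  intro h; rw [h, orderOf_one] at hu; omega

lemma orderOf_two_of_mul_self {u : G} (hu : u * u = 1) (h1 : u ≠ 1) : orderOf u = 2 :=
  orderOf_eq_prime (by rw [pow_two]; exact hu) h1

/-- In the group generated by two involutions, `x u^k = u^(-k) x` for `u = x y`. -/
lemma dih_comm {x y : G} (hx : x * x = 1) (hy : y * y = 1) (k : ℤ) :
    x * (x * y) ^ k = (x * y) ^ (-k) * x := by
  have hxi := inv_eq_self_of_mul_self hx
  have hyi := inv_eq_self_of_mul_self hy
  have h1 : x * (x * y) * x⁻¹ = (x * y)⁻¹ := by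
    rw [mul_inv_rev, hxi, hyi, ← mul_assoc, hx, one_mul]
  have h2 : x * (x * y) ^ k * x⁻¹ = (x * y) ^ (-k) := by
    rw [← conj_zpow, h1, inv_zpow, zpow_neg]
  rw [← h2, inv_mul_cancel_right]

lemma dih_comm' {x y : G} (hx : x * x = 1) (hy : y * y = 1) (k : ℤ) :
    (x * y) ^ k * x = x * (x * y) ^ (-k) := by
  have := dih_comm hx hy (-k)
  rw [neg_neg] at this
  exact this.symm

lemma dih_conj_x {x y : G} (hx : x * x = 1) (hy : y * y = 1) (k : ℤ) :
    x * (x * y) ^ k * x = (x * y) ^ (-k) := by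
  rw [dih_comm hx hy k, mul_assoc, hx, mul_one]

lemma dih_inv {x y : G} (hx : x * x = 1) (hy : y * y = 1) (k : ℤ) :
    (x * (x * y) ^ k)⁻¹ = x * (x * y) ^ k := by
  rw [mul_inv_rev, inv_eq_self_of_mul_self hx, ← zpow_neg, ← dih_comm hx hy k]

lemma dih_sq {x y : G} (hx : x * x = 1) (hy : y * y = 1) (k : ℤ) :
    x * (x * y) ^ k * (x * (x * y) ^ k) = 1 := by
  rw [← mul_assoc, dih_conj_x hx hy k, ← zpow_add, neg_add_cancel, zpow_zero]

/-- Elements of the group generated by two involutions `x`, `y` are `u^k` or `x u^k`. -/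
lemma dih_mem {x y : G} (hx : x * x = 1) (hy : y * y = 1) {d : G}
    (hd : d ∈ Subgroup.closure ({x, y} : Set G)) :
    ∃ k : ℤ, d = (x * y) ^ k ∨ d = x * (x * y) ^ k := by
  induction hd using Subgroup.closure_induction with
  | mem z hz =>
    rcases hz with rfl | hz
    · exact ⟨0, Or.inr (by simp)⟩
    · rw [Set.mem_singleton_iff] at hz; subst hz
      exact ⟨1, Or.inr (by rw [zpow_one, ← mul_assoc, hx, one_mul])⟩
  | one => exact ⟨0, Or.inl (by simp)⟩
  | mul a b _ _ iha ihb =>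
    obtain ⟨i, hi | hi⟩ := iha <;> obtain ⟨j, hj | hj⟩ := ihb
    · exact ⟨i + j, Or.inl (by rw [hi, hj, zpow_add])⟩
    · refine ⟨j - i, Or.inr ?_⟩
      rw [hi, hj, ← mul_assoc, dih_comm' hx hy i, mul_assoc, ← zpow_add]
      congr 2; ring
    · exact ⟨i + j, Or.inr (by rw [hi, hj, mul_assoc, zpow_add])⟩
    · refine ⟨j - i, Or.inl ?_⟩
      rw [hi, hj, ← mul_assoc, dih_conj_x hx hy i, ← zpow_add]
      congr 1; ring
  | inv a _ iha =>
    obtain ⟨i, hi | hi⟩ := iha
    · exact ⟨-i, Or.inl (by rw [hi, zpow_neg])⟩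
    · exact ⟨i, Or.inr (by rw [hi, dih_inv hx hy i])⟩

lemma dih_mem_closure_zpow (x y : G) (k : ℤ) :
    (x * y) ^ k ∈ Subgroup.closure ({x, y} : Set G) :=
  Subgroup.zpow_mem _ (Subgroup.mul_mem _ (Subgroup.subset_closure (by simp))
    (Subgroup.subset_closure (by simp))) k

lemma dih_mem_closure_x_zpow (x y : G) (k : ℤ) :
    x * (x * y) ^ k ∈ Subgroup.closure ({x, y} : Set G) :=
  Subgroup.mul_mem _ (Subgroup.subset_closure (by simp)) (dih_mem_closure_zpow x y k)

/-- Conjugates of `x` inside `⟨x, y⟩` are the `x u^(2j)`. -/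
lemma dih_conj {x y : G} (hx : x * x = 1) (hy : y * y = 1) {d : G}
    (hd : d ∈ Subgroup.closure ({x, y} : Set G)) :
    ∃ j : ℤ, d * x * d⁻¹ = x * (x * y) ^ (2 * j) := by
  obtain ⟨k, hk | hk⟩ := dih_mem hx hy hd
  · refine ⟨-k, ?_⟩
    rw [hk, dih_comm' hx hy k, mul_assoc, ← zpow_neg, ← zpow_add]
    congr 2; ring
  · refine ⟨k, ?_⟩
    rw [hk, dih_inv hx hy k, mul_assoc (x * (x * y) ^ k) x, ← mul_assoc x x, hx, one_mul,
      mul_assoc, ← zpow_add]
    congr 2; ring

/-- `u^k x u^(-k) = x u^(-2k)`. -/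
lemma dih_conj_zpow {x y : G} (hx : x * x = 1) (hy : y * y = 1) (k : ℤ) :
    (x * y) ^ k * x * ((x * y) ^ k)⁻¹ = x * (x * y) ^ (-(2 * k)) := by
  rw [dih_comm' hx hy k, mul_assoc, ← zpow_neg, ← zpow_add]
  congr 2; ring

lemma x_mul_xy {x y : G} (hx : x * x = 1) : x * (x * y) = y := by
  rw [← mul_assoc, hx, one_mul]

/-- `x` is not a power of `x y` when `x`, `y` are involutions. -/
lemma dih_x_not_mem {x y : G} (hx : orderOf x = 2) (hy : orderOf y = 2) (k : ℤ) :
    x * (x * y) ^ k ≠ 1 := by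
  intro h
  have hx2 := mul_self_of_orderOf_two hx
  have hy2 := mul_self_of_orderOf_two hy
  -- x = u^(-k), so x commutes with u
  have hxu : x = (x * y) ^ (-k) := by
    rw [zpow_neg]; exact eq_inv_of_mul_eq_one_left h
  have hcomm : Commute x (x * y) := by
    have h0 : Commute ((x * y) ^ (-k)) (x * y) := (Commute.refl (x * y)).zpow_left (-k)
    rw [← hxu] at h0; exact h0
  -- then u = u⁻¹ (conjugation by x inverts u)
  have h1 : x * (x * y) * x = (x * y)⁻¹ := by
    have := dih_conj_x hx2 hy2 1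
    simpa using this
  have h2 : (x * y) * (x * y) = 1 := by
    have : x * (x * y) * x = x * y := by rw [hcomm.eq, mul_assoc, hx2, mul_one]
    rw [this] at h1
    exact mul_eq_one_iff_eq_inv.mpr h1
  -- u^(-k) is 1 or u
  have h3 : ∀ m : ℤ, (x * y) ^ m = 1 ∨ (x * y) ^ m = x * y := by
    intro m
    rcases Int.even_or_odd m with ⟨c, hc⟩ | ⟨c, hc⟩
    · left
      rw [hc, zpow_add, ← (Commute.refl (x * y)).mul_zpow, h2, one_zpow]
    · right
      rw [hc, zpow_add, zpow_mul, zpow_two, h2, one_zpow, one_mul, zpow_one]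
  rcases h3 (-k) with h4 | h4
  · rw [h4] at hxu; exact ne_one_of_orderOf_two hx hxu
  · rw [h4] at hxu
    have : y = 1 := by
      have := hxu.symm
      exact mul_eq_left.mp this
    exact ne_one_of_orderOf_two hy this

end Cfsg.Agent.Lib.Helper4
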