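import Mathlib
import Cfsg.Agent.Lib.Helper4.Dihedral

set_option autoImplicit false

namespace Cfsg.Agent.Lib.Helper4

variable {G : Type*} [Group G]

open scoped Pointwise

lemma conj_mul_distrib (d a b : G) : d * (a * b) * d⁻¹ = d * a * d⁻¹ * (d * b * d⁻¹) := by group

lemma orderOf_conj' (g t : G) : orderOf (g * t * g⁻¹) = orderOf t := by
  have := orderOf_injective (MulAut.conj g).toMonoidHom (MulAut.conj g).injective t
  simpa [MulAut.conj_apply] using this

lemma mem_conj_smul_iff {H : Subgroup G} {g x : G} :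
    x ∈ MulAut.conj g • H ↔ g⁻¹ * x * g ∈ H := by
  rw [Subgroup.mem_pointwise_smul_iff_inv_smul_mem]
  simp [MulAut.smul_def]

lemma mem_sylow_smul_iff {p : ℕ} {P : Sylow p G} {g x : G} :
    x ∈ g • P ↔ g⁻¹ * x * g ∈ P := by
  show x ∈ ((g • P : Sylow p G) : Subgroup G) ↔ _
  rw [Sylow.coe_subgroup_smul]
  exact mem_conj_smul_iff

lemma isPGroup_two_closure_pair {u z : G} (hu : u * u = 1) (hz : z * z = 1)
    (hc : Commute u z) : IsPGroup 2 (Subgroup.closure ({u, z} : Set G)) := by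
  rintro ⟨d, hd⟩
  refine ⟨1, ?_⟩
  apply Subtype.ext
  show d ^ 2 ^ 1 = 1
  rw [pow_one, pow_two]
  obtain ⟨k, hk | hk⟩ := dih_mem hu hz hd
  · have h1 : u * z * (u * z) = 1 := by
      rw [hc.symm.mul_mul_mul_comm, hu, hz, mul_one]
    rw [hk, ← (Commute.refl (u * z)).mul_zpow, h1, one_zpow]
  · rw [hk]; exact dih_sq hu hz k

lemma exists_sylow_two_mem_pair [Finite G] {u z : G} (hu : u * u = 1) (hz : z * z = 1)
    (hc : Commute u z) : ∃ Q : Sylow 2 G, u ∈ Q ∧ z ∈ Q := by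
  obtain ⟨Q, hQ⟩ := (isPGroup_two_closure_pair hu hz hc).exists_le_sylow
  exact ⟨Q, hQ (Subgroup.subset_closure (by simp)), hQ (Subgroup.subset_closure (by simp))⟩

lemma exists_conj_mem_sylow_two_pair [Finite G] (P : Sylow 2 G) {u z : G} (hu : u * u = 1)
    (hz : z * z = 1) (hc : Commute u z) : ∃ h : G, h * u * h⁻¹ ∈ P ∧ h * z * h⁻¹ ∈ P := by
  obtain ⟨Q, huQ, hzQ⟩ := exists_sylow_two_mem_pair hu hz hc
  obtain ⟨g, hg⟩ := MulAction.exists_smul_eq G Q P
  refine ⟨g, ?_, ?_⟩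
  · rw [← hg, mem_sylow_smul_iff]
    have : g⁻¹ * (g * u * g⁻¹) * g = u := by group
    rw [this]; exact huQ
  · rw [← hg, mem_sylow_smul_iff]
    have : g⁻¹ * (g * z * g⁻¹) * g = z := by group
    rw [this]; exact hzQ

/-- The central involution of the dihedral group generated by two involutions with product of
even order. -/
lemma dih_center [Finite G] {x y : G} (hx : orderOf x = 2) (hy : orderOf y = 2)
    (heven : Even (orderOf (x * y))) :
    orderOf ((x * y) ^ (orderOf (x * y) / 2)) = 2 ∧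
      Commute ((x * y) ^ (orderOf (x * y) / 2)) x ∧
      Commute ((x * y) ^ (orderOf (x * y) / 2)) y := by
  have hn : orderOf (x * y) ≠ 0 := (orderOf_pos (x * y)).ne'
  have h2 : (2 : ℕ) ∣ orderOf (x * y) := even_iff_two_dvd.mp heven
  have hz : orderOf ((x * y) ^ (orderOf (x * y) / 2)) = 2 := orderOf_pow_orderOf_div hn h2
  have hzi := inv_eq_self_of_orderOf_two hz
  have hx2 := mul_self_of_orderOf_two hx
  have hy2 := mul_self_of_orderOf_two hy
  have hxc : x * (x * y) * x⁻¹ = (x * y)⁻¹ := by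
    rw [mul_inv_rev, inv_eq_self_of_orderOf_two hx, inv_eq_self_of_orderOf_two hy, ← mul_assoc,
      hx2, one_mul]
  have hyc : y * (x * y) * y⁻¹ = (x * y)⁻¹ := by
    rw [mul_inv_rev, inv_eq_self_of_orderOf_two hx, inv_eq_self_of_orderOf_two hy, mul_assoc,
      mul_assoc, hy2, mul_one]
  refine ⟨hz, ?_, ?_⟩
  · have : x * (x * y) ^ (orderOf (x * y) / 2) * x⁻¹ = (x * y) ^ (orderOf (x * y) / 2) := by
      rw [← conj_pow, hxc, inv_pow, hzi]
    exact (mul_inv_eq_iff_eq_mul.mp this).symm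
  · have : y * (x * y) ^ (orderOf (x * y) / 2) * y⁻¹ = (x * y) ^ (orderOf (x * y) / 2) := by
      rw [← conj_pow, hyc, inv_pow, hzi]
    exact (mul_inv_eq_iff_eq_mul.mp this).symm

/-- Two involutions with product of odd order are conjugate. -/
lemma dih_conj_of_odd {x y : G} (hx : orderOf x = 2) (hy : orderOf y = 2)
    (hodd : Odd (orderOf (x * y))) : ∃ d : G, d * x * d⁻¹ = y := by
  obtain ⟨m, hm⟩ := hodd
  have hx2 := mul_self_of_orderOf_two hx
  have hy2 := mul_self_of_orderOf_two hy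
  refine ⟨(x * y) ^ (m : ℤ), ?_⟩
  rw [dih_conj_zpow hx2 hy2 m]
  have h1 : (x * y) ^ (-(2 * (m : ℤ))) = (x * y) ^ (1 : ℤ) := by
    rw [zpow_eq_zpow_iff_modEq, hm]
    push_cast
    exact Int.modEq_iff_dvd.mpr ⟨1, by ring⟩
  rw [h1, zpow_one, x_mul_xy hx2]

/-- If `x y` has even order then `x z` (with `z` the central involution) is conjugate to `x` or
to `y`. -/
lemma dih_xz_conj {x y : G} (hx : orderOf x = 2) (hy : orderOf y = 2)
    (heven : Even (orderOf (x * y))) :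
    ∃ d : G, d * x * d⁻¹ = x * (x * y) ^ (orderOf (x * y) / 2) ∨
      d * y * d⁻¹ = x * (x * y) ^ (orderOf (x * y) / 2) := by
  have hx2 := mul_self_of_orderOf_two hx
  have hy2 := mul_self_of_orderOf_two hy
  obtain ⟨m, hm⟩ := heven
  have hm2 : orderOf (x * y) / 2 = m := by omega
  rw [hm2]
  rcases Nat.even_or_odd m with ⟨k, hk⟩ | ⟨k, hk⟩
  · refine ⟨(x * y) ^ (k : ℤ), Or.inl ?_⟩
    rw [dih_conj_zpow hx2 hy2 k, ← zpow_natCast]
    congr 1
    rw [zpow_eq_zpow_iff_modEq, hm, hk]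
    push_cast
    exact Int.modEq_iff_dvd.mpr ⟨1, by ring⟩
  · refine ⟨(x * y) ^ (-(k : ℤ)), Or.inr ?_⟩
    have hy' : y = x * (x * y) := (x_mul_xy hx2).symm
    have hcomm : (x * y) ^ (-(k : ℤ)) * (x * y) * ((x * y) ^ (-(k : ℤ)))⁻¹ = x * y := by
      have hc : Commute ((x * y) ^ (-(k : ℤ))) (x * y) := (Commute.refl _).zpow_left _
      rw [hc.eq, mul_inv_cancel_right]
    nth_rewrite 2 [hy']
    rw [conj_mul_distrib, dih_conj_zpow hx2 hy2 (-k), hcomm, mul_assoc, ← zpow_add_one,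
      ← zpow_natCast]
    congr 2
    rw [hk]
    push_cast
    ring

/-- An involution `u` isolated in a Sylow 2-subgroup is not conjugate to `u z` for an involution
`z` commuting with `u`. -/
lemma isolated_aux [Finite G] (P : Sylow 2 G) {u z e : G} (hu : orderOf u = 2)
    (hiso : ∀ g : G, g * u * g⁻¹ ∈ P → g * u * g⁻¹ = u) (hz : orderOf z = 2) (hc : Commute u z)
    (he : e * u * e⁻¹ = u * z) : False := by
  obtain ⟨h, h1, h2⟩ := exists_conj_mem_sylow_two_pair P (mul_self_of_orderOf_two hu)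
    (mul_self_of_orderOf_two hz) hc
  have h3 : h * u * h⁻¹ = u := hiso h h1
  have h4 : h * (u * z) * h⁻¹ ∈ P := by
    rw [conj_mul_distrib]; exact (P : Subgroup G).mul_mem h1 h2
  have h5 : (h * e) * u * (h * e)⁻¹ = h * (u * z) * h⁻¹ := by rw [← he]; group
  have h6 : h * (u * z) * h⁻¹ = u := by
    rw [← h5]; apply hiso; rw [h5]; exact h4
  have h7 : h * (u * z) * h⁻¹ = h * u * h⁻¹ := h6.trans h3.symm
  have h8 : z = 1 := by simpa using h7
  exact ne_one_of_orderOf_two hz h8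

/-- An isolated involution of a Sylow 2-subgroup: its product with any conjugate has odd
order. -/
lemma isolated_mul_conj_odd [Finite G] (P : Sylow 2 G) {u : G} (hu : orderOf u = 2)
    (hiso : ∀ g : G, g * u * g⁻¹ ∈ P → g * u * g⁻¹ = u) (g : G) :
    Odd (orderOf (u * (g * u * g⁻¹))) := by
  by_contra hodd
  rw [Nat.not_odd_iff_even] at hodd
  have hv2 : orderOf (g * u * g⁻¹) = 2 := by rw [orderOf_conj', hu]
  obtain ⟨hz2, hzu, -⟩ := dih_center hu hv2 hodd
  obtain ⟨d, hd | hd⟩ := dih_xz_conj hu hv2 hodd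
  · exact isolated_aux P hu hiso hz2 hzu.symm hd
  · have : (d * g) * u * (d * g)⁻¹ = u * (u * (g * u * g⁻¹)) ^ (orderOf (u * (g * u * g⁻¹)) / 2) := by
      rw [← hd]; group
    exact isolated_aux P hu hiso hz2 hzu.symm this

/-- If `4` divides the order of `x y` then `x z` is conjugate to `x`. -/
lemma dih_xz_conj_of_four_dvd {x y : G} (hx : orderOf x = 2) (hy : orderOf y = 2)
    (h4 : 4 ∣ orderOf (x * y)) :
    ∃ d : G, d * x * d⁻¹ = x * (x * y) ^ (orderOf (x * y) / 2) := by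
  have hx2 := mul_self_of_orderOf_two hx
  have hy2 := mul_self_of_orderOf_two hy
  obtain ⟨k, hk⟩ := h4
  have hm2 : orderOf (x * y) / 2 = 2 * k := by omega
  rw [hm2]
  refine ⟨(x * y) ^ (k : ℤ), ?_⟩
  rw [dih_conj_zpow hx2 hy2 k, ← zpow_natCast]
  congr 1
  rw [zpow_eq_zpow_iff_modEq, hk]
  push_cast
  exact Int.modEq_iff_dvd.mpr ⟨1, by ring⟩

/-- A nontrivial Sylow 2-subgroup contains an involution. -/
lemma exists_involution_of_sylow_ne_bot [Finite G] (T : Sylow 2 G)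
    (hT : (T : Subgroup G) ≠ ⊥) : ∃ r ∈ (T : Subgroup G), orderOf r = 2 := by
  have hnt : Nontrivial ↥(T : Subgroup G) := (Subgroup.nontrivial_iff_ne_bot _).mpr hT
  obtain ⟨k, hk⟩ := IsPGroup.iff_card.mp T.2
  have hk0 : k ≠ 0 := by
    rintro rfl
    rw [pow_zero] at hk
    have := Finite.one_lt_card (α := ↥(T : Subgroup G))
    omega
  have h2 : 2 ∣ Nat.card ↥(T : Subgroup G) := by rw [hk]; exact dvd_pow_self 2 hk0
  obtain ⟨r, hr⟩ := exists_prime_orderOf_dvd_card' 2 h2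
  exact ⟨r.1, r.2, by rw [Subgroup.orderOf_coe]; exact hr⟩

end Cfsg.Agent.Lib.Helper4
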