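import Mathlib
import Cfsg.Agent.Lib.Helper4.CNTS
import Cfsg.Agent.Lib.Helper4.SylowTwo
import Cfsg.Agent.S0035

/-!
# Maximal subgroups of minimal simple CN-groups of odd order

Maximal nilpotent subgroups are Hall TI-subgroups with Frobenius normalizers, which are exactly
the maximal subgroups.
-/

set_option autoImplicit false
set_option linter.style.haveILetI false

namespace Cfsg.Agent.Lib.Helper4.CN

open Cfsg

open scoped Pointwise

universe u

/-- Distinct Sylow `p`-subgroups of a minimal simple CN-group of odd order meet trivially. -/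
theorem sylow_TI {G : Type u} [Group G] [Finite G] (hG : Cfsg.IsMinSimpleOddOrder G)
    (hCN : IsCNGroup G) {p : ℕ} [Fact p.Prime] (P : Sylow p G) :
    ∀ (n : ℕ) (P' : Sylow p G), (P' : Subgroup G) ≠ (P : Subgroup G) →
      Nat.card (P : Subgroup G) - Nat.card ((P : Subgroup G) ⊓ (P' : Subgroup G) : Subgroup G) = n →
      (P : Subgroup G) ⊓ (P' : Subgroup G) = ⊥ := by
  haveI : IsSimpleGroup G := simple_of_minSimple hG
  intro n
  induction n using Nat.strong_induction_on with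
  | _ n ih =>
  intro P'' hne hn
  by_contra hH
  have hHP : (P : Subgroup G) ⊓ (P'' : Subgroup G) < (P : Subgroup G) := by
    refine lt_of_le_of_ne inf_le_left (fun h => hne ?_)
    exact P.is_maximal' P''.isPGroup' (inf_eq_left.1 h)
  have hHP'' : (P : Subgroup G) ⊓ (P'' : Subgroup G) < (P'' : Subgroup G) := by
    refine lt_of_le_of_ne inf_le_right (fun h => hne ?_)
    exact (P''.is_maximal' P.isPGroup' (inf_eq_right.1 h)).symm
  have hHp : IsPGroup p ((P : Subgroup G) ⊓ (P'' : Subgroup G) : Subgroup G) :=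
    P.isPGroup'.to_le inf_le_left
  obtain ⟨y, hyP, hyH, hyn⟩ := exists_normalizer_not_mem P.isPGroup' hHP
  obtain ⟨y'', hy''P, hy''H, hy''n⟩ := exists_normalizer_not_mem P''.isPGroup' hHP''
  obtain ⟨NH, hNH⟩ : ∃ NH : Subgroup G, NH = Subgroup.normalizer
      (((P : Subgroup G) ⊓ (P'' : Subgroup G) : Subgroup G) : Set G) := ⟨_, rfl⟩
  rw [← hNH] at hyn hy''n
  have hHNH : (P : Subgroup G) ⊓ (P'' : Subgroup G) ≤ NH := by
    rw [hNH]; exact Subgroup.le_normalizer
  have hNHtop : NH ≠ ⊤ := by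
    intro htop
    rw [hNH] at htop
    rcases (normal_of_normalizer_eq_top htop).eq_bot_or_eq_top with h1 | h1
    · exact hH h1
    · apply hne
      have h2 : (P : Subgroup G) = ⊤ := top_le_iff.1 (h1 ▸ inf_le_left)
      have h3 : (P'' : Subgroup G) = ⊤ := top_le_iff.1 (h1 ▸ inf_le_right)
      rw [h2, h3]
  have hHconj : ∀ n ∈ NH, ∀ t ∈ ((P : Subgroup G) ⊓ (P'' : Subgroup G) : Subgroup G),
      n * t * n⁻¹ ∈ ((P : Subgroup G) ⊓ (P'' : Subgroup G) : Subgroup G) :=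
    conj_of_le_normalizer (le_of_eq hNH)
  have hpc : PClosedIn p NH := by
    by_contra hnc
    exact no_tsin hG hCN NH (tsin_of_local hG hCN hNHtop hH hHp hHNH hHconj hnc)
  obtain ⟨S, hSp, hS⟩ := hpc
  obtain ⟨P₃, hSP₃⟩ := hSp.exists_le_sylow
  have hy3 : y ∈ (P₃ : Subgroup G) := hSP₃ (hS y hyn (orderOf_of_mem_sylow P hyP))
  have hy''3 : y'' ∈ (P₃ : Subgroup G) := hSP₃ (hS y'' hy''n (orderOf_of_mem_sylow P'' hy''P))
  have hD3 : (P : Subgroup G) ⊓ (P'' : Subgroup G) ≤ (P₃ : Subgroup G) :=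
    fun d hd => hSP₃ (hS d (hHNH hd) (orderOf_of_mem_pgroup hHp hd))
  by_cases h3 : (P₃ : Subgroup G) = (P : Subgroup G)
  · exact hy''H (Subgroup.mem_inf.2 ⟨h3 ▸ hy''3, hy''P⟩)
  · have hle : (P : Subgroup G) ⊓ (P'' : Subgroup G) ≤ (P : Subgroup G) ⊓ (P₃ : Subgroup G) :=
      le_inf inf_le_left hD3
    have hlt : Nat.card ((P : Subgroup G) ⊓ (P'' : Subgroup G) : Subgroup G) <
        Nat.card ((P : Subgroup G) ⊓ (P₃ : Subgroup G) : Subgroup G) := by
      rcases Nat.lt_or_ge (Nat.card ((P : Subgroup G) ⊓ (P'' : Subgroup G) : Subgroup G))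
        (Nat.card ((P : Subgroup G) ⊓ (P₃ : Subgroup G) : Subgroup G)) with h | h
      · exact h
      · exfalso
        have h4 := Subgroup.eq_of_le_of_card_ge hle h
        exact hyH (h4 ▸ Subgroup.mem_inf.2 ⟨hyP, hy3⟩)
    have hcard₃ : Nat.card ((P : Subgroup G) ⊓ (P₃ : Subgroup G) : Subgroup G) ≤
        Nat.card (P : Subgroup G) := Subgroup.card_le_of_le inf_le_left
    have h5 := ih _ (by omega) P₃ h3 rfl
    exact hH (eq_bot_iff.2 (h5 ▸ hle))

/-- Maximal nilpotent subgroups are TI. -/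
theorem maxNilp_TI {G : Type u} [Group G] [Finite G] (hG : Cfsg.IsMinSimpleOddOrder G)
    (hCN : IsCNGroup G) {H : Subgroup G} (hH : Group.IsNilpotent H)
    (hmax : ∀ L : Subgroup G, Group.IsNilpotent L → H ≤ L → L = H) :
    ∀ g : G, H.map (MulAut.conj g).toMonoidHom ≠ H →
      H ⊓ H.map (MulAut.conj g).toMonoidHom = ⊥ := by
  by_cases hpp : IsPrimePow (Nat.card H)
  · obtain ⟨p, k, hp, hk0, hpk⟩ := (isPrimePow_nat_iff _).1 hpp
    haveI : Fact p.Prime := ⟨hp⟩
    have hHp : IsPGroup p H := IsPGroup.of_card hpk.symm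
    obtain ⟨P, hHP⟩ := hHp.exists_le_sylow
    have hPH : (P : Subgroup G) = H := hmax _ P.isPGroup'.isNilpotent hHP
    intro g hg
    rw [← hPH] at hg ⊢
    rw [← Cfsg.Agent.Lib.Helper11.sylow_smul_coe] at hg ⊢
    exact sylow_TI hG hCN P _ (g • P) hg rfl
  · intro g hg
    by_cases h1 : Nat.card H = 1
    · rw [Subgroup.card_eq_one.1 h1]; exact bot_inf_eq _
    · exact (Cfsg.Agent.S1477.result hCN H hH hmax).2.1 hpp h1 g hg

theorem maxNilp_cent {G : Type u} [Group G] [Finite G] (hG : Cfsg.IsMinSimpleOddOrder G)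
    (hCN : IsCNGroup G) {H : Subgroup G} (hH : Group.IsNilpotent H)
    (hmax : ∀ L : Subgroup G, Group.IsNilpotent L → H ≤ L → L = H) {x : G} (hx : x ∈ H)
    (hx1 : x ≠ 1) : Subgroup.centralizer ({x} : Set G) ≤ H :=
  (Cfsg.Agent.S1477.result hCN H hH hmax).2.2 (maxNilp_TI hG hCN hH hmax) x hx hx1

theorem maxNilp_ne_bot {G : Type u} [Group G] [Finite G] (hG : Cfsg.IsMinSimpleOddOrder G)
    (hCN : IsCNGroup G) {H : Subgroup G}
    (hmax : ∀ L : Subgroup G, Group.IsNilpotent L → H ≤ L → L = H) : H ≠ ⊥ := by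
  haveI : IsSimpleGroup G := simple_of_minSimple hG
  intro hbot
  obtain ⟨x, hx1⟩ := exists_ne (1 : G)
  have h1 : Group.IsNilpotent (Subgroup.zpowers x) := by
    refine nilpotent_of_le (hCN x hx1) ?_
    rw [Subgroup.zpowers_le]
    exact Subgroup.mem_centralizer_singleton_iff.2 rfl
  have h2 := hmax _ h1 (hbot ▸ bot_le)
  rw [hbot] at h2
  exact hx1 (Subgroup.mem_bot.1 (h2 ▸ Subgroup.mem_zpowers x))

theorem not_nilpotent_of_minSimple {G : Type u} [Group G]
    (hG : Cfsg.IsMinSimpleOddOrder G) : ¬ Group.IsNilpotent G := by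
  haveI : IsSimpleGroup G := simple_of_minSimple hG
  intro hnil
  haveI := hnil
  have hsol : Group.IsSolvable G := inferInstance
  apply hG.2.2.1
  exact ⟨⟨IsSimpleGroup.comm_iff_isSolvable.2 hsol⟩⟩

theorem maxNilp_ne_top {G : Type u} [Group G] (hG : Cfsg.IsMinSimpleOddOrder G)
    {H : Subgroup G} (hH : Group.IsNilpotent H) : H ≠ ⊤ := by
  intro htop
  apply not_nilpotent_of_minSimple hG
  exact nilpotent_of_forall_mem hH (fun x => htop ▸ Subgroup.mem_top x)

theorem conj_smul_eq_map {G : Type*} [Group G] (H : Subgroup G) (g : G) :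
    MulAut.conj g • H = H.map (MulAut.conj g).toMonoidHom := by
  ext x
  rw [Cfsg.Agent.Lib.Helper4.mem_conj_smul_iff, Cfsg.Agent.Lib.Helper11.mem_map_conj_iff']

/-- A maximal nilpotent subgroup is not self-normalizing. -/
theorem maxNilp_normalizer_ne {G : Type u} [Group G] [Finite G]
    (hG : Cfsg.IsMinSimpleOddOrder G) (hCN : IsCNGroup G) {H : Subgroup G}
    (hH : Group.IsNilpotent H)
    (hmax : ∀ L : Subgroup G, Group.IsNilpotent L → H ≤ L → L = H) :
    Subgroup.normalizer (H : Set G) ≠ H := by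
  haveI : IsSimpleGroup G := simple_of_minSimple hG
  intro hNH
  have hFrob : Cfsg.IsFrobeniusComplement H := by
    refine ⟨maxNilp_ne_bot hG hCN hmax, maxNilp_ne_top hG hH, fun g hg => ?_⟩
    rw [conj_smul_eq_map]
    apply maxNilp_TI hG hCN hH hmax
    intro h
    exact hg (hNH ▸ Cfsg.Agent.Lib.Helper11.mem_normalizer_of_map_conj_eq h)
  obtain ⟨N, -, hNn, hNc⟩ := Cfsg.Agent.S0035.result H hFrob
  rcases hNn.eq_bot_or_eq_top with h | h
  · rw [h] at hNc
    exact maxNilp_ne_top hG hH (Subgroup.isComplement'_bot_left.1 hNc)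
  · rw [h] at hNc
    exact maxNilp_ne_bot hG hCN hmax (Subgroup.isComplement'_top_left.1 hNc)


/-- The Frobenius structure of a proper non-nilpotent subgroup. -/
theorem frob_type {G : Type u} [Group G] [Finite G] (hG : Cfsg.IsMinSimpleOddOrder G)
    (hCN : IsCNGroup G) {M : Subgroup G} (hM : M ≠ ⊤) (hnn : ¬ Group.IsNilpotent M) :
    ∃ F E : Subgroup G, F = Cfsg.fittingHallOf M ∧ F ≠ ⊥ ∧ Group.IsNilpotent F ∧
      (∀ m ∈ M, ∀ f ∈ F, m * f * m⁻¹ ∈ F) ∧ Cfsg.IsComplIn F E M ∧ E ≠ ⊥ ∧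
      (∀ e ∈ E, e ≠ 1 → F ⊓ Subgroup.centralizer ({e} : Set G) = ⊥) ∧
      (∀ L : Subgroup G, L ≤ M → Group.IsNilpotent L → (∀ m ∈ M, ∀ l ∈ L, m * l * m⁻¹ ∈ L) →
        (Nat.card L).Coprime L.index → L ≤ F) ∧
      (∀ N' : Subgroup G, N' ≤ M → N' ⊓ F = ⊥ → Group.IsNilpotent N') := by
  haveI : Group.IsSolvable M := hG.2.2.2 M hM
  have hCNM := isCN_subgroup hCN M
  have hF1 : Cfsg.fittingHall M ≠ ⊥ := by
    rcases solvable_cn_structure hCNM hnn with h | ⟨-, p', hp', -, K', hK'⟩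
    · exact h
    · haveI : Fact p'.Prime := ⟨hp'⟩
      exact absurd ⟨K', hK'⟩ (no_tsin hG hCN M)
  obtain ⟨-, ⟨E', hcompl, -, -, hEne, hfpf⟩, hquot⟩ := frobenius_of_normal_sylow hCNM hnn hF1
  have hFn : (Cfsg.fittingHall M).Normal := inferInstance
  refine ⟨(Cfsg.fittingHall M).map M.subtype, E'.map M.subtype, rfl, ?_, ?_, ?_, ?_, ?_, ?_, ?_, ?_⟩
  · rw [Ne, Subgroup.map_eq_bot_iff_of_injective _ M.subtype_injective]
    exact hF1
  · exact (nilpotent_map_subtype_iff (Cfsg.fittingHall M)).2 (fittingHall_nilpotent M)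
  · intro m hm f hf
    obtain ⟨hf1, hf2⟩ := (mem_map_subtype_iff _ f).1 hf
    exact (mem_map_subtype_iff _ _).2 ⟨M.mul_mem (M.mul_mem hm hf1) (M.inv_mem hm),
      hFn.conj_mem _ hf2 ⟨m, hm⟩⟩
  · refine ⟨Subgroup.map_subtype_le _, Subgroup.map_subtype_le _, ?_, ?_⟩
    · rw [eq_bot_iff]
      intro x hx
      obtain ⟨hx1, hx2⟩ := Subgroup.mem_inf.1 hx
      obtain ⟨hxM, hxF⟩ := (mem_map_subtype_iff _ x).1 hx1
      obtain ⟨_, hxE⟩ := (mem_map_subtype_iff _ x).1 hx2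
      have h1 : (⟨x, hxM⟩ : M) ∈ Cfsg.fittingHall M ⊓ E' := Subgroup.mem_inf.2 ⟨hxF, hxE⟩
      rw [disjoint_iff.1 hcompl.disjoint, Subgroup.mem_bot] at h1
      exact Subgroup.mem_bot.2 (congrArg Subtype.val h1)
    · intro m hm
      obtain ⟨⟨⟨f, hf⟩, ⟨e, he⟩⟩, hfe⟩ := hcompl.2 ⟨m, hm⟩
      have h1 : (f : G) * (e : G) = m := congrArg Subtype.val hfe
      exact ⟨(f : G), Subgroup.mem_map_of_mem _ hf, (e : G), Subgroup.mem_map_of_mem _ he, h1.symm⟩
  · rw [Ne, Subgroup.map_eq_bot_iff_of_injective _ M.subtype_injective]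
    exact hEne
  · intro e he he1
    obtain ⟨heM, heE⟩ := (mem_map_subtype_iff _ e).1 he
    have h1 := hfpf ⟨e, heM⟩ heE (fun h => he1 (congrArg Subtype.val h))
    rw [eq_bot_iff]
    intro x hx
    obtain ⟨hx1, hx2⟩ := Subgroup.mem_inf.1 hx
    obtain ⟨hxM, hxF⟩ := (mem_map_subtype_iff _ x).1 hx1
    have h2 : (⟨x, hxM⟩ : M) ∈ Cfsg.fittingHall M ⊓ Subgroup.centralizer ({⟨e, heM⟩} : Set M) := by
      refine Subgroup.mem_inf.2 ⟨hxF, Subgroup.mem_centralizer_singleton_iff.2 (Subtype.ext ?_)⟩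
      exact Subgroup.mem_centralizer_singleton_iff.1 hx2
    rw [h1, Subgroup.mem_bot] at h2
    exact Subgroup.mem_bot.2 (congrArg Subtype.val h2)
  · intro L hLM hLnil hLconj hLcop
    haveI h1 : (L.subgroupOf M).Normal := by
      refine ⟨fun t ht n => ?_⟩
      rw [Subgroup.mem_subgroupOf] at ht ⊢
      exact hLconj n n.2 t ht
    have h2 : Group.IsNilpotent (L.subgroupOf M) := by
      haveI := hLnil
      exact Group.nilpotent_of_mulEquiv (Subgroup.subgroupOfEquivOfLe hLM).symm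
    have h3 : (Nat.card (L.subgroupOf M)).Coprime (L.subgroupOf M).index := by
      rw [Nat.card_congr (Subgroup.subgroupOfEquivOfLe hLM).toEquiv]
      exact Nat.Coprime.coprime_dvd_right (Subgroup.relIndex_dvd_index_of_le hLM) hLcop
    have h4 := le_fittingHall (L.subgroupOf M) h2 h3
    intro l hl
    exact (mem_map_subtype_iff _ l).2 ⟨hLM hl, h4 (Subgroup.mem_subgroupOf.2 hl)⟩
  · intro N' hN'M hN'F
    haveI := hquot
    refine isNilpotent_of_ker_le_center
      ((QuotientGroup.mk' (Cfsg.fittingHall M)).comp (Subgroup.inclusion hN'M)) ?_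
    intro n hn
    rw [MonoidHom.mem_ker, MonoidHom.comp_apply, QuotientGroup.mk'_apply,
      QuotientGroup.eq_one_iff] at hn
    have h1 : (n : G) ∈ N' ⊓ (Cfsg.fittingHall M).map M.subtype :=
      Subgroup.mem_inf.2 ⟨n.2, (mem_map_subtype_iff _ _).2 ⟨hN'M n.2, hn⟩⟩
    rw [hN'F, Subgroup.mem_bot] at h1
    have h2 : n = 1 := Subtype.ext h1
    rw [h2]
    exact Subgroup.one_mem _


theorem exists_ne_one_of_ne_bot {G : Type*} [Group G] {H : Subgroup G} (h : H ≠ ⊥) :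
    ∃ x ∈ H, x ≠ 1 := by
  by_contra hcon
  apply h
  rw [eq_bot_iff]
  intro a ha
  rw [Subgroup.mem_bot]
  by_contra ha1
  exact hcon ⟨a, ha, ha1⟩

/-- If a subgroup `M` normalizes a nontrivial subgroup of the maximal nilpotent subgroup `H`, then
`M` normalizes `H`. -/
theorem le_normalizer_of_normalizes_sub {G : Type u} [Group G] [Finite G]
    (hG : Cfsg.IsMinSimpleOddOrder G) (hCN : IsCNGroup G) {H : Subgroup G}
    (hH : Group.IsNilpotent H)
    (hmax : ∀ L : Subgroup G, Group.IsNilpotent L → H ≤ L → L = H) {M F : Subgroup G}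
    (hF1 : F ≠ ⊥) (hFH : F ≤ H) (hconj : ∀ m ∈ M, ∀ f ∈ F, m * f * m⁻¹ ∈ F) :
    M ≤ Subgroup.normalizer (H : Set G) := by
  obtain ⟨z, hzF, hz1⟩ := exists_ne_one_of_ne_bot hF1
  intro m hm
  apply Cfsg.Agent.Lib.Helper11.mem_normalizer_of_map_conj_eq
  by_contra hne
  have hTI := maxNilp_TI hG hCN hH hmax m hne
  have h1 : m⁻¹ * z * m ∈ F := by
    have := hconj m⁻¹ (M.inv_mem hm) z hzF
    rwa [inv_inv] at this
  have h2 : z ∈ H ⊓ H.map (MulAut.conj m).toMonoidHom :=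
    Subgroup.mem_inf.2 ⟨hFH hzF, (Cfsg.Agent.Lib.Helper11.mem_map_conj_iff' H m z).2 (hFH h1)⟩
  rw [hTI] at h2
  exact hz1 (Subgroup.mem_bot.1 h2)

/-- Structure of the normalizer of a maximal nilpotent subgroup. -/
theorem maxNilp_structure {G : Type u} [Group G] [Finite G] (hG : Cfsg.IsMinSimpleOddOrder G)
    (hCN : IsCNGroup G) {H : Subgroup G} (hH : Group.IsNilpotent H)
    (hmax : ∀ L : Subgroup G, Group.IsNilpotent L → H ≤ L → L = H) :
    (Nat.card H).Coprime H.index ∧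
      (∀ g : G, H.map (MulAut.conj g).toMonoidHom ≠ H →
        H ⊓ H.map (MulAut.conj g).toMonoidHom = ⊥) ∧
      IsCoatom (Subgroup.normalizer (H : Set G)) ∧
      ∃ E : Subgroup G, Cfsg.IsComplIn H E (Subgroup.normalizer (H : Set G)) ∧ E ≠ ⊥ ∧
        ∀ e ∈ E, e ≠ 1 → H ⊓ Subgroup.centralizer ({e} : Set G) = ⊥ := by
  haveI : IsSimpleGroup G := simple_of_minSimple hG
  have hHall := (Cfsg.Agent.S1477.result hCN H hH hmax).1
  have hTI := maxNilp_TI hG hCN hH hmax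
  have hHbot := maxNilp_ne_bot hG hCN hmax
  have hHtop := maxNilp_ne_top hG hH
  obtain ⟨N, hN⟩ : ∃ N : Subgroup G, N = Subgroup.normalizer (H : Set G) := ⟨_, rfl⟩
  rw [← hN]
  have hHN : H ≤ N := by rw [hN]; exact Subgroup.le_normalizer
  have hNtop : N ≠ ⊤ := by
    intro htop
    rw [hN] at htop
    rcases (normal_of_normalizer_eq_top htop).eq_bot_or_eq_top with h1 | h1
    · exact hHbot h1
    · exact hHtop h1
  have hNH : N ≠ H := by rw [hN]; exact maxNilp_normalizer_ne hG hCN hH hmax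
  have hNnn : ¬ Group.IsNilpotent N := fun h => hNH (hmax N h hHN)
  obtain ⟨F, E, -, hF1, hFnil, hFconj, hcompl, hE1, hfpf, hFmax, -⟩ :=
    frob_type hG hCN hNtop hNnn
  have hHF : H ≤ F := hFmax H hHN hH (conj_of_le_normalizer (le_of_eq hN)) hHall
  have hFH : F = H := hmax F hFnil hHF
  rw [hFH] at hcompl hfpf
  refine ⟨hHall, hTI, ⟨hNtop, fun M hNM => ?_⟩, E, hcompl, hE1, hfpf⟩
  by_contra hMtop
  have hMnn : ¬ Group.IsNilpotent M := by
    intro h
    have h1 := hmax M h (hHN.trans hNM.le)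
    exact hNH (le_antisymm (h1 ▸ hNM.le) hHN)
  obtain ⟨F', E', -, hF'1, hF'nil, hF'conj, -, -, -, -, hF'quot⟩ := frob_type hG hCN hMtop hMnn
  by_cases hFH' : F' ⊓ H = ⊥
  · have h1 : N ⊓ F' = ⊥ := by
      rw [eq_bot_iff]
      intro n hn
      obtain ⟨hnN, hnF⟩ := Subgroup.mem_inf.1 hn
      rw [Subgroup.mem_bot]
      by_contra hn1
      obtain ⟨h, hh, hh1⟩ := exists_ne_one_of_ne_bot hHbot
      have h2 : n * h * n⁻¹ * h⁻¹ ∈ H := by
        rw [hN] at hnN
        exact H.mul_mem ((Subgroup.mem_normalizer_iff.1 hnN h).1 hh) (H.inv_mem hh)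
      have h3 : n * h * n⁻¹ * h⁻¹ ∈ F' := by
        have : n * h * n⁻¹ * h⁻¹ = n * (h * n⁻¹ * h⁻¹) := by group
        rw [this]
        exact F'.mul_mem hnF (hF'conj h (hNM.le (hHN hh)) _ (F'.inv_mem hnF))
      have h4 : n * h * n⁻¹ * h⁻¹ ∈ F' ⊓ H := Subgroup.mem_inf.2 ⟨h3, h2⟩
      rw [hFH', Subgroup.mem_bot] at h4
      have h5 : n * h = h * n := by
        calc n * h = (n * h * n⁻¹ * h⁻¹) * (h * n) := by group
          _ = h * n := by rw [h4, one_mul]
      have hnH : n ∈ H :=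
        maxNilp_cent hG hCN hH hmax hh hh1 (Subgroup.mem_centralizer_singleton_iff.2 h5)
      have h6 : n ∈ F' ⊓ H := Subgroup.mem_inf.2 ⟨hnF, hnH⟩
      rw [hFH', Subgroup.mem_bot] at h6
      exact hn1 h6
    exact hNnn (hF'quot N hNM.le h1)
  · obtain ⟨w, hw, hw1⟩ := exists_ne_one_of_ne_bot hFH'
    obtain ⟨hwF, hwH⟩ := Subgroup.mem_inf.1 hw
    have hcw := maxNilp_cent hG hCN hH hmax hwH hw1
    obtain ⟨z, hz, hz1⟩ := exists_ne_one_of_ne_bot (centerOf_ne_bot hF'1 hF'nil)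
    obtain ⟨hzF, hzc⟩ := Subgroup.mem_inf.1 hz
    rw [Subgroup.mem_centralizer_iff] at hzc
    have hzH : z ∈ H := hcw (Subgroup.mem_centralizer_singleton_iff.2 (hzc w hwF).symm)
    have hcz := maxNilp_cent hG hCN hH hmax hzH hz1
    have hF'H : F' ≤ H := fun f hf =>
      hcz (Subgroup.mem_centralizer_singleton_iff.2 (hzc f hf))
    have hMN : M ≤ N := by
      rw [hN]
      exact le_normalizer_of_normalizes_sub hG hCN hH hmax hF'1 hF'H hF'conj
    exact absurd hMN (not_le_of_gt hNM)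

/-- Structure of the maximal subgroups. -/
theorem coatom_structure {G : Type u} [Group G] [Finite G] (hG : Cfsg.IsMinSimpleOddOrder G)
    (hCN : IsCNGroup G) {M : Subgroup G} (hM : IsCoatom M) :
    ∃ H E : Subgroup G, H = Cfsg.fittingHallOf M ∧ Group.IsNilpotent H ∧
      (∀ L : Subgroup G, Group.IsNilpotent L → H ≤ L → L = H) ∧
      M = Subgroup.normalizer (H : Set G) ∧ Cfsg.IsComplIn H E M ∧ H ≠ ⊥ ∧ E ≠ ⊥ ∧
      ∀ e ∈ E, e ≠ 1 → H ⊓ Subgroup.centralizer ({e} : Set G) = ⊥ := by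
  haveI : IsSimpleGroup G := simple_of_minSimple hG
  have hMtop : M ≠ ⊤ := hM.1
  have hMnn : ¬ Group.IsNilpotent M := by
    intro hnil
    obtain ⟨H₁, hMH₁, hH₁nil, hH₁max⟩ := exists_maxNilp_ge hnil
    have hH₁top := maxNilp_ne_top hG hH₁nil
    have hMH : M = H₁ := by
      rcases eq_or_lt_of_le hMH₁ with h | h
      · exact h
      · exact absurd (hM.2 H₁ h) hH₁top
    subst hMH
    obtain ⟨-, -, hco, E, hcompl, hE1, -⟩ := maxNilp_structure hG hCN hH₁nil hH₁max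
    have hNM : Subgroup.normalizer (M : Set G) = M := by
      rcases eq_or_lt_of_le (Subgroup.le_normalizer : M ≤ Subgroup.normalizer (M : Set G)) with
        h | h
      · exact h.symm
      · exact absurd (hM.2 _ h) hco.1
    apply hE1
    rw [eq_bot_iff, ← hcompl.2.2.1]
    refine le_inf ?_ le_rfl
    rw [hNM] at hcompl
    exact hcompl.2.1
  obtain ⟨F, E, hFdef, hF1, hFnil, hFconj, hcompl, hE1, hfpf, hFmax, -⟩ :=
    frob_type hG hCN hMtop hMnn
  have hFmaxnil : ∀ L : Subgroup G, Group.IsNilpotent L → F ≤ L → L = F := by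
    intro L hL hFL
    obtain ⟨H₁, hLH₁, hH₁nil, hH₁max⟩ := exists_maxNilp_ge hL
    have hMN : M ≤ Subgroup.normalizer (H₁ : Set G) :=
      le_normalizer_of_normalizes_sub hG hCN hH₁nil hH₁max hF1 (hFL.trans hLH₁) hFconj
    obtain ⟨hHall, -, hco, -⟩ := maxNilp_structure hG hCN hH₁nil hH₁max
    have hMeq : M = Subgroup.normalizer (H₁ : Set G) := by
      rcases eq_or_lt_of_le hMN with h | h
      · exact h
      · exact absurd (hM.2 _ h) hco.1
    have hH₁F : H₁ ≤ F := by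
      apply hFmax H₁ (hMeq ▸ Subgroup.le_normalizer) hH₁nil _ hHall
      exact conj_of_le_normalizer (le_of_eq hMeq)
    exact le_antisymm (hLH₁.trans hH₁F) hFL
  have hMnorm : M = Subgroup.normalizer (F : Set G) := by
    have h1 : M ≤ Subgroup.normalizer (F : Set G) := le_normalizer_of_conj hFconj
    rcases eq_or_lt_of_le h1 with h | h
    · exact h
    · exfalso
      have h2 := hM.2 _ h
      rcases (normal_of_normalizer_eq_top h2).eq_bot_or_eq_top with h3 | h3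
      · exact hF1 h3
      · exact maxNilp_ne_top hG hFnil h3
  exact ⟨F, E, hFdef, hFnil, hFmaxnil, hMnorm, hcompl, hF1, hE1, hfpf⟩

end Cfsg.Agent.Lib.Helper4.CN
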