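import Mathlib
import Cfsg.Agent.Lib.Helper4.CNMax

/-!
# The partition of a minimal simple CN-group of odd order by its maximal nilpotent subgroups
-/

set_option autoImplicit false
set_option linter.style.haveILetI false

namespace Cfsg.Agent.Lib.Helper4.CN

open Cfsg

universe u

theorem normalizer_map_conj' {G : Type*} [Group G] (H : Subgroup G) (g : G) :
    Subgroup.normalizer ((H.map (MulAut.conj g).toMonoidHom : Subgroup G) : Set G) =
      (Subgroup.normalizer (H : Set G)).map (MulAut.conj g).toMonoidHom := by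
  ext x
  rw [Cfsg.Agent.Lib.Helper11.mem_map_conj_iff', Subgroup.mem_normalizer_iff,
    Subgroup.mem_normalizer_iff]
  constructor
  · intro h s
    have h1 := h (g * s * g⁻¹)
    rw [Cfsg.Agent.Lib.Helper11.mem_map_conj_iff', Cfsg.Agent.Lib.Helper11.mem_map_conj_iff'] at h1
    have e1 : g⁻¹ * (g * s * g⁻¹) * g = s := by group
    have e2 : g⁻¹ * (x * (g * s * g⁻¹) * x⁻¹) * g = g⁻¹ * x * g * s * (g⁻¹ * x * g)⁻¹ := by group
    rw [e1, e2] at h1
    exact h1
  · intro h t
    have h1 := h (g⁻¹ * t * g)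
    rw [Cfsg.Agent.Lib.Helper11.mem_map_conj_iff', Cfsg.Agent.Lib.Helper11.mem_map_conj_iff']
    have e2 : g⁻¹ * x * g * (g⁻¹ * t * g) * (g⁻¹ * x * g)⁻¹ = g⁻¹ * (x * t * x⁻¹) * g := by group
    rw [e2] at h1
    exact h1

/-- A maximal nilpotent subgroup is the `fittingHallOf` of its normalizer. -/
theorem maxNilp_eq_fittingHallOf {G : Type u} [Group G] [Finite G]
    (hG : Cfsg.IsMinSimpleOddOrder G) (hCN : IsCNGroup G) {H : Subgroup G}
    (hH : Group.IsNilpotent H)
    (hmax : ∀ L : Subgroup G, Group.IsNilpotent L → H ≤ L → L = H) :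
    H = Cfsg.fittingHallOf (Subgroup.normalizer (H : Set G)) := by
  obtain ⟨hHall, -, hco, -⟩ := maxNilp_structure hG hCN hH hmax
  have hNnn : ¬ Group.IsNilpotent (Subgroup.normalizer (H : Set G)) := by
    intro h
    exact maxNilp_normalizer_ne hG hCN hH hmax (hmax _ h Subgroup.le_normalizer)
  obtain ⟨F, E₂, hFdef, -, hFnil, -, -, -, -, hFmax, -⟩ := frob_type hG hCN hco.1 hNnn
  have hHF : H ≤ F :=
    hFmax H Subgroup.le_normalizer hH (conj_of_le_normalizer le_rfl) hHall
  have hFH : F = H := hmax F hFnil hHF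
  rw [← hFdef, hFH]

theorem prod_dvd_of_pairwise_coprime {ι : Type*} (s : Finset ι) (f : ι → ℕ) (n : ℕ)
    (hcop : ∀ i ∈ s, ∀ j ∈ s, i ≠ j → (f i).Coprime (f j)) (hdvd : ∀ i ∈ s, f i ∣ n) :
    ∏ i ∈ s, f i ∣ n := by
  classical
  induction s using Finset.induction_on with
  | empty => simp
  | insert a r har ih =>
    rw [Finset.prod_insert har]
    apply Nat.Coprime.mul_dvd_of_dvd_of_dvd
    · apply Nat.Coprime.prod_right
      intro i hi
      exact hcop a (Finset.mem_insert_self _ _) i (Finset.mem_insert_of_mem hi)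
        (fun h => har (h ▸ hi))
    · exact hdvd a (Finset.mem_insert_self _ _)
    · exact ih (fun i hi j hj => hcop i (Finset.mem_insert_of_mem hi) j (Finset.mem_insert_of_mem hj))
        (fun i hi => hdvd i (Finset.mem_insert_of_mem hi))

/-- The maximal nilpotent subgroups partition a minimal simple CN-group of odd order. -/
theorem cn_partition {G : Type u} [Group G] [Finite G] (hG : Cfsg.IsMinSimpleOddOrder G)
    (hCN : IsCNGroup G) (k : ℕ) (Mrep : Fin k → Subgroup G) (hmax : ∀ i, IsCoatom (Mrep i))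
    (hnc : ∀ i j, i ≠ j → ∀ g : G, Mrep j ≠ (Mrep i).map (MulAut.conj g).toMonoidHom)
    (hall : ∀ M : Subgroup G, IsCoatom M →
      ∃ i, ∃ g : G, M = (Mrep i).map (MulAut.conj g).toMonoidHom) :
    (∀ i j, i ≠ j → (Nat.card (Cfsg.fittingHallOf (Mrep i))).Coprime
        (Nat.card (Cfsg.fittingHallOf (Mrep j)))) ∧
      ∏ i, Nat.card (Cfsg.fittingHallOf (Mrep i)) = Nat.card G ∧
      ∀ x : G, ∃ i, ∃ g : G, g * x * g⁻¹ ∈ Cfsg.fittingHallOf (Mrep i) := by
  haveI : IsSimpleGroup G := simple_of_minSimple hG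
  have hstr : ∀ i, IsMaxNilp (Cfsg.fittingHallOf (Mrep i)) ∧
      Mrep i = Subgroup.normalizer (Cfsg.fittingHallOf (Mrep i) : Set G) := by
    intro i
    obtain ⟨H, E, hdef, hnil, hmax', hnorm, -⟩ := coatom_structure hG hCN (hmax i)
    rw [← hdef]
    exact ⟨⟨hnil, hmax'⟩, hnorm⟩
  have hcop : ∀ i j, i ≠ j → (Nat.card (Cfsg.fittingHallOf (Mrep i))).Coprime
      (Nat.card (Cfsg.fittingHallOf (Mrep j))) := by
    intro i j hij
    rcases maxNilp_conj_or_coprime hCN (hstr i).1 (hstr j).1 with ⟨g, hg⟩ | h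
    · exfalso
      apply hnc i j hij g
      have h1 := (hstr j).2
      rw [hg, normalizer_map_conj', ← (hstr i).2] at h1
      exact h1
    · exact h
  have hconj : ∀ x : G, x ≠ 1 → ∃ i, ∃ g : G, g * x * g⁻¹ ∈ Cfsg.fittingHallOf (Mrep i) := by
    intro x hx1
    have hznil : Group.IsNilpotent (Subgroup.zpowers x) :=
      nilpotent_of_le (hCN x hx1)
        (Subgroup.zpowers_le.2 (Subgroup.mem_centralizer_singleton_iff.2 rfl))
    obtain ⟨H, hxH, hHnil, hHmax⟩ := exists_maxNilp_ge hznil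
    obtain ⟨-, -, hco, -⟩ := maxNilp_structure hG hCN hHnil hHmax
    obtain ⟨i, g, hig⟩ := hall _ hco
    have hmax' := (hstr i).1.conj g
    have hnorm' : Subgroup.normalizer
        (((Cfsg.fittingHallOf (Mrep i)).map (MulAut.conj g).toMonoidHom : Subgroup G) : Set G) =
        Subgroup.normalizer (H : Set G) := by
      rw [normalizer_map_conj', ← (hstr i).2, hig]
    have e1 := maxNilp_eq_fittingHallOf hG hCN hHnil hHmax
    have e2 := maxNilp_eq_fittingHallOf hG hCN hmax'.1 hmax'.2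
    rw [hnorm'] at e2
    have hx : x ∈ (Cfsg.fittingHallOf (Mrep i)).map (MulAut.conj g).toMonoidHom := by
      rw [e2, ← e1]; exact hxH (Subgroup.mem_zpowers x)
    rw [Cfsg.Agent.Lib.Helper11.mem_map_conj_iff'] at hx
    exact ⟨i, g⁻¹, by rwa [inv_inv]⟩
  refine ⟨hcop, ?_, ?_⟩
  · have hdvd : ∏ i, Nat.card (Cfsg.fittingHallOf (Mrep i)) ∣ Nat.card G :=
      prod_dvd_of_pairwise_coprime _ _ _ (fun i _ j _ hij => hcop i j hij)
        (fun i _ => Subgroup.card_subgroup_dvd_card _)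
    obtain ⟨c, hc⟩ := hdvd
    by_cases hc1 : c = 1
    · rw [hc, hc1, mul_one]
    · exfalso
      obtain ⟨p, hp, hpc⟩ := Nat.exists_prime_and_dvd hc1
      haveI : Fact p.Prime := ⟨hp⟩
      have hpG : p ∣ Nat.card G := hc ▸ dvd_mul_of_dvd_right hpc _
      obtain ⟨x, hxo⟩ := exists_prime_orderOf_dvd_card' p hpG
      have hx1 : x ≠ 1 := by
        intro h
        rw [h, orderOf_one] at hxo
        exact hp.one_lt.ne hxo
      obtain ⟨i, g, hgx⟩ := hconj x hx1
      have hpH : p ∣ Nat.card (Cfsg.fittingHallOf (Mrep i)) := by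
        have := Subgroup.orderOf_dvd_natCard _ hgx
        rwa [Cfsg.Agent.S1477.orderOf_conj', hxo] at this
      have hHall := (Cfsg.Agent.S1477.result hCN _ (hstr i).1.1 (hstr i).1.2).1
      obtain ⟨d, hd⟩ := Finset.dvd_prod_of_mem
        (fun i => Nat.card (Cfsg.fittingHallOf (Mrep i))) (Finset.mem_univ i)
      have hidx : (Cfsg.fittingHallOf (Mrep i)).index = d * c := by
        have h1 := (Cfsg.fittingHallOf (Mrep i)).card_mul_index
        rw [hc, hd, mul_assoc] at h1
        exact Nat.eq_of_mul_eq_mul_left Nat.card_pos h1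
      have hpi : p ∣ (Cfsg.fittingHallOf (Mrep i)).index := hidx ▸ dvd_mul_of_dvd_right hpc _
      exact hp.one_lt.ne' (Nat.eq_one_of_dvd_coprimes hHall hpH hpi)
  · intro x
    by_cases hx1 : x = 1
    · obtain ⟨y, hy⟩ := exists_ne (1 : G)
      obtain ⟨i, g, -⟩ := hconj y hy
      exact ⟨i, 1, by rw [hx1]; simp⟩
    · exact hconj x hx1

end Cfsg.Agent.Lib.Helper4.CN
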