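import Mathlib
import Cfsg.Agent.Lib.Helper4.CNPart
import Cfsg.Agent.Lib.Helper3.FrobInd

/-!
# Reduction of the odd-order CN-theorem to the minimal simple case

A minimal counterexample to "CN-groups of odd order are solvable" is simple: if `P` is a
nontrivial normal `p`-subgroup, either some `p'`-element has a fixed point on `P` (then a Sylow
`p`-subgroup is normal) or `G ⧸ P` is again a CN-group.
-/

set_option autoImplicit false

namespace Cfsg.Agent.Lib.Helper4.CN

open Cfsg

universe u

section red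

variable {G : Type*} [Group G] [Finite G]

/-- Iterated commutators `[P, U, U, ..., U]`. -/
def iterComm {G : Type*} [Group G] (P U : Subgroup G) : ℕ → Subgroup G
  | 0 => P
  | n + 1 => ⁅iterComm P U n, U⁆

/-- A nontrivial subgroup `P` of a `p`-group `U`, normal in `G`, contains a non-identity element
central in `U`. -/
theorem exists_central_of_normal_pgroup {p : ℕ} [Fact p.Prime] (P U : Subgroup G)
    [hPn : P.Normal] (hU : IsPGroup p U) (hPU : P ≤ U) (hP1 : P ≠ ⊥) :
    ∃ b ∈ P, b ≠ 1 ∧ ∀ u ∈ U, u * b = b * u := by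
  classical
  have hUnil : Group.IsNilpotent U := hU.isNilpotent
  set f : ℕ → Subgroup G := iterComm P U with hf
  have hf0 : f 0 = P := rfl
  have hfs : ∀ n, f (n + 1) = ⁅f n, U⁆ := fun n => rfl
  have hfP : ∀ n, f n ≤ P := by
    intro n
    induction n with
    | zero => exact le_rfl
    | succ d ih =>
      rw [hfs]
      exact (Subgroup.commutator_mono ih le_rfl).trans (Subgroup.commutator_le_left P U)
  have hfU : ∀ n, f n ≤ U.lowerCentralSeries n := by
    intro n
    induction n with
    | zero => exact hPU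
    | succ d ih =>
      rw [hfs, Subgroup.lowerCentralSeries_succ]
      exact Subgroup.commutator_mono ih le_rfl
  have hex : ∃ n, f n = ⊥ := by
    obtain ⟨n, hn⟩ := (Subgroup.isNilpotent_iff_lowerCentralSeries U).mp hUnil
    exact ⟨n, le_bot_iff.mp (hn ▸ hfU n)⟩
  have hstep : ∀ n, f n = ⊥ → ∃ m, f m ≠ ⊥ ∧ f (m + 1) = ⊥ := by
    intro n
    induction n with
    | zero => intro h; exact absurd h hP1
    | succ d ih =>
      intro h
      by_cases hd : f d = ⊥
      · exact ih hd
      · exact ⟨d, hd, h⟩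
  obtain ⟨n₀, hn₀⟩ := hex
  obtain ⟨m, hmin, h3⟩ := hstep n₀ hn₀
  rw [hfs] at h3
  rw [Subgroup.commutator_eq_bot_iff_le_centralizer] at h3
  obtain ⟨b, hb, hb1⟩ := exists_ne_one_of_ne_bot hmin
  exact ⟨b, hfP _ hb, hb1, fun u hu => Subgroup.mem_centralizer_iff.mp (h3 hb) u hu⟩

/-- If a non-identity `p'`-element of a CN-group centralizes a non-identity element of a normal
`p`-subgroup, the Sylow `p`-subgroups are normal. -/
theorem sylow_normal_of_not_fpf (hCN : IsCNGroup G) {p : ℕ} [Fact p.Prime] (P : Subgroup G)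
    [hPn : P.Normal] (hP : IsPGroup p P) {y b : G} (hy1 : y ≠ 1) (hyp : (orderOf y).Coprime p)
    (hb : b ∈ P) (hb1 : b ≠ 1) (hyb : y * b = b * y) (S₀ : Sylow p G) :
    (S₀ : Subgroup G).Normal := by
  have hP1 : P ≠ ⊥ := fun h => hb1 (by rw [h] at hb; exact Subgroup.mem_bot.mp hb)
  have hPS : ∀ S : Sylow p G, P ≤ (S : Subgroup G) := by
    intro S
    have h1 : IsPGroup p (P ⊔ (S : Subgroup G) : Subgroup G) :=
      IsPGroup.to_sup_of_normal_left hP S.isPGroup'
    have h2 := S.is_maximal' h1 le_sup_right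
    rw [← h2]; exact le_sup_left
  have hcop : ∀ t : G, (∃ j, orderOf t = p ^ j) → (orderOf y).Coprime (orderOf t) := by
    rintro t ⟨j, hj⟩; rw [hj]; exact Nat.Coprime.pow_right j hyp
  have hSy : ∀ S : Sylow p G, (S : Subgroup G) ≤ Subgroup.centralizer ({y} : Set G) := by
    intro S
    obtain ⟨a, haP, ha1, hac⟩ :=
      exists_central_of_normal_pgroup P (S : Subgroup G) S.isPGroup' (hPS S) hP1
    have hab : a ∈ Subgroup.centralizer ({b} : Set G) := by
      rw [Subgroup.mem_centralizer_singleton_iff]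
      exact (hac b (hPS S hb)).symm
    have hyb' : y ∈ Subgroup.centralizer ({b} : Set G) := by
      rw [Subgroup.mem_centralizer_singleton_iff]; exact hyb
    have hya : y * a = a * y := Cfsg.Agent.S1477.comm_of_coprime (hCN b hb1) hyb' hab
      (hcop a (orderOf_of_mem_pgroup hP haP))
    intro s hs
    rw [Subgroup.mem_centralizer_singleton_iff]
    have hsa : s ∈ Subgroup.centralizer ({a} : Set G) := by
      rw [Subgroup.mem_centralizer_singleton_iff]; exact hac s hs
    have hya' : y ∈ Subgroup.centralizer ({a} : Set G) := by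
      rw [Subgroup.mem_centralizer_singleton_iff]; exact hya
    exact (Cfsg.Agent.S1477.comm_of_coprime (hCN a ha1) hya' hsa
      (hcop s (orderOf_of_mem_sylow S hs))).symm
  refine ⟨fun s hs g => ?_⟩
  have hso : ∃ j, orderOf (g * s * g⁻¹) = p ^ j := by
    obtain ⟨j, hj⟩ := orderOf_of_mem_sylow S₀ hs
    exact ⟨j, by rw [Cfsg.Agent.S1477.orderOf_conj', hj]⟩
  have hpg : IsPGroup p (Subgroup.zpowers (g * s * g⁻¹)) := isPGroup_zpowers_iff.mpr hso
  obtain ⟨S, hS⟩ := hpg.exists_le_sylow
  exact mem_sylow_of_nilpotent (hCN y hy1) S₀ (hSy S₀) (hSy S (hS (Subgroup.mem_zpowers _))) hso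

/-- Under the fixed-point-free hypothesis, a `p`-element outside `P` cannot commute modulo `P`
with a non-identity `p'`-element. -/
theorem no_mixed (hCN : IsCNGroup G) {p : ℕ} [Fact p.Prime] (P : Subgroup G) [hPn : P.Normal]
    (hP : IsPGroup p P) (hP1 : P ≠ ⊥)
    (hstar : ∀ y : G, y ≠ 1 → (orderOf y).Coprime p → ∀ b ∈ P, y * b = b * y → b = 1)
    {x y : G} (hxP : x ∉ P) (hx : ∃ k, orderOf x = p ^ k) (hy1 : y ≠ 1)
    (hy : (orderOf y).Coprime p) (hxy : x * y * x⁻¹ * y⁻¹ ∈ P) : False := by
  have hfpf : ∀ h ∈ Subgroup.zpowers y, h ≠ 1 → ∀ k ∈ P, h * k = k * h → k = 1 := by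
    intro h hh hh1 k hk hhk
    exact hstar h hh1 (Nat.Coprime.coprime_dvd_left (orderOf_dvd_of_mem_zpowers hh) hy) k hk hhk
  obtain ⟨v, hv, hv2⟩ := Cfsg.Agent.Lib.Helper3.frob_coset_conj P (Subgroup.zpowers y) hfpf
    (Subgroup.mem_zpowers y) hy1 hxy
  set x' := v⁻¹ * x with hx'
  have hcomm : x' * y = y * x' := by
    have h1 : x * y * x⁻¹ = v * y * v⁻¹ := by rw [← hv2]; group
    calc x' * y = v⁻¹ * (x * y * x⁻¹) * x := by rw [hx']; group
      _ = v⁻¹ * (v * y * v⁻¹) * x := by rw [h1]
      _ = y * x' := by rw [hx']; group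
  have hx'P : x' ∉ P := by
    intro h
    apply hxP
    have h2 : x = v * x' := by rw [hx']; group
    rw [h2]; exact P.mul_mem hv h
  have hx'1 : x' ≠ 1 := fun h => hx'P (h ▸ P.one_mem)
  have hU : IsPGroup p (P ⊔ Subgroup.zpowers x : Subgroup G) :=
    IsPGroup.to_sup_of_normal_left hP (isPGroup_zpowers_iff.mpr hx)
  obtain ⟨b, hbP, hb1, hbc⟩ :=
    exists_central_of_normal_pgroup P (P ⊔ Subgroup.zpowers x) hU le_sup_left hP1
  have hx'U : x' ∈ P ⊔ Subgroup.zpowers x :=
    Subgroup.mul_mem _ (Subgroup.mem_sup_left (P.inv_mem hv))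
      (Subgroup.mem_sup_right (Subgroup.mem_zpowers x))
  have h1 : x' * b = b * x' := hbc x' hx'U
  have hb' : b ∈ Subgroup.centralizer ({x'} : Set G) := by
    rw [Subgroup.mem_centralizer_singleton_iff]; exact h1.symm
  have hy' : y ∈ Subgroup.centralizer ({x'} : Set G) := by
    rw [Subgroup.mem_centralizer_singleton_iff]; exact hcomm.symm
  obtain ⟨j, hj⟩ := orderOf_of_mem_pgroup hP hbP
  have hyb : y * b = b * y := Cfsg.Agent.S1477.comm_of_coprime (hCN x' hx'1) hy' hb'
    (by rw [hj]; exact Nat.Coprime.pow_right j hy)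
  exact hb1 (hstar y hy1 hy b hbP hyb)

/-- Under the fixed-point-free hypothesis the quotient by the normal `p`-subgroup is again a
CN-group. -/
theorem cn_quotient (hCN : IsCNGroup G) {p : ℕ} [Fact p.Prime] (P : Subgroup G) [hPn : P.Normal]
    (hP : IsPGroup p P) (hP1 : P ≠ ⊥)
    (hstar : ∀ y : G, y ≠ 1 → (orderOf y).Coprime p → ∀ b ∈ P, y * b = b * y → b = 1) :
    IsCNGroup (G ⧸ P) := by
  classical
  have hpp : p.Prime := Fact.out
  set π := QuotientGroup.mk' P with hπ
  have hπs : Function.Surjective π := QuotientGroup.mk'_surjective P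
  have hker : ∀ g : G, π g = 1 ↔ g ∈ P := fun g => by
    rw [hπ, QuotientGroup.mk'_apply, QuotientGroup.eq_one_iff]
  have hA : ∀ xb yb : G ⧸ P, orderOf xb = p → ∀ q : ℕ, q.Prime → q ≠ p → orderOf yb = q →
      xb * yb = yb * xb → False := by
    intro xb yb hxo q hq hqp hyo hcomm
    obtain ⟨x, rfl⟩ := hπs xb
    obtain ⟨y₀, rfl⟩ := hπs yb
    have hxP : x ∉ P := by
      intro h
      have h1 : π x = 1 := (hker x).mpr h
      rw [h1, orderOf_one] at hxo
      exact hpp.one_lt.ne hxo
    have hx : ∃ k, orderOf x = p ^ k := by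
      have h1 : π (x ^ p) = 1 := by rw [map_pow, ← hxo, pow_orderOf_eq_one]
      have h2 : x ^ p ∈ P := (hker _).mp h1
      obtain ⟨j, hj⟩ := orderOf_of_mem_pgroup hP h2
      have h3 : x ^ (p ^ (j + 1)) = 1 := by
        rw [pow_succ', pow_mul, ← hj, pow_orderOf_eq_one]
      obtain ⟨k, -, hk⟩ := (Nat.dvd_prime_pow hpp).mp (orderOf_dvd_of_pow_eq_one h3)
      exact ⟨k, hk⟩
    have h1 : π (y₀ ^ q) = 1 := by rw [map_pow, ← hyo, pow_orderOf_eq_one]
    have h2 : y₀ ^ q ∈ P := (hker _).mp h1
    obtain ⟨j, hj⟩ := orderOf_of_mem_pgroup hP h2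
    set y := y₀ ^ (p ^ j) with hy
    have hyq : y ^ q = 1 := by
      rw [hy, ← pow_mul, mul_comm, pow_mul, ← hj, pow_orderOf_eq_one]
    have hπy : π y ≠ 1 := by
      intro h
      rw [hy, map_pow] at h
      have h3 := orderOf_dvd_of_pow_eq_one h
      rw [hyo] at h3
      exact hqp ((Nat.prime_dvd_prime_iff_eq hq hpp).mp (hq.dvd_of_dvd_pow h3))
    have hy1 : y ≠ 1 := fun h => hπy (by rw [h, map_one])
    have hyo' : orderOf y = q := by
      have h3 := orderOf_dvd_of_pow_eq_one hyq
      rcases (Nat.dvd_prime hq).mp h3 with h4 | h4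
      · exact absurd (orderOf_eq_one_iff.mp h4) hy1
      · exact h4
    have hycop : (orderOf y).Coprime p := by
      rw [hyo']; exact (Nat.coprime_primes hq hpp).mpr hqp
    have hxy : x * y * x⁻¹ * y⁻¹ ∈ P := by
      rw [← hker]
      have h3 : π y = π y₀ ^ (p ^ j) := by rw [hy, map_pow]
      have h4 : π x * π y = π y * π x := by
        rw [h3]
        exact (Commute.pow_right (show Commute (π x) (π y₀) from hcomm) _).eq
      rw [map_mul, map_mul, map_mul, map_inv, map_inv, h4]; group
    exact no_mixed hCN P hP hP1 hstar hxP hx hy1 hycop hxy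
  intro zb hzb1
  have hzo0 : orderOf zb ≠ 0 := (orderOf_pos zb).ne'
  by_cases hpz : p ∣ orderOf zb
  · set xb := zb ^ (orderOf zb / p) with hxb
    have hxo : orderOf xb = p := orderOf_pow_orderOf_div hzo0 hpz
    have hpg : IsPGroup p (Subgroup.centralizer ({xb} : Set (G ⧸ P))) := by
      rw [IsPGroup.iff_orderOf]
      intro w
      have hw := w.2
      rw [Subgroup.mem_centralizer_singleton_iff] at hw
      have hwo0 : orderOf (w : G ⧸ P) ≠ 0 := (orderOf_pos _).ne'
      have hall : ∀ {d : ℕ}, d.Prime → d ∣ orderOf (w : G ⧸ P) → d = p := by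
        intro d hd hdw
        by_contra hdp
        have hyo : orderOf ((w : G ⧸ P) ^ (orderOf (w : G ⧸ P) / d)) = d :=
          orderOf_pow_orderOf_div hwo0 hdw
        exact hA xb _ hxo d hd hdp hyo
          ((Commute.pow_right (show Commute xb (w : G ⧸ P) from hw.symm) _).eq)
      refine ⟨(orderOf (w : G ⧸ P)).primeFactorsList.length, ?_⟩
      rw [← Subgroup.orderOf_coe]
      exact Nat.eq_prime_pow_of_unique_prime_dvd hwo0 hall
    refine nilpotent_of_le hpg.isNilpotent ?_
    intro w hw
    rw [Subgroup.mem_centralizer_singleton_iff] at hw ⊢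
    exact (Commute.pow_right (show Commute w zb from hw) _).eq
  · obtain ⟨z₀, rfl⟩ := hπs zb
    set n := orderOf (π z₀) with hn
    have hnp : n.Coprime p := Nat.Coprime.symm ((Nat.Prime.coprime_iff_not_dvd hpp).mpr hpz)
    have h1 : π (z₀ ^ n) = 1 := by rw [map_pow, hn, pow_orderOf_eq_one]
    obtain ⟨j, hj⟩ := orderOf_of_mem_pgroup hP ((hker _).mp h1)
    have hcop : Nat.Coprime (p ^ j) n := Nat.Coprime.pow_left j hnp.symm
    obtain ⟨c, hc⟩ := exists_pow_eq_self_of_coprime (x := π z₀) (n := p ^ j) hcop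
    set z := z₀ ^ (p ^ j * c) with hz
    have hπz : π z = π z₀ := by rw [hz, map_pow, pow_mul]; exact hc
    have hzn : z ^ n = 1 := by
      have h2 : (z₀ ^ (p ^ j * c)) ^ n = ((z₀ ^ n) ^ (p ^ j)) ^ c := by
        rw [← pow_mul, ← pow_mul, ← pow_mul]; ring_nf
      rw [hz, h2, ← hj, pow_orderOf_eq_one, one_pow]
    have hzcop : (orderOf z).Coprime p :=
      Nat.Coprime.coprime_dvd_left (orderOf_dvd_of_pow_eq_one hzn) hnp
    have hz1 : z ≠ 1 := fun h => hzb1 (by rw [← hπz, h, map_one])
    have hfpf : ∀ h ∈ Subgroup.zpowers z, h ≠ 1 → ∀ k ∈ P, h * k = k * h → k = 1 := by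
      intro h hh hh1 k hk hhk
      exact hstar h hh1 (Nat.Coprime.coprime_dvd_left (orderOf_dvd_of_mem_zpowers hh) hzcop)
        k hk hhk
    have heq : Subgroup.centralizer ({π z₀} : Set (G ⧸ P))
        = (Subgroup.centralizer ({z} : Set G)).map π := by
      ext wb
      constructor
      · intro hw
        rw [Subgroup.mem_centralizer_singleton_iff] at hw
        obtain ⟨w, rfl⟩ := hπs wb
        have hu : w * z * w⁻¹ * z⁻¹ ∈ P := by
          rw [← hker, map_mul, map_mul, map_mul, map_inv, map_inv, hπz, hw]; group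
        obtain ⟨v, hv, hv2⟩ := Cfsg.Agent.Lib.Helper3.frob_coset_conj P (Subgroup.zpowers z)
          hfpf (Subgroup.mem_zpowers z) hz1 hu
        refine ⟨v⁻¹ * w, ?_, ?_⟩
        · rw [SetLike.mem_coe, Subgroup.mem_centralizer_singleton_iff]
          have h3 : w * z * w⁻¹ = v * z * v⁻¹ := by rw [← hv2]; group
          calc v⁻¹ * w * z = v⁻¹ * (w * z * w⁻¹) * w := by group
            _ = v⁻¹ * (v * z * v⁻¹) * w := by rw [h3]
            _ = z * (v⁻¹ * w) := by group
        · rw [map_mul, map_inv, (hker v).mpr hv]; simp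
      · rintro ⟨w, hw, rfl⟩
        rw [SetLike.mem_coe, Subgroup.mem_centralizer_singleton_iff] at hw
        rw [Subgroup.mem_centralizer_singleton_iff, ← hπz, ← map_mul, ← map_mul, hw]
    rw [heq]
    exact nilpotent_map (hCN z hz1) π

end red

section simple

/-- The hypothesis-form of the final counting contradiction (PF (6.8)/(S1526)) for a group `G`. -/
def CountingHyp (G : Type u) [Group G] : Prop :=
  ∀ {ι : Type} [Fintype ι], 2 ≤ Fintype.card ι → ∀ (L H : ι → Subgroup G),
    (∀ i, H i < L i) → (∀ i, H i ≠ ⊥) → (∀ i, ∀ x ∈ L i, ∀ h ∈ H i, x * h * x⁻¹ ∈ H i) →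
    (∀ i, ∀ h ∈ H i, h ≠ 1 → L i ⊓ Subgroup.centralizer ({h} : Set G) ≤ H i) →
    (∀ i j, i ≠ j → Nat.Coprime (Nat.card (H i)) (Nat.card (H j))) →
    (∀ i, Cfsg.IsTISubset (H i : Set G) ∧ Subgroup.normalizer (H i : Set G) = L i) →
    (∀ g : G, g ≠ 1 → ∃ i, ∃ x : G, x * g * x⁻¹ ∈ H i) → False

/-- A minimal simple CN-group of odd order does not exist, given the counting contradiction. -/
theorem cn_simple_false {G : Type u} [Group G] [Finite G] (h1526 : CountingHyp G)
    (hG : Cfsg.IsMinSimpleOddOrder G) (hCN : IsCNGroup G) : False := by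
  classical
  set I : Set ℕ := {n | ∃ H : Subgroup G, IsMaxNilp H ∧ Nat.card H = n} with hI
  have hIfin : I.Finite := by
    apply Set.Finite.subset (Set.finite_Iic (Nat.card G))
    rintro n ⟨H, -, rfl⟩
    exact Nat.le_of_dvd Nat.card_pos (Subgroup.card_subgroup_dvd_card H)
  haveI : Fintype I := hIfin.fintype
  choose Hof hHof using
    fun i : I => (i.2 : ∃ H : Subgroup G, IsMaxNilp H ∧ Nat.card H = (i : ℕ))
  -- every non-identity element lies in a conjugate of some `Hof i`
  have hcover' : ∀ H' : Subgroup G, IsMaxNilp H' → ∃ i : I, (i : ℕ) = Nat.card H' ∧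
      ∃ x : G, Hof i = H'.map (MulAut.conj x).toMonoidHom := by
    intro H' hH'
    refine ⟨⟨Nat.card H', H', hH', rfl⟩, rfl, ?_⟩
    rcases maxNilp_conj_or_coprime hCN hH' (hHof ⟨Nat.card H', H', hH', rfl⟩).1 with h | h
    · exact h
    · exfalso
      rw [(hHof ⟨Nat.card H', H', hH', rfl⟩).2] at h
      have h1 : Nat.card H' = 1 := (Nat.coprime_self _).mp h
      exact maxNilp_ne_bot hG hCN hH'.2 (Subgroup.card_eq_one.mp h1)
  have hcover : ∀ g : G, g ≠ 1 → ∃ i : I, ∃ x : G, x * g * x⁻¹ ∈ Hof i := by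
    intro g hg1
    have hznil : Group.IsNilpotent (Subgroup.zpowers g) :=
      nilpotent_of_le (hCN g hg1)
        (Subgroup.zpowers_le.2 (Subgroup.mem_centralizer_singleton_iff.2 rfl))
    obtain ⟨H', hgH', hH'⟩ := exists_maxNilp_ge hznil
    obtain ⟨i, -, x, hx⟩ := hcover' H' hH'
    refine ⟨i, x, ?_⟩
    rw [hx, Cfsg.Agent.Lib.Helper11.mem_map_conj_iff']
    have h1 : x⁻¹ * (x * g * x⁻¹) * x = g := by group
    rw [h1]
    exact hgH' (Subgroup.mem_zpowers g)
  -- at least two classes
  have htwo : 2 ≤ Fintype.card I := by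
    obtain ⟨H₀, -, hH₀⟩ := exists_maxNilp_ge (G := G) (K := ⊥)
      (by haveI : Subsingleton (⊥ : Subgroup G) := inferInstance; infer_instance)
    obtain ⟨i₀, hi₀, -⟩ := hcover' H₀ hH₀
    have hm := (hHof i₀).1
    have hHall := (Cfsg.Agent.S1477.result hCN (Hof i₀) hm.1 hm.2).1
    have htop : Hof i₀ ≠ ⊤ := maxNilp_ne_top hG hm.1
    have hidx : (Hof i₀).index ≠ 1 := fun h => htop (Subgroup.index_eq_one.mp h)
    obtain ⟨q, hq, hqi⟩ := Nat.exists_prime_and_dvd hidx
    haveI : Fact q.Prime := ⟨hq⟩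
    have hqG : q ∣ Nat.card G := hqi.trans (Subgroup.index_dvd_card _)
    obtain ⟨g, hgo⟩ := exists_prime_orderOf_dvd_card' q hqG
    have hg1 : g ≠ 1 := by
      intro h
      rw [h, orderOf_one] at hgo
      exact hq.one_lt.ne hgo
    have hznil : Group.IsNilpotent (Subgroup.zpowers g) :=
      nilpotent_of_le (hCN g hg1)
        (Subgroup.zpowers_le.2 (Subgroup.mem_centralizer_singleton_iff.2 rfl))
    obtain ⟨H', hgH', hH'⟩ := exists_maxNilp_ge hznil
    obtain ⟨i₁, hi₁, -⟩ := hcover' H' hH'
    have hqH' : q ∣ Nat.card H' := by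
      rw [← hgo]
      exact Subgroup.orderOf_dvd_natCard H' (hgH' (Subgroup.mem_zpowers g))
    have hne : i₁ ≠ i₀ := by
      intro h
      have h1 : Nat.card H' = Nat.card (Hof i₀) := by rw [← hi₁, h, (hHof i₀).2]
      rw [h1] at hqH'
      have h2 : q ∣ Nat.gcd (Nat.card (Hof i₀)) (Hof i₀).index := Nat.dvd_gcd hqH' hqi
      rw [hHall] at h2
      exact hq.one_lt.ne' (Nat.dvd_one.mp h2)
    exact Fintype.one_lt_card_iff.mpr ⟨i₁, i₀, hne⟩
  refine h1526 htwo (fun i => Subgroup.normalizer (Hof i : Set G)) Hof ?_ ?_ ?_ ?_ ?_ ?_ hcover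
  · intro i
    exact lt_of_le_of_ne Subgroup.le_normalizer
      (Ne.symm (maxNilp_normalizer_ne hG hCN (hHof i).1.1 (hHof i).1.2))
  · intro i
    exact maxNilp_ne_bot hG hCN (hHof i).1.2
  · intro i x hx h hh
    exact (Subgroup.mem_normalizer_iff.mp hx h).mp hh
  · intro i h hh hh1 x hx
    exact maxNilp_cent hG hCN (hHof i).1.1 (hHof i).1.2 hh hh1 hx.2
  · intro i j hij
    rcases maxNilp_conj_or_coprime hCN (hHof i).1 (hHof j).1 with ⟨g, hg⟩ | h
    · exfalso
      apply hij
      apply Subtype.ext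
      rw [← (hHof i).2, ← (hHof j).2, hg]
      exact (Nat.card_congr ((Hof i).equivMapOfInjective _
        (MulAut.conj g).injective).toEquiv)
    · exact h
  · intro i
    refine ⟨?_, rfl⟩
    intro g hg x hx hgx
    have hne : (Hof i).map (MulAut.conj g).toMonoidHom ≠ Hof i := fun h =>
      hg (Cfsg.Agent.Lib.Helper11.mem_normalizer_of_map_conj_eq h)
    have h1 := maxNilp_TI hG hCN (hHof i).1.1 (hHof i).1.2 g hne
    have h2 : g * x * g⁻¹ ∈ Hof i ⊓ (Hof i).map (MulAut.conj g).toMonoidHom :=
      ⟨hgx, ⟨x, hx, by simp [MulAut.conj_apply]⟩⟩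
    rw [h1, Subgroup.mem_bot] at h2
    have h3 : x = g⁻¹ * (g * x * g⁻¹) * g := by group
    rw [h3, h2]; group

end simple

section main

/-- The odd-order CN-theorem, given the counting contradiction for every group. -/
theorem cn_solvable
    (h1526 : ∀ (G : Type u) [Group G] [Finite G], Odd (Nat.card G) → CountingHyp G) :
    ∀ n : ℕ, ∀ (G : Type u) [Group G] [Finite G], Nat.card G = n → Odd (Nat.card G) →
      IsCNGroup G → Group.IsSolvable G := by
  intro n
  induction n using Nat.strong_induction_on with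
  | _ n ih =>
    intro G _ _ hn hodd hCN
    classical
    have hsub : ∀ H : Subgroup G, H ≠ ⊤ → Group.IsSolvable H := by
      intro H hH
      have hlt : Nat.card H < n := by
        rw [← hn]
        exact lt_of_le_of_ne (Subgroup.card_le_card_group H)
          (fun h => hH (Subgroup.eq_top_of_card_eq H h))
      exact ih _ hlt H rfl (hodd.of_dvd_nat (Subgroup.card_subgroup_dvd_card H))
        (isCN_subgroup hCN H)
    by_cases hsimple : IsSimpleGroup G
    · by_cases hcomm : ∀ a b : G, a * b = b * a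
      · exact Group.isSolvable_of_comm hcomm
      · exfalso
        refine cn_simple_false (h1526 G hodd) ⟨hodd, hsimple, ?_, hsub⟩ hCN
        intro h
        exact hcomm (fun a b => h.is_comm.comm a b)
    · by_cases htriv : Subsingleton G
      · exact Group.isSolvable_of_comm (fun a b => Subsingleton.elim _ _)
      · haveI : Nontrivial G := not_subsingleton_iff_nontrivial.mp htriv
        have hex : ∃ N : Subgroup G, N.Normal ∧ N ≠ ⊥ ∧ N ≠ ⊤ := by
          by_contra hcon
          push Not at hcon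
          apply hsimple
          exact { toNontrivial := inferInstance
                  eq_bot_or_eq_top_of_normal := fun N hN => by
                    by_cases h : N = ⊥
                    · exact Or.inl h
                    · exact Or.inr (hcon N hN h) }
        obtain ⟨N, hNmin⟩ :=
          (Set.toFinite {N : Subgroup G | N.Normal ∧ N ≠ ⊥ ∧ N ≠ ⊤}).exists_minimal hex
        obtain ⟨hNn, hN1, hNtop⟩ := hNmin.prop
        haveI := hNn
        have hNsolv := hsub N hNtop
        have hNab : ⁅N, N⁆ = ⊥ := by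
          by_contra hne
          have hle : ⁅N, N⁆ ≤ N := Subgroup.commutator_le_left N N
          have hmem : ⁅N, N⁆ ∈ {N : Subgroup G | N.Normal ∧ N ≠ ⊥ ∧ N ≠ ⊤} :=
            ⟨inferInstance, hne, fun h => hNtop (top_le_iff.mp (h ▸ hle))⟩
          have hge : N ≤ ⁅N, N⁆ := hNmin.le_of_le hmem hle
          haveI := hNsolv
          haveI : Nontrivial N := (Subgroup.nontrivial_iff_ne_bot N).mpr hN1
          have h1 := Group.IsSolvable.commutator_lt_top_of_nontrivial N
          have h2 : (commutator ↥N).map N.subtype = ⁅N, N⁆ := Subgroup.map_subtype_commutator N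
          have h3 : (commutator ↥N).map N.subtype = (⊤ : Subgroup N).map N.subtype := by
            rw [h2, ← MonoidHom.range_eq_map, Subgroup.range_subtype]
            exact le_antisymm hle hge
          exact h1.ne (Subgroup.map_injective N.subtype_injective h3)
        have hNcomm : ∀ a ∈ N, ∀ b ∈ N, a * b = b * a := by
          intro a ha b hb
          have h1 := Subgroup.commutator_mem_commutator ha hb
          rw [hNab, Subgroup.mem_bot] at h1
          exact commutatorElement_eq_one_iff_mul_comm.mp h1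
        have hN1' : Nat.card N ≠ 1 := fun h => hN1 (Subgroup.card_eq_one.mp h)
        obtain ⟨p, hp, hpN⟩ := Nat.exists_prime_and_dvd hN1'
        haveI : Fact p.Prime := ⟨hp⟩
        let P : Subgroup G :=
          { carrier := {x | x ∈ N ∧ x ^ p = 1}
            one_mem' := ⟨N.one_mem, one_pow p⟩
            mul_mem' := fun {a b} ha hb => ⟨N.mul_mem ha.1 hb.1, by
              rw [(show Commute a b from hNcomm a ha.1 b hb.1).mul_pow, ha.2, hb.2, one_mul]⟩
            inv_mem' := fun {a} ha => ⟨N.inv_mem ha.1, by rw [inv_pow, ha.2, inv_one]⟩ }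
        have hPmem : ∀ x : G, x ∈ P ↔ x ∈ N ∧ x ^ p = 1 := fun x => Iff.rfl
        haveI hPn : P.Normal := ⟨fun x hx g => by
          rw [hPmem] at hx ⊢
          exact ⟨hNn.conj_mem x hx.1 g, by rw [conj_pow, hx.2]; group⟩⟩
        have hPp : IsPGroup p P := fun x => ⟨1, by
          apply Subtype.ext
          rw [pow_one, Subgroup.coe_pow]
          exact ((hPmem x).mp x.2).2⟩
        have hP1 : P ≠ ⊥ := by
          obtain ⟨x, hx⟩ := exists_prime_orderOf_dvd_card' (G := N) p hpN
          intro h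
          have hxo : orderOf (x : G) = p := by rw [Subgroup.orderOf_coe]; exact hx
          have hxP : (x : G) ∈ P := by
            rw [hPmem]
            exact ⟨x.2, by rw [← hxo]; exact pow_orderOf_eq_one _⟩
          rw [h, Subgroup.mem_bot] at hxP
          rw [hxP, orderOf_one] at hxo
          exact hp.one_lt.ne hxo
        by_cases hstar : ∀ y : G, y ≠ 1 → (orderOf y).Coprime p → ∀ b ∈ P, y * b = b * y → b = 1
        · have hq := cn_quotient hCN P hPp hP1 hstar
          have hmul := Subgroup.card_eq_card_quotient_mul_card_subgroup P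
          have hPc : 2 ≤ Nat.card P := by
            have h1 : Nat.card P ≠ 1 := fun h => hP1 (Subgroup.card_eq_one.mp h)
            have h2 : 0 < Nat.card P := Nat.card_pos
            omega
          have hQpos : 0 < Nat.card (G ⧸ P) := Nat.card_pos
          have hcard : Nat.card (G ⧸ P) < n := by
            rw [← hn, hmul]
            nlinarith
          have hoddq : Odd (Nat.card (G ⧸ P)) := hodd.of_dvd_nat ⟨Nat.card P, hmul⟩
          haveI := ih _ hcard (G ⧸ P) rfl hoddq hq
          haveI : Group.IsNilpotent P := hPp.isNilpotent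
          haveI : Group.IsSolvable P := inferInstance
          exact Group.isSolvable_of_ker_le_range P.subtype (QuotientGroup.mk' P)
            (by rw [QuotientGroup.ker_mk', Subgroup.range_subtype])
        · push Not at hstar
          obtain ⟨y, hy1, hyp, b, hb, hyb, hb1⟩ := hstar
          obtain ⟨S₀⟩ : Nonempty (Sylow p G) := inferInstance
          haveI hSn := sylow_normal_of_not_fpf hCN P hPp hy1 hyp hb hb1 hyb S₀
          have hF1 : Cfsg.fittingHall G ≠ ⊥ := by
            intro h
            have h1 := sylow_le_fittingHall S₀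
            rw [h] at h1
            exact (Sylow.ne_bot_of_dvd_card S₀
              (hpN.trans (Subgroup.card_subgroup_dvd_card N))) (le_bot_iff.mp h1)
          by_cases hnil : Group.IsNilpotent G
          · haveI := hnil
            infer_instance
          · obtain ⟨-, -, hq⟩ := frobenius_of_normal_sylow hCN hnil hF1
            haveI := hq
            haveI : Group.IsNilpotent (Cfsg.fittingHall G) := fittingHall_nilpotent G
            haveI : Group.IsSolvable (Cfsg.fittingHall G) := inferInstance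
            haveI : Group.IsSolvable (G ⧸ Cfsg.fittingHall G) := inferInstance
            exact Group.isSolvable_of_ker_le_range (Cfsg.fittingHall G).subtype
              (QuotientGroup.mk' (Cfsg.fittingHall G))
              (by rw [QuotientGroup.ker_mk', Subgroup.range_subtype])

end main

end Cfsg.Agent.Lib.Helper4.CN
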