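import Mathlib
import Cfsg.Prelude.Def_Transfer

set_option autoImplicit false

/-! S4149: if `G` has a normal `p`-complement for at most one prime `p` and every class size has
at most `σ` prime divisors, then at most `2σ` primes divide a class size (proof by helper9:
for a prime `p` without normal `p`-complement at most half of the elements have class size prime
to `p`, by Burnside's transfer theorem). -/

universe u

namespace Cfsg.Agent.Lib.Helper4.ClsPrimes

open scoped Pointwise

variable {G : Type u} [Group G] [Finite G]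

/-- a subgroup of index prime to `p` contains a Sylow `p`-subgroup -/
theorem exists_sylow_le (p : ℕ) [Fact p.Prime] (H : Subgroup G) (h : ¬ p ∣ H.index) :
    ∃ P : Sylow p G, (P : Subgroup G) ≤ H := by
  obtain ⟨P0⟩ : Nonempty (Sylow p H) := inferInstance
  have hcard : Nat.card ((P0 : Subgroup H).map H.subtype) = p ^ (Nat.card G).factorization p := by
    rw [Subgroup.card_map_of_injective H.subtype_injective, P0.card_eq_multiplicity]
    congr 1
    rw [← Subgroup.card_mul_index H, Nat.factorization_mul Nat.card_pos.ne'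
      Subgroup.FiniteIndex.index_ne_zero]
    simp [Nat.factorization_eq_zero_of_not_dvd h]
  refine ⟨Sylow.ofCard _ hcard, ?_⟩
  rw [Sylow.coe_ofCard]
  exact Subgroup.map_subtype_le _

/-- Sylow subgroups are conjugate, elementwise form -/
theorem exists_conj_mem (p : ℕ) [Fact p.Prime] (P1 P2 : Sylow p G) :
    ∃ k : G, ∀ y ∈ (P1 : Subgroup G), k * y * k⁻¹ ∈ (P2 : Subgroup G) := by
  obtain ⟨k, hk⟩ := MulAction.exists_smul_eq G P1 P2
  refine ⟨k, fun y hy => ?_⟩
  have h3 : MulAut.conj k • y ∈ MulAut.conj k • (P1 : Subgroup G) :=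
    Subgroup.smul_mem_pointwise_smul y _ _ hy
  rw [← Sylow.coe_subgroup_smul, hk] at h3
  exact h3

/-- if `G` has no normal `p`-complement, at most half of the elements of `G` have a class size
prime to `p` -/
theorem half (p : ℕ) [Fact p.Prime] (hn : ¬ Cfsg.HasNormalPComplement p G) :
    2 * Nat.card {g : G // ¬ p ∣ (Subgroup.centralizer ({g} : Set G)).index} ≤ Nat.card G := by
  classical
  obtain ⟨P⟩ : Nonempty (Sylow p G) := inferInstance
  have hNC : ¬ (Subgroup.normalizer P ≤ Subgroup.centralizer (P : Set G)) := by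
    intro h
    exact hn ⟨P, (MonoidHom.transferSylow P h).ker, inferInstance,
      MonoidHom.ker_transferSylow_isComplement' P h⟩
  have hCN : Subgroup.centralizer (P : Set G) ≤ Subgroup.normalizer (P : Set G) :=
    Subgroup.centralizer_le_normalizer _
  -- `2 |C| ≤ |N|`
  have h2 : 2 * Nat.card (Subgroup.centralizer (P : Set G)) ≤
      Nat.card (Subgroup.normalizer (P : Set G)) := by
    obtain ⟨m, hm⟩ := Subgroup.card_dvd_of_le hCN
    have hpos : 0 < Nat.card (Subgroup.normalizer (P : Set G)) := Nat.card_pos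
    have hm0 : m ≠ 0 := by
      rintro rfl
      rw [mul_zero] at hm
      omega
    have hm1 : m ≠ 1 := by
      rintro rfl
      rw [mul_one] at hm
      apply hNC
      have := Subgroup.eq_of_le_of_card_ge hCN (le_of_eq hm)
      exact le_of_eq this.symm
    have hm2 : 2 ≤ m := by omega
    rw [hm]
    calc 2 * Nat.card (Subgroup.centralizer (P : Set G))
        = Nat.card (Subgroup.centralizer (P : Set G)) * 2 := by ring
      _ ≤ Nat.card (Subgroup.centralizer (P : Set G)) * m := Nat.mul_le_mul_left _ hm2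
  -- every element with class size prime to `p` is conjugate into `C`
  have hsurj : ∀ g : G, ¬ p ∣ (Subgroup.centralizer ({g} : Set G)).index →
      ∃ x : (G ⧸ Subgroup.normalizer (P : Set G)) × Subgroup.centralizer (P : Set G),
        x.1.out * (x.2 : G) * x.1.out⁻¹ = g := by
    intro g hg
    obtain ⟨P', hP'⟩ := exists_sylow_le p _ hg
    obtain ⟨k, hk⟩ := exists_conj_mem p P P'
    obtain ⟨n, hn'⟩ := QuotientGroup.mk_out_eq_mul (Subgroup.normalizer (P : Set G)) k
    have hcomm : ∀ y ∈ (P : Subgroup G), g * (k * y * k⁻¹) = (k * y * k⁻¹) * g := by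
      intro y hy
      have h1 := hP' (hk y hy)
      rw [Subgroup.mem_centralizer_iff] at h1
      exact h1 g rfl
    have hc : (k * (n : G))⁻¹ * g * (k * (n : G)) ∈ Subgroup.centralizer (P : Set G) := by
      rw [Subgroup.mem_centralizer_iff]
      intro y hy
      have hy' : (n : G) * y * (n : G)⁻¹ ∈ (P : Subgroup G) :=
        (Subgroup.mem_normalizer_iff.1 n.2 y).1 hy
      have h1 := hcomm _ hy'
      have h2 : g * (k * (n : G)) * y = (k * (n : G)) * y * ((k * (n : G))⁻¹ * g * (k * (n : G))) := by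
        have e1 : g * (k * (n : G)) * y = g * (k * ((n : G) * y * (n : G)⁻¹) * k⁻¹) * (k * (n : G)) := by
          group
        rw [e1, h1]
        group
      calc y * ((k * (n : G))⁻¹ * g * (k * (n : G)))
          = (k * (n : G))⁻¹ * ((k * (n : G)) * y * ((k * (n : G))⁻¹ * g * (k * (n : G)))) := by group
        _ = (k * (n : G))⁻¹ * (g * (k * (n : G)) * y) := by rw [h2]
        _ = (k * (n : G))⁻¹ * g * (k * (n : G)) * y := by group
    refine ⟨((k : G ⧸ Subgroup.normalizer (P : Set G)), ⟨_, hc⟩), ?_⟩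
    simp only
    rw [hn']
    group
  -- the injection
  let F : {g : G // ¬ p ∣ (Subgroup.centralizer ({g} : Set G)).index} →
      (G ⧸ Subgroup.normalizer (P : Set G)) × Subgroup.centralizer (P : Set G) :=
    fun g => Classical.choose (hsurj g.1 g.2)
  have hF : ∀ g, (F g).1.out * ((F g).2 : G) * (F g).1.out⁻¹ = g.1 :=
    fun g => Classical.choose_spec (hsurj g.1 g.2)
  have hinj : Function.Injective F := by
    intro g g' h
    apply Subtype.ext
    rw [← hF g, ← hF g', h]
  have h3 := Nat.card_le_card_of_injective F hinj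
  rw [Nat.card_prod] at h3
  have h4 : Nat.card (G ⧸ Subgroup.normalizer (P : Set G)) =
      (Subgroup.normalizer (P : Set G)).index := rfl
  have h5 := (Subgroup.normalizer (P : Set G)).card_mul_index
  rw [h4] at h3
  calc 2 * Nat.card {g : G // ¬ p ∣ (Subgroup.centralizer ({g} : Set G)).index}
      ≤ 2 * ((Subgroup.normalizer (P : Set G)).index *
          Nat.card (Subgroup.centralizer (P : Set G))) := Nat.mul_le_mul_left _ h3
    _ = (Subgroup.normalizer (P : Set G)).index *
          (2 * Nat.card (Subgroup.centralizer (P : Set G))) := by ring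
    _ ≤ (Subgroup.normalizer (P : Set G)).index *
          Nat.card (Subgroup.normalizer (P : Set G)) := Nat.mul_le_mul_left _ h2
    _ = Nat.card G := by rw [mul_comm, h5]

/-- the statement of S4149 -/
theorem main (σ : ℕ)
    (hσ : ∀ x : G, ((Subgroup.centralizer ({x} : Set G)).index).primeFactors.card ≤ σ)
    (hnil : ∀ p q : ℕ, p.Prime → q.Prime → p ∣ Nat.card G → q ∣ Nat.card G →
      Cfsg.HasNormalPComplement p G → Cfsg.HasNormalPComplement q G → p = q) :
    Nat.card {p : ℕ | p.Prime ∧ ∃ x : G, p ∣ (Subgroup.centralizer ({x} : Set G)).index} ≤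
      2 * σ := by
  classical
  have := Fintype.ofFinite G
  set nn : G → ℕ := fun x => (Subgroup.centralizer ({x} : Set G)).index with hnn
  have hnn0 : ∀ x, nn x ≠ 0 := fun x => Subgroup.FiniteIndex.index_ne_zero
  have hnnd : ∀ x, nn x ∣ Nat.card G := fun x => Subgroup.index_dvd_card _
  have hGpos : 0 < Nat.card G := Nat.card_pos
  set ρ : Finset ℕ := (Nat.card G).primeFactors.filter (fun p => ∃ x, p ∣ nn x) with hρ
  have hset : {p : ℕ | p.Prime ∧ ∃ x : G, p ∣ nn x} = ↑ρ := by
    ext p
    simp only [Set.mem_ofPred_eq, hρ, Finset.coe_filter, Nat.mem_primeFactors]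
    constructor
    · rintro ⟨hp, x, hx⟩
      exact ⟨⟨hp, hx.trans (hnnd x), hGpos.ne'⟩, x, hx⟩
    · rintro ⟨⟨hp, -, -⟩, x, hx⟩
      exact ⟨hp, x, hx⟩
  change Nat.card {p : ℕ | p.Prime ∧ ∃ x : G, p ∣ nn x} ≤ 2 * σ
  rw [hset, Nat.card_coe_set_eq, Set.ncard_coe_finset]
  -- the sets `A_p`
  set a : ℕ → ℕ := fun p => (Finset.univ.filter (fun g : G => ¬ p ∣ nn g)).card with ha
  have hacard : ∀ p, Nat.card {g : G // ¬ p ∣ nn g} = a p := by
    intro p
    rw [Nat.card_eq_fintype_card, Fintype.card_subtype]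
  have hcardG : Nat.card G = Fintype.card G := Nat.card_eq_fintype_card
  -- lower bound
  have hlow : Nat.card G * ρ.card ≤ ∑ p ∈ ρ, a p + Nat.card G * σ := by
    have h1 : ∑ p ∈ ρ, a p = ∑ g : G, (ρ.filter (fun p => ¬ p ∣ nn g)).card := by
      simp only [ha, Finset.card_filter]
      exact Finset.sum_comm
    have h2 : ∀ g : G, ρ.card ≤ (ρ.filter (fun p => ¬ p ∣ nn g)).card + σ := by
      intro g
      have h3 := Finset.card_filter_add_card_filter_not (s := ρ) (fun p => p ∣ nn g)
      have h4 : (ρ.filter (fun p => p ∣ nn g)).card ≤ σ := by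
        refine le_trans (Finset.card_le_card ?_) (hσ g)
        intro p hp
        rw [Finset.mem_filter, hρ, Finset.mem_filter, Nat.mem_primeFactors] at hp
        rw [Nat.mem_primeFactors]
        exact ⟨hp.1.1.1, hp.2, hnn0 g⟩
      omega
    calc Nat.card G * ρ.card = ∑ _g : G, ρ.card := by
          rw [Finset.sum_const, Finset.card_univ, smul_eq_mul, hcardG]
      _ ≤ ∑ g : G, ((ρ.filter (fun p => ¬ p ∣ nn g)).card + σ) :=
          Finset.sum_le_sum (fun g _ => h2 g)
      _ = ∑ p ∈ ρ, a p + Nat.card G * σ := by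
          rw [Finset.sum_add_distrib, ← h1, Finset.sum_const, Finset.card_univ, smul_eq_mul,
            hcardG]
  by_cases hk : ρ.card = 0
  · rw [hk]
    exact Nat.zero_le _
  -- upper bound
  obtain ⟨p₀, hp₀⟩ : ρ.Nonempty := Finset.card_pos.1 (Nat.pos_of_ne_zero hk)
  have hρmem : ∀ p ∈ ρ, p.Prime ∧ p ∣ Nat.card G ∧ ∃ x, p ∣ nn x := by
    intro p hp
    rw [hρ, Finset.mem_filter, Nat.mem_primeFactors] at hp
    exact ⟨hp.1.1, hp.1.2.1, hp.2⟩
  have hG2 : 2 ≤ Nat.card G :=
    le_trans (hρmem p₀ hp₀).1.two_le (Nat.le_of_dvd hGpos (hρmem p₀ hp₀).2.1)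
  obtain ⟨m, hm⟩ : ∃ m, Nat.card G = m + 2 := ⟨Nat.card G - 2, by omega⟩
  have hterm : ∀ p ∈ ρ, 2 * a p ≤ (m + 2) + (if Cfsg.HasNormalPComplement p G then m else 0) := by
    intro p hp
    obtain ⟨hpp, -, x, hx⟩ := hρmem p hp
    have : Fact p.Prime := ⟨hpp⟩
    by_cases hc : Cfsg.HasNormalPComplement p G
    · rw [if_pos hc]
      have h1 : a p < Fintype.card G := by
        rw [← Finset.card_univ]
        apply Finset.card_lt_card
        rw [Finset.filter_ssubset]
        exact ⟨x, Finset.mem_univ _, not_not.2 hx⟩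
      rw [← hcardG, hm] at h1
      omega
    · rw [if_neg hc]
      have h1 := half p hc
      change 2 * Nat.card {g : G // ¬ p ∣ nn g} ≤ Nat.card G at h1
      rw [hacard p, hm] at h1
      omega
  have hone : (ρ.filter (fun p => Cfsg.HasNormalPComplement p G)).card ≤ 1 := by
    rw [Finset.card_le_one]
    intro p hp q hq
    rw [Finset.mem_filter] at hp hq
    exact hnil p q (hρmem p hp.1).1 (hρmem q hq.1).1 (hρmem p hp.1).2.1 (hρmem q hq.1).2.1
      hp.2 hq.2
  have hup : 2 * ∑ p ∈ ρ, a p + 2 ≤ (ρ.card + 1) * (m + 2) := by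
    have h1 : 2 * ∑ p ∈ ρ, a p ≤
        ∑ p ∈ ρ, ((m + 2) + (if Cfsg.HasNormalPComplement p G then m else 0)) := by
      rw [Finset.mul_sum]
      exact Finset.sum_le_sum hterm
    rw [Finset.sum_add_distrib, Finset.sum_const, smul_eq_mul, ← Finset.sum_filter,
      Finset.sum_const, smul_eq_mul] at h1
    have h2 : (ρ.filter (fun p => Cfsg.HasNormalPComplement p G)).card * m ≤ 1 * m :=
      Nat.mul_le_mul_right _ hone
    nlinarith [h1, h2]
  by_contra hcon
  rw [not_le] at hcon
  have h3 : Nat.card G * (2 * σ + 1) ≤ Nat.card G * ρ.card := Nat.mul_le_mul_left _ hcon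
  rw [hm] at hlow h3
  nlinarith [hlow, hup, h3]

end Cfsg.Agent.Lib.Helper4.ClsPrimes
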