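import Mathlib
import Cfsg.Agent.S0033
import Cfsg.Agent.Lib.Helper25.CN1
import Cfsg.Agent.Lib.Helper9.Wielandt1

/-!
# Group-theoretic facts on Frobenius kernels used in Feit's coherence theorem
-/

set_option autoImplicit false

namespace Cfsg.Agent.Lib.Helper4.Feit

open Cfsg.Agent.Lib.Helper9

section grp

variable {N : Type*} [Group N] [Finite N] (H : Subgroup N) [hH : H.Normal]

/-- Thompson: a kernel of Frobenius type is nilpotent. -/
theorem frob_nilpotent (hH2 : H ≠ ⊤)
    (hC : ∀ h ∈ H, h ≠ 1 → Subgroup.centralizer ({h} : Set N) ≤ H) : Group.IsNilpotent H := by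
  obtain ⟨n, hn⟩ : ∃ n : N, n ∉ H := by
    by_contra hcon
    push Not at hcon
    exact hH2 (eq_top_iff.2 (fun x _ => hcon x))
  have hpow : ∀ k : ℕ, n ^ k ∈ H → n ^ k = 1 := by
    intro k hk
    by_contra h1
    apply hn
    apply hC _ hk h1
    rw [Subgroup.mem_centralizer_iff]
    intro y hy
    rw [Set.mem_singleton_iff.1 hy]
    exact pow_mul_comm' n k
  have hn1 : orderOf n ≠ 1 := by
    intro h
    rw [orderOf_eq_one_iff] at h
    exact hn (h ▸ H.one_mem)
  obtain ⟨q, hq, hqdvd⟩ := Nat.exists_prime_and_dvd hn1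
  have hord0 : orderOf n ≠ 0 := (orderOf_pos n).ne'
  obtain ⟨g, hg⟩ : ∃ g : N, g = n ^ (orderOf n / q) := ⟨_, rfl⟩
  have hgq : orderOf g = q := by rw [hg]; exact orderOf_pow_orderOf_div hord0 hqdvd
  have hgH : g ∉ H := by
    intro h
    have h1 : g = 1 := by rw [hg] at h ⊢; exact hpow _ h
    rw [h1, orderOf_one] at hgq
    exact hq.one_lt.ne hgq
  have hφ : MonoidHom.FixedPointFree (MulAut.conjNormal (H := H) g).toMonoidHom := by
    intro h hh
    by_contra h1
    have hhN : (g * h * g⁻¹ : N) = h := congrArg Subtype.val hh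
    have h1' : (h : N) ≠ 1 := fun h' => h1 (Subtype.ext h')
    apply hgH
    apply hC _ h.2 h1'
    rw [Subgroup.mem_centralizer_iff]
    intro y hy
    rw [Set.mem_singleton_iff.1 hy]
    calc (h : N) * g = (g * h * g⁻¹) * g := by rw [hhN]
      _ = g * h := by group
  have hφq : (⇑(MulAut.conjNormal (H := H) g).toMonoidHom)^[q] = _root_.id := by
    funext x
    have h1 : (MulAut.conjNormal (H := H) g) ^ q = 1 := by
      rw [← map_pow, ← hgq, pow_orderOf_eq_one, map_one]
    have h2 := Cfsg.Agent.S0033.mulEquiv_pow_apply (MulAut.conjNormal (H := H) g) q x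
    rw [h1] at h2
    exact h2.symm
  exact Cfsg.Agent.S0033.fpf_nilpotent_of_iterate _ hφ hq hφq

omit hH in
/-- Orders of normal subgroups inside a kernel of Frobenius type jump by a factor `≥ e + 1`. -/
theorem frob_index_step (hC : ∀ h ∈ H, h ≠ 1 → Subgroup.centralizer ({h} : Set N) ≤ H)
    (A D : Subgroup N) [A.Normal] [D.Normal] (hAD : A < D) (hDH : D ≤ H) :
    (H.index + 1) * Nat.card A ≤ Nat.card D := by
  have hA := Cfsg.Agent.Lib.Helper25.frob_count_le H A
    (fun x hx hx1 => hC x (hDH (hAD.le hx)) hx1)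
  have hD := Cfsg.Agent.Lib.Helper25.frob_count_le H D (fun x hx hx1 => hC x (hDH hx) hx1)
  obtain ⟨m, hm⟩ := Subgroup.card_dvd_of_le hAD.le
  have hApos : 0 < Nat.card A := Nat.card_pos
  have hDpos : 0 < Nat.card D := Nat.card_pos
  have hm2 : 2 ≤ m := by
    rcases Nat.lt_or_ge m 2 with h | h
    · exfalso
      have hm01 : m = 0 ∨ m = 1 := by omega
      rcases hm01 with h0 | h1
      · rw [h0, mul_zero] at hm; omega
      · rw [h1, mul_one] at hm
        exact hAD.ne (Subgroup.eq_of_le_of_card_ge hAD.le hm.le)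
    · exact h
  obtain ⟨s, hs⟩ := hA
  obtain ⟨t, ht⟩ := hD
  have hAe : Nat.card A = H.index * s + 1 := by omega
  have hDe : Nat.card D = H.index * t + 1 := by omega
  have hdiv : (H.index : ℤ) ∣ (m : ℤ) - 1 := by
    refine ⟨(t : ℤ) - s * m, ?_⟩
    have h1 : (Nat.card D : ℤ) = (Nat.card A : ℤ) * m := by exact_mod_cast hm
    rw [hAe, hDe] at h1
    push_cast at h1
    linear_combination (-1 : ℤ) * h1
  have hle : (H.index : ℤ) ≤ (m : ℤ) - 1 := Int.le_of_dvd (by omega) hdiv
  have hle' : H.index + 1 ≤ m := by omega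
  rw [hm, mul_comm (Nat.card A) m]
  exact Nat.mul_le_mul_right _ hle'

end grp

section comm

variable {G : Type*} [Group G]

/-- Commutators of a join with a fixed subgroup, modulo a normal subgroup. -/
theorem comm_mem_of_sup (P Q R B : Subgroup G) [hB : B.Normal]
    (hP : ∀ p ∈ P, ∀ r ∈ R, p * r * p⁻¹ * r⁻¹ ∈ B)
    (hQ : ∀ q ∈ Q, ∀ r ∈ R, q * r * q⁻¹ * r⁻¹ ∈ B) :
    ∀ x ∈ P ⊔ Q, ∀ r ∈ R, x * r * x⁻¹ * r⁻¹ ∈ B := by
  let C : Subgroup G :=
    { carrier := {x | ∀ r ∈ R, x * r * x⁻¹ * r⁻¹ ∈ B}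
      one_mem' := by
        simp only [Set.mem_setOf_eq]
        intro r _
        have h1 : (1 : G) * r * 1⁻¹ * r⁻¹ = 1 := by group
        rw [h1]
        exact B.one_mem
      mul_mem' := by
        intro x y hx hy
        simp only [Set.mem_setOf_eq] at hx hy ⊢
        intro r hr
        have h1 : x * y * r * (x * y)⁻¹ * r⁻¹
            = x * (y * r * y⁻¹ * r⁻¹) * x⁻¹ * (x * r * x⁻¹ * r⁻¹) := by group
        rw [h1]
        exact B.mul_mem (hB.conj_mem _ (hy r hr) x) (hx r hr)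
      inv_mem' := by
        intro x hx
        simp only [Set.mem_setOf_eq] at hx ⊢
        intro r hr
        have h1 : x⁻¹ * r * x⁻¹⁻¹ * r⁻¹ = x⁻¹ * (x * r * x⁻¹ * r⁻¹)⁻¹ * x⁻¹⁻¹ := by group
        rw [h1]
        exact hB.conj_mem _ (B.inv_mem (hx r hr)) x⁻¹ }
  have hle : P ⊔ Q ≤ C := sup_le (fun p hp => hP p hp) (fun q hq => hQ q hq)
  exact fun x hx => hle hx

end comm

section sylow

variable {N : Type*} [Group N] [Finite N] (H : Subgroup N) [hH : H.Normal]

omit [Finite N] in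
theorem pPart_normal (q : ℕ) : (pPart H q).Normal := by
  rw [← Subgroup.normalizer_eq_top_iff]
  have h := normalizer_le_normalizer_pPart H q
  rw [Subgroup.normalizer_eq_top] at h
  exact top_le_iff.1 h

omit hH in
theorem card_pPart (hnil : Group.IsNilpotent H) (q : ℕ) [Fact q.Prime] :
    Nat.card (pPart H q) = q ^ (Nat.card H).factorization q := by
  obtain ⟨P⟩ : Nonempty (Sylow q H) := inferInstance
  rw [pPart_eq_map_sylow hnil q P, Subgroup.card_map_of_injective H.subtype_injective,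
    P.card_eq_multiplicity]

omit hH in
/-- The Sylow `q`-subgroup of a nilpotent `H` is not inside the commutator subgroup when `q`
divides the index of the latter. -/
theorem pPart_not_le_commutator (hnil : Group.IsNilpotent H) (q : ℕ) [Fact q.Prime]
    (hq : q * Nat.card (⁅H, H⁆ : Subgroup N) ∣ Nat.card H) : ¬ pPart H q ≤ ⁅H, H⁆ := by
  intro hle
  have h1 : Nat.card (pPart H q) ∣ Nat.card (⁅H, H⁆ : Subgroup N) := Subgroup.card_dvd_of_le hle
  rw [card_pPart H hnil q] at h1
  have h2 : q ^ ((Nat.card H).factorization q + 1) ∣ Nat.card H := by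
    rw [pow_succ, mul_comm]
    exact dvd_trans (Nat.mul_dvd_mul_left q h1) hq
  exact Nat.pow_succ_factorization_not_dvd Nat.card_pos.ne' (Fact.out : q.Prime) h2

omit hH in
/-- A central element of prime order `r ≠ q` of a nilpotent `H`, outside the Sylow
`q`-subgroup. -/
theorem exists_central_not_mem (hnil : Group.IsNilpotent H) (q r : ℕ) [Fact q.Prime]
    [Fact r.Prime] (hqr : q ≠ r) (hr : r ∣ Nat.card H) :
    ∃ z ∈ H ⊓ Subgroup.centralizer (H : Set N), z ∉ pPart H q := by
  obtain ⟨z, hzH, hzr, hzc⟩ := exists_central_prime hnil r hr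
  refine ⟨z, Subgroup.mem_inf.2 ⟨hzH, ?_⟩, ?_⟩
  · rw [Subgroup.mem_centralizer_iff]
    intro h hh
    exact hzc h hh
  · intro hzQ
    obtain ⟨k, hk⟩ := pow_eq_one_of_isPGroup (isPGroup_pPart hnil q) hzQ
    have h1 : r ∣ q ^ k := by rw [← hzr]; exact orderOf_dvd_of_pow_eq_one hk
    have h2 : r ∣ q := (Fact.out : r.Prime).dvd_of_dvd_pow h1
    exact hqr ((Nat.prime_dvd_prime_iff_eq (Fact.out : r.Prime) (Fact.out : q.Prime)).1 h2).symm

end sylow

end Cfsg.Agent.Lib.Helper4.Feit
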