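import Mathlib
import Cfsg.Agent.Lib.Helper4.Feit1
import Cfsg.Agent.Lib.Helper4.Feit2
import Cfsg.Agent.Lib.Helper4.Sib4
import Cfsg.Agent.Lib.Helper4.Sib5
import Cfsg.Agent.Lib.Helper25.IndNorm
import Cfsg.Agent.Lib.Helper79.Linear
import Cfsg.Agent.S1528
import Cfsg.Agent.S1492

/-!
# Feit's coherence theorem: the character side and the chain argument
-/

set_option autoImplicit false

namespace Cfsg.Agent.Lib.Helper4.Feit

open Cfsg Cfsg.Agent.Lib.Helper26 Cfsg.Agent.Lib.Helper25 Cfsg.Agent.Lib.Helper4.Sib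

section char

variable {N : Type*} [Group N] [Fintype N] (H : Subgroup N) [hH : H.Normal]

/-- The degree of a character of `N` divided by `[N:H]`. -/
noncomputable def ell (a : N → ℂ) : ℕ := deg a / H.index

omit hH in
theorem irrKer_anti {A B : Subgroup N} (h : B ≤ A) : irrKer A ⊆ irrKer B := by
  intro a ha
  rw [mem_irrKer] at ha ⊢
  exact ⟨ha.1, fun x hx => ha.2 x (h hx)⟩

omit hH in
theorem sdiff_anti {A B : Subgroup N} (h : B ≤ A) :
    irrKer A \ irrKer H ⊆ irrKer B \ irrKer H :=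
  Finset.sdiff_subset_sdiff (irrKer_anti h) (Finset.Subset.refl _)

theorem S_ind (hC : ∀ h ∈ H, h ≠ 1 → Subgroup.centralizer ({h} : Set N) ≤ H) {a : N → ℂ}
    (ha : a ∈ irrKer (⊥ : Subgroup N) \ irrKer H) :
    ∃ θ : H → ℂ, IsIrrCharacter H θ ∧ a = indFun H θ ∧ θ 1 = (ell H a : ℂ) ∧
      a 1 = (ell H a : ℂ) * (H.index : ℂ) ∧ 1 ≤ ell H a := by
  obtain ⟨ha1, ha2⟩ := Finset.mem_sdiff.1 ha
  have hirr : IsIrrCharacter N a := ((mem_irrKer _ a).1 ha1).1
  have hker : ∃ h ∈ H, a h ≠ a 1 := by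
    by_contra hcon
    push Not at hcon
    exact ha2 ((mem_irrKer H a).2 ⟨hirr, hcon⟩)
  obtain ⟨θ, hθ, haθ⟩ := Cfsg.Agent.S1528.result H hC a hirr hker
  have hepos : 0 < H.index := Nat.pos_of_ne_zero Subgroup.index_ne_zero_of_finite
  have h1 : (deg a : ℂ) = (H.index : ℂ) * (deg θ : ℂ) := by
    rw [← deg_eq hirr, ← deg_eq hθ]
    conv_lhs => rw [haθ]
    exact indFun_apply_one H θ
  have h2 : deg a = H.index * deg θ := by exact_mod_cast h1
  have h3 : ell H a = deg θ := by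
    unfold ell
    rw [h2, Nat.mul_div_cancel_left _ hepos]
  refine ⟨θ, hθ, haθ, ?_, ?_, ?_⟩
  · rw [h3]; exact deg_eq hθ
  · rw [deg_eq hirr, h1, h3]; ring
  · rw [h3]; exact deg_pos hθ

theorem deg_bound (hC : ∀ h ∈ H, h ≠ 1 → Subgroup.centralizer ({h} : Set N) ≤ H)
    (B D : Subgroup N) [hB : B.Normal] (hBD : B ≤ D) (hDH : D ≤ H)
    (hcomm : ∀ x ∈ D, ∀ y ∈ H, x * y * x⁻¹ * y⁻¹ ∈ B) {a : N → ℂ}
    (ha : a ∈ irrKer B \ irrKer H) : (ell H a) ^ 2 * Nat.card D ≤ Nat.card H := by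
  have ha' : a ∈ irrKer (⊥ : Subgroup N) \ irrKer H := sdiff_anti H bot_le ha
  obtain ⟨θ, hθ, haθ, hθ1, -, -⟩ := S_ind H hC ha'
  have haB : ∀ x ∈ B, a x = a 1 := ((mem_irrKer B a).1 (Finset.mem_sdiff.1 ha).1).2
  have hθB : ∀ k : H, (k : N) ∈ B → θ k = θ 1 :=
    trivial_on_of_ind H θ (Cfsg.Agent.Lib.Helper80.isCharacter_of_isIrrCharacter hθ) B
      (hBD.trans hDH) (by rw [← haθ]; exact haB)
  have hBD' : B.subgroupOf H ≤ D.subgroupOf H :=
    fun k hk => Subgroup.mem_subgroupOf.2 (hBD (Subgroup.mem_subgroupOf.1 hk))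
  have hBn : ∀ c ∈ (⊤ : Subgroup H), ∀ b ∈ B.subgroupOf H, c * b * c⁻¹ ∈ B.subgroupOf H := by
    intro c _ b hb
    rw [Subgroup.mem_subgroupOf] at hb ⊢
    rw [Subgroup.coe_mul, Subgroup.coe_mul, Subgroup.coe_inv]
    exact hB.conj_mem _ hb _
  have hcent : ∀ d ∈ D.subgroupOf H, ∀ c ∈ (⊤ : Subgroup H),
      d * c * d⁻¹ * c⁻¹ ∈ B.subgroupOf H := by
    intro d hd c _
    rw [Subgroup.mem_subgroupOf] at hd ⊢
    simp only [Subgroup.coe_mul, Subgroup.coe_inv]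
    exact hcomm d hd c c.2
  have hker : ∀ b ∈ B.subgroupOf H, θ b = θ 1 :=
    fun b hb => hθB b (Subgroup.mem_subgroupOf.1 hb)
  have h := Cfsg.Agent.S1492.result θ hθ (B.subgroupOf H) ⊤ (D.subgroupOf H) hBD' le_top hBn
    hcent hker
  rw [hθ1, Complex.norm_natCast, Subgroup.card_top,
    Nat.card_congr (Subgroup.subgroupOfEquivOfLe hDH).toEquiv] at h
  have h' : (ell H a) ^ 2 * Nat.card H * Nat.card D ≤ Nat.card H ^ 2 := by exact_mod_cast h
  have hpos : 0 < Nat.card H := Nat.card_pos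
  have h'' : Nat.card H * ((ell H a) ^ 2 * Nat.card D) ≤ Nat.card H * Nat.card H := by
    calc Nat.card H * ((ell H a) ^ 2 * Nat.card D) = (ell H a) ^ 2 * Nat.card H * Nat.card D := by
          ring
      _ ≤ Nat.card H ^ 2 := h'
      _ = Nat.card H * Nat.card H := by ring
  exact Nat.le_of_mul_le_mul_left h'' hpos

theorem ell_one_of_comm (hC : ∀ h ∈ H, h ≠ 1 → Subgroup.centralizer ({h} : Set N) ≤ H)
    {a : N → ℂ} (ha : a ∈ irrKer ⁅H, H⁆ \ irrKer H) : ell H a = 1 := by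
  have h1 := deg_bound H hC ⁅H, H⁆ H (Subgroup.commutator_le_self H) le_rfl (fun x hx y hy => by
      have := Subgroup.commutator_mem_commutator hx hy
      rwa [commutatorElement_def] at this) ha
  obtain ⟨θ, -, -, -, -, h2⟩ := S_ind H hC (sdiff_anti H bot_le ha)
  have hpos : 0 < Nat.card H := Nat.card_pos
  have h3 : (ell H a) ^ 2 ≤ 1 := by
    by_contra hcon
    push Not at hcon
    have : 2 * Nat.card H ≤ (ell H a) ^ 2 * Nat.card H := Nat.mul_le_mul_right _ hcon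
    omega
  nlinarith

theorem mem_comm_of_ell_one (hC : ∀ h ∈ H, h ≠ 1 → Subgroup.centralizer ({h} : Set N) ≤ H)
    {a : N → ℂ} (ha : a ∈ irrKer (⊥ : Subgroup N) \ irrKer H) (h1 : ell H a = 1) :
    a ∈ irrKer ⁅H, H⁆ := by
  obtain ⟨θ, hθ, haθ, hθ1, -, -⟩ := S_ind H hC ha
  rw [h1, Nat.cast_one] at hθ1
  have hirr : IsIrrCharacter N a := ((mem_irrKer _ a).1 (Finset.mem_sdiff.1 ha).1).1
  rw [mem_irrKer]
  refine ⟨hirr, fun x hx => ?_⟩
  have hθA : ∀ k : H, (k : N) ∈ ⁅H, H⁆ → θ k = θ 1 := by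
    intro k hk
    rw [← Subgroup.map_subtype_commutator H] at hk
    obtain ⟨k', hk', hkk'⟩ := hk
    have : k' = k := Subtype.ext hkk'
    rw [← this, hθ1]
    exact Cfsg.Agent.Lib.Helper79.linear_irr_commutator hθ hθ1 hk'
  rw [haθ]
  exact indFun_const_on H θ ⁅H, H⁆ (Subgroup.commutator_le_self H) hθA hx

theorem sum_formula (hC : ∀ h ∈ H, h ≠ 1 → Subgroup.centralizer ({h} : Set N) ≤ H)
    (A : Subgroup N) [A.Normal] (hAH : A ≤ H) :
    ((∑ a ∈ irrKer A \ irrKer H, (ell H a) ^ 2) * H.index + 1) * Nat.card A = Nat.card H := by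
  classical
  have hsub : irrKer H ⊆ irrKer A := irrKer_anti hAH
  have h1 := sum_irrKer A (1 : N)
  rw [if_pos (Subgroup.one_mem _)] at h1
  have h2 := sum_irrKer H (1 : N)
  rw [if_pos (Subgroup.one_mem _)] at h2
  have h3 := Finset.sum_sdiff (f := fun a : N → ℂ => a 1 * a 1) hsub
  rw [h1, h2] at h3
  have h4 : ∑ a ∈ irrKer A \ irrKer H, a 1 * a 1
      = (((∑ a ∈ irrKer A \ irrKer H, (ell H a) ^ 2) * (H.index * H.index) : ℕ) : ℂ) := by
    rw [Finset.sum_mul, Nat.cast_sum]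
    refine Finset.sum_congr rfl (fun a ha => ?_)
    obtain ⟨θ, -, -, -, h5, -⟩ := S_ind H hC (sdiff_anti H bot_le ha)
    rw [h5]; push_cast; ring
  rw [h4] at h3
  have h5 := Subgroup.card_mul_index A
  have h6 := Subgroup.card_mul_index H
  have h7 : (∑ a ∈ irrKer A \ irrKer H, (ell H a) ^ 2) * (H.index * H.index) + H.index
      = A.index := by exact_mod_cast h3
  have hpos : 0 < H.index := Nat.pos_of_ne_zero Subgroup.index_ne_zero_of_finite
  have h8 : (((∑ a ∈ irrKer A \ irrKer H, (ell H a) ^ 2) * H.index + 1) * Nat.card A) * H.index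
      = Nat.card H * H.index := by
    rw [h6, ← h5, ← h7]; ring
  exact Nat.eq_of_mul_eq_mul_right hpos h8

variable {G : Type*} [Group G] [Fintype G]

/-- One step of the chain: from the characters with kernel containing `A` to those with kernel
containing `B`. -/
theorem chain_step (hC : ∀ h ∈ H, h ≠ 1 → Subgroup.centralizer ({h} : Set N) ≤ H)
    (τ : (N → ℂ) → (G → ℂ))
    (hτ : IsLinearIsometryOn
      (zspanOn (↑(irrKer (⊥ : Subgroup N) \ irrKer H) : Set (N → ℂ)) {1}ᶜ) τ)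
    (hτ1 : ∀ α ∈ zspanOn (↑(irrKer (⊥ : Subgroup N) \ irrKer H) : Set (N → ℂ)) {1}ᶜ,
      τ α 1 = 0)
    (A B D : Subgroup N) [hA' : A.Normal] [hB : B.Normal] (hBA : B ≤ A) (hAc : A ≤ ⁅H, H⁆)
    (hAD : A ≤ D) (hDH : D ≤ H)
    (hcomm : ∀ x ∈ D, ∀ y ∈ H, x * y * x⁻¹ * y⁻¹ ∈ B)
    (χ₁ : N → ℂ) (hχ₁ : χ₁ ∈ irrKer ⁅H, H⁆ \ irrKer H)
    (hA : HasExt (irrKer A \ irrKer H) τ)
    (hNC : ∀ c : ℕ, 2 ≤ c → c ^ 2 * Nat.card D ≤ Nat.card H →
      (2 * H.index * c + 1) * Nat.card A < Nat.card H) :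
    HasExt (irrKer B \ irrKer H) τ := by
  have hAH : A ≤ H := hAD.trans hDH
  have hUS : irrKer B \ irrKer H ⊆ irrKer (⊥ : Subgroup N) \ irrKer H := sdiff_anti H bot_le
  have hsub : zspanOn (↑(irrKer B \ irrKer H) : Set (N → ℂ)) {1}ᶜ
      ⊆ zspanOn (↑(irrKer (⊥ : Subgroup N) \ irrKer H) : Set (N → ℂ)) {1}ᶜ :=
    zspanOn_mono (Finset.coe_subset.2 hUS) _
  refine hasExt_of_step (irrKer B \ irrKer H) (irrKer A \ irrKer H) τ (sdiff_anti H hBA) ?_
    (isLinearIsometryOn_mono hτ hsub) (fun α hα => hτ1 α (hsub hα)) (H.index : ℂ) (ell H) ?_ χ₁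
    (sdiff_anti H hAc hχ₁) (ell_one_of_comm H hC hχ₁) hA ?_
  · intro a ha
    exact ((mem_irrKer _ a).1 (Finset.mem_sdiff.1 ha).1).1
  · intro a ha
    obtain ⟨θ, -, -, -, h, -⟩ := S_ind H hC (hUS ha)
    exact h
  · intro ψ hψ hψA
    obtain ⟨θ, -, -, -, -, h1⟩ := S_ind H hC (hUS hψ)
    have hne1 : ell H ψ ≠ 1 := by
      intro h
      apply hψA
      have h2 := mem_comm_of_ell_one H hC (hUS hψ) h
      exact Finset.mem_sdiff.2 ⟨irrKer_anti hAc h2, (Finset.mem_sdiff.1 hψ).2⟩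
    have h2 : 2 ≤ ell H ψ := by omega
    have h3 := deg_bound H hC B D (hBA.trans hAD) hDH hcomm hψ
    have h4 := hNC (ell H ψ) h2 h3
    rw [← sum_formula H hC A hAH] at h4
    have h5 := Nat.lt_of_mul_lt_mul_right h4
    have h6 : 2 * ell H ψ * H.index
        < (∑ a ∈ irrKer A \ irrKer H, (ell H a) ^ 2) * H.index := by
      have : 2 * ell H ψ * H.index = 2 * H.index * ell H ψ := by ring
      omega
    exact Nat.lt_of_mul_lt_mul_right h6

/-- The chain argument: descending from `H₁` to `M` along the lower central series. -/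
theorem chain (hC : ∀ h ∈ H, h ≠ 1 → Subgroup.centralizer ({h} : Set N) ≤ H)
    (hnil : Group.IsNilpotent H) (τ : (N → ℂ) → (G → ℂ))
    (hτ : IsLinearIsometryOn
      (zspanOn (↑(irrKer (⊥ : Subgroup N) \ irrKer H) : Set (N → ℂ)) {1}ᶜ) τ)
    (hτ1 : ∀ α ∈ zspanOn (↑(irrKer (⊥ : Subgroup N) \ irrKer H) : Set (N → ℂ)) {1}ᶜ,
      τ α 1 = 0)
    (H₁ M X : Subgroup N) [hH₁n : H₁.Normal] [hMn : M.Normal]
    (hM : M ≤ H₁) (hH₁ : H₁ ≤ ⁅H, H⁆) (hXH : X ≤ H)
    (hXM : ∀ x ∈ X, ∀ y ∈ H, x * y * x⁻¹ * y⁻¹ ∈ M)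
    (χ₁ : N → ℂ) (hχ₁ : χ₁ ∈ irrKer ⁅H, H⁆ \ irrKer H)
    (hstart : HasExt (irrKer H₁ \ irrKer H) τ)
    (hNC : ∀ A : Subgroup N, A.Normal → M ≤ A → A ≤ H₁ → A ≠ M → ∀ c : ℕ, 2 ≤ c →
      c ^ 2 * Nat.card (A ⊔ X : Subgroup N) ≤ Nat.card H →
      (2 * H.index * c + 1) * Nat.card A < Nat.card H) :
    HasExt (irrKer M \ irrKer H) τ := by
  have hH₁H : H₁ ≤ H := hH₁.trans (Subgroup.commutator_le_self H)
  have hAn : ∀ k, ((H₁ ⊓ H.lowerCentralSeries k) ⊔ M).Normal := by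
    intro k
    haveI := lcs_normal H k
    infer_instance
  have key : ∀ k, HasExt (irrKer ((H₁ ⊓ H.lowerCentralSeries k) ⊔ M) \ irrKer H) τ := by
    intro k
    induction k with
    | zero =>
      have h0 : (H₁ ⊓ H.lowerCentralSeries 0) ⊔ M = H₁ := by
        rw [Subgroup.lowerCentralSeries_zero, inf_eq_left.2 hH₁H, sup_eq_left.2 hM]
      rw [h0]; exact hstart
    | succ k ih =>
      by_cases heq : (H₁ ⊓ H.lowerCentralSeries (k + 1)) ⊔ M
          = (H₁ ⊓ H.lowerCentralSeries k) ⊔ M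
      · rw [heq]; exact ih
      · haveI := hAn k
        haveI := hAn (k + 1)
        have hle : (H₁ ⊓ H.lowerCentralSeries (k + 1)) ⊔ M
            ≤ (H₁ ⊓ H.lowerCentralSeries k) ⊔ M :=
          sup_le_sup_right
            (inf_le_inf_left _ (Subgroup.lowerCentralSeries_antitone (S := H) (Nat.le_succ k))) _
        have hAH₁ : (H₁ ⊓ H.lowerCentralSeries k) ⊔ M ≤ H₁ := sup_le inf_le_left hM
        have hMle : M ≤ (H₁ ⊓ H.lowerCentralSeries (k + 1)) ⊔ M := le_sup_right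
        refine chain_step H hC τ hτ hτ1 ((H₁ ⊓ H.lowerCentralSeries k) ⊔ M)
          ((H₁ ⊓ H.lowerCentralSeries (k + 1)) ⊔ M)
          (((H₁ ⊓ H.lowerCentralSeries k) ⊔ M) ⊔ X) hle (hAH₁.trans hH₁) le_sup_left
          (sup_le (hAH₁.trans hH₁H) hXH) ?_ χ₁ hχ₁ ih ?_
        · apply comm_mem_of_sup
          · apply comm_mem_of_sup
            · intro x hx y hy
              apply Subgroup.mem_sup_left
              refine Subgroup.mem_inf.2 ⟨?_, ?_⟩
              · have : x * y * x⁻¹ * y⁻¹ = x * (y * x⁻¹ * y⁻¹) := by group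
                rw [this]
                exact H₁.mul_mem (Subgroup.mem_inf.1 hx).1
                  (hH₁n.conj_mem _ (H₁.inv_mem (Subgroup.mem_inf.1 hx).1) y)
              · rw [Subgroup.lowerCentralSeries_succ, ← commutatorElement_def]
                exact Subgroup.commutator_mem_commutator (Subgroup.mem_inf.1 hx).2 hy
            · intro x hx y hy
              apply hMle
              have : x * y * x⁻¹ * y⁻¹ = x * (y * x⁻¹ * y⁻¹) := by group
              rw [this]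
              exact M.mul_mem hx (hMn.conj_mem _ (M.inv_mem hx) y)
          · intro x hx y hy
            exact hMle (hXM x hx y hy)
        · refine hNC _ (hAn k) le_sup_right hAH₁ ?_
          intro h
          apply heq
          apply le_antisymm hle
          rw [h]; exact hMle
  obtain ⟨n, hn⟩ := (Subgroup.isNilpotent_iff_lowerCentralSeries H).mp hnil
  have h := key n
  rw [hn, inf_bot_eq, bot_sup_eq] at h
  exact h

end char

end Cfsg.Agent.Lib.Helper4.Feit
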