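import Mathlib
import Cfsg.Agent.Lib.Helper4.Feit3

/-!
# Feit's coherence theorem for Frobenius groups: assembly
-/

set_option autoImplicit false

namespace Cfsg.Agent.Lib.Helper4.Feit

open Cfsg Cfsg.Agent.Lib.Helper26 Cfsg.Agent.Lib.Helper25 Cfsg.Agent.Lib.Helper4.Sib
  Cfsg.Agent.Lib.Helper9

theorem numeric_b {e c a dD h : ℕ} (ha : 0 < a) (hc : 2 ≤ c) (h1 : (e + 1) * a ≤ dD)
    (h2 : c ^ 2 * dD ≤ h) : (2 * e * c + 1) * a < h := by
  have h3 : 2 * e * c + 1 < c ^ 2 * (e + 1) := by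
    have hcc : 2 * c ≤ c * c := Nat.mul_le_mul_right c hc
    have hcce : 2 * c * e ≤ c * c * e := Nat.mul_le_mul_right e hcc
    have h4 : c ^ 2 * (e + 1) = c * c * e + c * c := by ring
    have h5 : 2 * e * c = 2 * c * e := by ring
    rw [h4, h5]
    omega
  calc (2 * e * c + 1) * a < c ^ 2 * (e + 1) * a := Nat.mul_lt_mul_of_pos_right h3 ha
    _ = c ^ 2 * ((e + 1) * a) := by ring
    _ ≤ c ^ 2 * dD := Nat.mul_le_mul_left _ h1
    _ ≤ h := h2

theorem numeric_a {e c y : ℕ} (hy : 4 * e ^ 2 + 2 ≤ y) (hc : 2 ≤ c) (hcy : c ^ 2 ≤ y) :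
    2 * e * c + 1 < y := by
  rcases Nat.lt_or_ge (2 * e) c with h | h
  · have h1 : (2 * e + 1) * c ≤ c * c := Nat.mul_le_mul_right c h
    nlinarith
  · have h1 : 2 * e * c ≤ 2 * e * (2 * e) := Nat.mul_le_mul_left _ h
    nlinarith

section main

variable {N : Type*} [Group N] [Fintype N] {G : Type*} [Group G] [Fintype G]

theorem set_eq (H : Subgroup N) :
    {χ : N → ℂ | IsIrrCharacter N χ ∧ ∃ h ∈ H, χ h ≠ χ 1}
      = (↑(irrKer (⊥ : Subgroup N) \ irrKer H) : Set (N → ℂ)) := by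
  ext χ
  rw [Finset.mem_coe, Finset.mem_sdiff, mem_irrKer, mem_irrKer, Set.mem_setOf_eq]
  constructor
  · rintro ⟨h1, x, hx, hne⟩
    refine ⟨⟨h1, fun y hy => by rw [Subgroup.mem_bot.1 hy]⟩, fun h => hne (h.2 x hx)⟩
  · rintro ⟨⟨h1, -⟩, h2⟩
    refine ⟨h1, ?_⟩
    by_contra hcon
    push Not at hcon
    exact h2 ⟨h1, hcon⟩

/-- Feit's coherence theorem, with the set of characters as a finset. -/
theorem feit_main (H : Subgroup N) [hH : H.Normal] (hH1 : H ≠ ⊥) (hH2 : H ≠ ⊤)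
    (hC : ∀ h ∈ H, h ≠ 1 → Subgroup.centralizer ({h} : Set N) ≤ H)
    (he : Nat.card H ≠ H.index + 1) (τ : (N → ℂ) → (G → ℂ))
    (hτ : IsLinearIsometryOn
      (zspanOn (↑(irrKer (⊥ : Subgroup N) \ irrKer H) : Set (N → ℂ)) {1}ᶜ) τ)
    (hτ1 : ∀ α ∈ zspanOn (↑(irrKer (⊥ : Subgroup N) \ irrKer H) : Set (N → ℂ)) {1}ᶜ,
      τ α 1 = 0) :
    IsCoherent (↑(irrKer (⊥ : Subgroup N) \ irrKer H) : Set (N → ℂ)) {1}ᶜ τ ∨
      ∃ p : ℕ, p.Prime ∧ (∃ m : ℕ, Nat.card H = p ^ m) ∧ ¬ IsMulCommutative H ∧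
        (⁅H, H⁆.subgroupOf H).index ≤ 4 * H.index ^ 2 + 1 := by
  classical
  have hnil := frob_nilpotent H hH2 hC
  have hirrS : ∀ a ∈ irrKer (⊥ : Subgroup N) \ irrKer H, IsIrrCharacter N a :=
    fun a ha => ((mem_irrKer _ a).1 (Finset.mem_sdiff.1 ha).1).1
  have hcomm_lt : (⁅H, H⁆ : Subgroup N) < H := by
    haveI := hnil
    haveI : Nontrivial H := (Subgroup.nontrivial_iff_ne_bot H).2 hH1
    have h1 := Group.IsSolvable.commutator_lt_top_of_nontrivial H
    rw [← Subgroup.map_subtype_commutator H]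
    conv_rhs => rw [← H.range_subtype, MonoidHom.range_eq_map]
    exact Subgroup.map_subtype_lt_map_subtype.2 h1
  have hsumc := sum_formula H hC ⁅H, H⁆ (Subgroup.commutator_le_self H)
  obtain ⟨χ₁, hχ₁⟩ : ∃ χ₁, χ₁ ∈ irrKer ⁅H, H⁆ \ irrKer H := by
    by_contra hcon
    push Not at hcon
    have hempty : irrKer ⁅H, H⁆ \ irrKer H = ∅ := Finset.eq_empty_of_forall_notMem hcon
    rw [hempty, Finset.sum_empty, zero_mul, zero_add, one_mul] at hsumc
    exact hcomm_lt.ne (Subgroup.eq_of_le_of_card_ge hcomm_lt.le hsumc.ge)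
  have hℓ1 := ell_one_of_comm H hC hχ₁
  have hχ₁S : χ₁ ∈ irrKer (⊥ : Subgroup N) \ irrKer H := sdiff_anti H bot_le hχ₁
  have hstart : HasExt (irrKer ⁅H, H⁆ \ irrKer H) τ := by
    refine hasExt_of_equal_degree (irrKer (⊥ : Subgroup N) \ irrKer H) _ τ (sdiff_anti H bot_le)
      hirrS hτ hτ1 ?_
    intro a ha b hb
    obtain ⟨_, -, -, -, h1, -⟩ := S_ind H hC (sdiff_anti H bot_le ha)
    obtain ⟨_, -, -, -, h2, -⟩ := S_ind H hC (sdiff_anti H bot_le hb)
    rw [h1, h2, ell_one_of_comm H hC ha, ell_one_of_comm H hC hb]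
  have hne : ∃ α ∈ zspanOn (↑(irrKer (⊥ : Subgroup N) \ irrKer H) : Set (N → ℂ)) {1}ᶜ,
      α ≠ 0 := by
    have hsumS := sum_formula H hC ⊥ bot_le
    rw [Subgroup.card_bot, mul_one] at hsumS
    obtain ⟨ψ, hψS, hψne⟩ : ∃ ψ ∈ irrKer (⊥ : Subgroup N) \ irrKer H, ψ ≠ χ₁ := by
      by_contra hcon
      push Not at hcon
      have hS1 : irrKer (⊥ : Subgroup N) \ irrKer H = {χ₁} :=
        Finset.eq_singleton_iff_unique_mem.2 ⟨hχ₁S, hcon⟩
      rw [hS1, Finset.sum_singleton, hℓ1] at hsumS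
      apply he
      omega
    obtain ⟨θ, -, -, -, hψ1, -⟩ := S_ind H hC hψS
    obtain ⟨θ', -, -, -, hχ1, -⟩ := S_ind H hC hχ₁S
    rw [hℓ1] at hχ1
    refine ⟨((ell H ψ : ℕ) : ℤ) • χ₁ - ψ, ?_, ?_⟩
    · rw [mem_zspanOn_one]
      refine ⟨Submodule.sub_mem _
        (Submodule.smul_mem _ _ (Submodule.subset_span (Finset.mem_coe.2 hχ₁S)))
        (Submodule.subset_span (Finset.mem_coe.2 hψS)), ?_⟩
      rw [Pi.sub_apply, zsmul_apply', hχ1, hψ1]
      push_cast
      ring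
    · intro h0
      have h1 : classInner (((ell H ψ : ℕ) : ℤ) • χ₁ - ψ) ψ = 0 := by
        rw [h0, classInner_zero_left]
      rw [classInner_sub_left, classInner_zsmul_left,
        classInner_irr_ne (hirrS χ₁ hχ₁S) (hirrS ψ hψS) (Ne.symm hψne),
        classInner_irr_self (hirrS ψ hψS)] at h1
      norm_num at h1
  suffices hmain : HasExt (irrKer (⊥ : Subgroup N) \ irrKer H) τ ∨
      ∃ p : ℕ, p.Prime ∧ (∃ m : ℕ, Nat.card H = p ^ m) ∧ ¬ IsMulCommutative H ∧
        (⁅H, H⁆.subgroupOf H).index ≤ 4 * H.index ^ 2 + 1 by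
    rcases hmain with h | h
    · exact Or.inl (HasExt.isCoherent hirrS h hne)
    · exact Or.inr h
  obtain ⟨m, hm⟩ := Subgroup.card_dvd_of_le hcomm_lt.le
  have hm1 : m ≠ 1 := by
    intro h
    rw [h, mul_one] at hm
    exact hcomm_lt.ne (Subgroup.eq_of_le_of_card_ge hcomm_lt.le hm.le)
  obtain ⟨q, hq, hqm⟩ := Nat.exists_prime_and_dvd hm1
  haveI : Fact q.Prime := ⟨hq⟩
  have hqdvd : q * Nat.card (⁅H, H⁆ : Subgroup N) ∣ Nat.card H := by
    rw [hm, mul_comm]
    exact Nat.mul_dvd_mul_left _ hqm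
  by_cases hpow : ∃ k : ℕ, Nat.card H = q ^ k
  · by_cases hab : IsMulCommutative H
    · left
      have hbot : (⁅H, H⁆ : Subgroup N) = ⊥ := Subgroup.commutator_self_eq_bot_iff.2 hab
      rw [hbot] at hstart
      exact hstart
    · by_cases hidx : (⁅H, H⁆.subgroupOf H).index ≤ 4 * H.index ^ 2 + 1
      · exact Or.inr ⟨q, hq, hpow, hab, hidx⟩
      · left
        push Not at hidx
        have hidx' : (⁅H, H⁆.subgroupOf H).index = m := by
          have h1 := Subgroup.card_mul_index (⁅H, H⁆.subgroupOf H)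
          rw [Nat.card_congr (Subgroup.subgroupOfEquivOfLe hcomm_lt.le).toEquiv, hm] at h1
          exact Nat.eq_of_mul_eq_mul_left Nat.card_pos h1
        rw [hidx'] at hidx
        refine chain H hC hnil τ hτ hτ1 ⁅H, H⁆ ⊥ ⊥ bot_le le_rfl bot_le (fun x hx y hy => ?_)
          χ₁ hχ₁ hstart ?_
        · rw [Subgroup.mem_bot] at hx ⊢
          rw [hx]
          group
        · intro A hAn hMA hAH₁ hAM c hc hcD
          rw [sup_bot_eq] at hcD
          obtain ⟨y, hy⟩ := Subgroup.card_dvd_of_le (hAH₁.trans hcomm_lt.le)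
          obtain ⟨z, hz⟩ := Subgroup.card_dvd_of_le hAH₁
          have hApos : 0 < Nat.card A := Nat.card_pos
          have hy1 : y = z * m := by
            have h1 : Nat.card A * y = Nat.card A * (z * m) := by
              rw [← hy, hm, hz, mul_assoc]
            exact Nat.eq_of_mul_eq_mul_left hApos h1
          have hzpos : 0 < z := by
            rcases Nat.eq_zero_or_pos z with h | h
            · rw [h, mul_zero] at hz
              have := Nat.card_pos (α := (⁅H, H⁆ : Subgroup N))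
              omega
            · exact h
          have hmy : 4 * H.index ^ 2 + 2 ≤ y := by
            rw [hy1]
            calc 4 * H.index ^ 2 + 2 ≤ m := by omega
              _ ≤ z * m := Nat.le_mul_of_pos_left m hzpos
          have hcy : c ^ 2 ≤ y := by
            rw [hy] at hcD
            have h1 : Nat.card A * c ^ 2 ≤ Nat.card A * y := by
              rw [mul_comm]; exact hcD
            exact Nat.le_of_mul_le_mul_left h1 hApos
          have hfin := numeric_a hmy hc hcy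
          rw [hy, mul_comm (Nat.card A) y]
          exact Nat.mul_lt_mul_of_pos_right hfin hApos
  · left
    have hr : ∃ r : ℕ, r.Prime ∧ r ∣ Nat.card H ∧ r ≠ q := by
      by_contra hcon
      push Not at hcon
      apply hpow
      exact ⟨_, Nat.eq_prime_pow_of_unique_prime_dvd Nat.card_pos.ne'
        (fun {d} hd hdvd => hcon d hd hdvd)⟩
    obtain ⟨r, hr, hrdvd, hrq⟩ := hr
    haveI : Fact r.Prime := ⟨hr⟩
    obtain ⟨z, hzZ, hzQ⟩ := exists_central_not_mem H hnil q r (Ne.symm hrq) hrdvd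
    haveI hQn : (pPart H q).Normal := pPart_normal H q
    have hQH : pPart H q ≤ H := pPart_le H q
    have hQc : ¬ pPart H q ≤ ⁅H, H⁆ := pPart_not_le_commutator H hnil q hqdvd
    have hM₁Q : (⁅pPart H q, H⁆ : Subgroup N) ≤ pPart H q :=
      Subgroup.commutator_le_left (pPart H q) H
    have hM₁c : (⁅pPart H q, H⁆ : Subgroup N) ≤ ⁅H, H⁆ := Subgroup.commutator_mono hQH le_rfl
    have hβ : HasExt (irrKer ⁅pPart H q, H⁆ \ irrKer H) τ := by
      refine chain H hC hnil τ hτ hτ1 ⁅H, H⁆ ⁅pPart H q, H⁆ (pPart H q) hM₁c le_rfl hQH ?_ χ₁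
        hχ₁ hstart ?_
      · intro x hx y hy
        rw [← commutatorElement_def]
        exact Subgroup.commutator_mem_commutator hx hy
      · intro A hAn hMA hAH₁ hAM c hc hcD
        haveI := hAn
        have hlt : A < A ⊔ pPart H q := by
          refine lt_of_le_of_ne le_sup_left ?_
          intro h
          apply hQc
          have h1 : pPart H q ≤ A := by rw [h]; exact le_sup_right
          exact h1.trans hAH₁
        have h1 := frob_index_step H hC A (A ⊔ pPart H q) hlt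
          (sup_le (hAH₁.trans hcomm_lt.le) hQH)
        exact numeric_b Nat.card_pos hc h1 hcD
    refine chain H hC hnil τ hτ hτ1 ⁅pPart H q, H⁆ ⊥
      (H ⊓ Subgroup.centralizer (H : Set N)) bot_le hM₁c inf_le_left ?_ χ₁ hχ₁ hβ ?_
    · intro x hx y hy
      rw [Subgroup.mem_bot]
      have h1 := (Subgroup.mem_centralizer_iff.1 (Subgroup.mem_inf.1 hx).2) y hy
      calc x * y * x⁻¹ * y⁻¹ = y * x * x⁻¹ * y⁻¹ := by rw [h1]
        _ = 1 := by group
    · intro A hAn hMA hAH₁ hAM c hc hcD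
      haveI := hAn
      have hlt : A < A ⊔ (H ⊓ Subgroup.centralizer (H : Set N)) := by
        refine lt_of_le_of_ne le_sup_left ?_
        intro h
        apply hzQ
        have h1 : z ∈ A := by rw [h]; exact Subgroup.mem_sup_right hzZ
        exact hM₁Q (hAH₁ h1)
      have h1 := frob_index_step H hC A (A ⊔ (H ⊓ Subgroup.centralizer (H : Set N))) hlt
        (sup_le (hAH₁.trans (hM₁c.trans hcomm_lt.le)) inf_le_left)
      exact numeric_b Nat.card_pos hc h1 hcD

end main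

end Cfsg.Agent.Lib.Helper4.Feit
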