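import Mathlib
import Cfsg.Prelude.Def_LieExceptional
import Cfsg.Agent.Lib.Helper13.Zass
import Cfsg.Agent.Lib.Helper83.ZassInv2

/-!
# Involutions in simple Zassenhaus groups with odd two-point stabilisers

Elementary counting: the elements interchanging two points are involutions, all involutions
are conjugate, and their number is known.
-/

set_option autoImplicit false

namespace Cfsg.Agent.Lib.Helper4.Zass

open MulAction Cfsg.Agent.Lib.Helper13

variable {G Ω : Type*} [Group G] [MulAction G Ω]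

/-- Elements mapping a pair of distinct points to another such pair: as many as the two-point
stabiliser. -/
theorem card_maps (hZ : Cfsg.IsZassenhausGroup G Ω) {a b : Ω} (hab : a ≠ b)
    {c d c' d' : Ω} (hcd : c ≠ d) (hcd' : c' ≠ d') :
    Nat.card {g : G // g • c = c' ∧ g • d = d'}
      = Nat.card ↥(stabilizer G a ⊓ stabilizer G b : Subgroup G) := by
  obtain ⟨g₁, hg₁a, hg₁b⟩ := zass_two_trans hZ hab hcd
  obtain ⟨g₂, hg₂a, hg₂b⟩ := zass_two_trans hZ hab hcd'
  have hg₁a' : g₁⁻¹ • c = a := inv_smul_eq_iff.2 hg₁a.symm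
  have hg₁b' : g₁⁻¹ • d = b := inv_smul_eq_iff.2 hg₁b.symm
  have hmap : ∀ s : ↥(stabilizer G a ⊓ stabilizer G b : Subgroup G),
      (g₂ * (s : G) * g₁⁻¹) • c = c' ∧ (g₂ * (s : G) * g₁⁻¹) • d = d' := by
    intro s
    have hsa : (s : G) • a = a := (Subgroup.mem_inf.1 s.2).1
    have hsb : (s : G) • b = b := (Subgroup.mem_inf.1 s.2).2
    constructor
    · rw [mul_smul, mul_smul, hg₁a', hsa, hg₂a]
    · rw [mul_smul, mul_smul, hg₁b', hsb, hg₂b]
  symm
  refine Nat.card_eq_of_bijective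
    (fun s => (⟨g₂ * (s : G) * g₁⁻¹, hmap s⟩ : {g : G // g • c = c' ∧ g • d = d'})) ⟨?_, ?_⟩
  · intro s s' hss
    have h1 : g₂ * (s : G) * g₁⁻¹ = g₂ * (s' : G) * g₁⁻¹ := congrArg Subtype.val hss
    exact Subtype.ext (mul_left_cancel (mul_right_cancel h1))
  · rintro ⟨g, hgc, hgd⟩
    have hs : g₂⁻¹ * g * g₁ ∈ (stabilizer G a ⊓ stabilizer G b : Subgroup G) := by
      refine Subgroup.mem_inf.2 ⟨?_, ?_⟩
      · show (g₂⁻¹ * g * g₁) • a = a
        rw [mul_smul, mul_smul, hg₁a, hgc, inv_smul_eq_iff, hg₂a]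
      · show (g₂⁻¹ * g * g₁) • b = b
        rw [mul_smul, mul_smul, hg₁b, hgd, inv_smul_eq_iff, hg₂b]
    refine ⟨⟨g₂⁻¹ * g * g₁, hs⟩, Subtype.ext ?_⟩
    show g₂ * (g₂⁻¹ * g * g₁) * g₁⁻¹ = g
    group

/-- The order of a Zassenhaus group. -/
theorem card_G [Finite G] [Fintype Ω] (hZ : Cfsg.IsZassenhausGroup G Ω) {a b : Ω} (hab : a ≠ b)
    (h e : ℕ) (hh : Fintype.card Ω = h + 1)
    (he : Nat.card ↥(stabilizer G a ⊓ stabilizer G b : Subgroup G) = e) :
    Nat.card G = (h + 1) * h * e := by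
  classical
  haveI : Fintype G := Fintype.ofFinite G
  have h1 := Finset.card_eq_sum_card_fiberwise (s := (Finset.univ : Finset G))
    (t := (Finset.univ : Finset Ω).offDiag) (f := fun g : G => (g • a, g • b))
    (fun g _ => by
      rw [Finset.mem_coe, Finset.mem_offDiag]
      exact ⟨Finset.mem_univ _, Finset.mem_univ _, fun hgg => hab (MulAction.injective g hgg)⟩)
  have h2 : ∀ q ∈ (Finset.univ : Finset Ω).offDiag,
      (Finset.univ.filter (fun g : G => (g • a, g • b) = q)).card = e := by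
    intro q hq
    have hq' : q.1 ≠ q.2 := (Finset.mem_offDiag.1 hq).2.2
    rw [← he, ← card_maps hZ hab hab hq', Nat.card_eq_fintype_card, Fintype.card_subtype]
    congr 1
    ext g
    simp only [Finset.mem_filter, Finset.mem_univ, true_and, Prod.ext_iff]
  rw [Finset.sum_congr rfl h2, Finset.sum_const, Finset.offDiag_card,
    Finset.card_univ (α := Ω), hh, smul_eq_mul] at h1
  rw [Nat.card_eq_fintype_card, ← Finset.card_univ, h1]
  have : (h + 1) * (h + 1) - (h + 1) = (h + 1) * h := by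
    rw [Nat.mul_succ, Nat.add_sub_cancel]
  rw [this]

/-- In a simple Zassenhaus group with odd two-point stabiliser `E`, the elements interchanging
`a` and `b` invert `E`. -/
theorem swap_inverts [Finite G] [Fintype Ω] (hZ : Cfsg.IsZassenhausGroup G Ω) {a b : Ω}
    (hab : a ≠ b) [IsSimpleGroup G]
    (hodd : Odd (Nat.card ↥(stabilizer G a ⊓ stabilizer G b : Subgroup G))) :
    ∀ s : G, s • a = b → s • b = a →
      ∀ x ∈ (stabilizer G a ⊓ stabilizer G b : Subgroup G), s * x * s⁻¹ = x⁻¹ := by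
  obtain ⟨g₀, hg₀, a', b', hab', hga', hgb'⟩ := hZ.2.2.2.1
  obtain ⟨k, hka, hkb⟩ := zass_two_trans hZ hab' hab
  have hne : ∃ g : G, g ≠ 1 ∧ g • a = a ∧ g • b = b := by
    refine ⟨k * g₀ * k⁻¹, ?_, ?_, ?_⟩
    · intro h1
      apply hg₀
      have : g₀ = k⁻¹ * (k * g₀ * k⁻¹) * k := by group
      rw [this, h1]
      group
    · rw [mul_smul, mul_smul, inv_smul_eq_iff.2 hka.symm, hga', hka]
    · rw [mul_smul, mul_smul, inv_smul_eq_iff.2 hkb.symm, hgb', hkb]
  have hc : ∃ c : Ω, c ≠ a ∧ c ≠ b := by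
    obtain ⟨g, hg1, hga, hgb⟩ := hne
    obtain ⟨c, hc⟩ := zass_exists_moved hZ hg1
    exact ⟨c, fun h => hc (h ▸ hga), fun h => hc (h ▸ hgb)⟩
  have hnil : ∀ q : ℕ, q.Prime →
      q ∣ Nat.card ↥(stabilizer G a ⊓ stabilizer G b : Subgroup G) →
      ¬ ∃ N : Subgroup G, N.Normal ∧ N.index = q ^ (Nat.card G).factorization q := by
    rintro q hq hqdvd ⟨N, hN, hidx⟩
    have hqG : q ∣ Nat.card G := dvd_trans hqdvd (Subgroup.card_subgroup_dvd_card _)
    have hfac : 1 ≤ (Nat.card G).factorization q :=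
      (hq.factorization_pos_of_dvd Nat.card_pos.ne' hqG)
    have hqodd : q ≠ 2 := by
      intro h2
      rw [h2] at hqdvd
      exact (Nat.not_even_iff_odd.2 hodd) (even_iff_two_dvd.2 hqdvd)
    rcases hN.eq_bot_or_eq_top with hbot | htop
    · rw [hbot, Subgroup.index_bot] at hidx
      obtain ⟨t, ht⟩ := zass_exists_involution hZ hab
      have h2 : 2 ∣ Nat.card G := by rw [← ht]; exact orderOf_dvd_natCard t
      rw [hidx] at h2
      have h3 : 2 ∣ q := Nat.prime_two.dvd_of_dvd_pow h2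
      exact hqodd ((Nat.prime_dvd_prime_iff_eq Nat.prime_two hq).1 h3).symm
    · rw [htop, Subgroup.index_top] at hidx
      have : 1 < q ^ (Nat.card G).factorization q :=
        Nat.one_lt_pow (by omega) hq.one_lt
      omega
  have hZI := Cfsg.Agent.Lib.Helper83.zass_zinv hab hZ.2.1 hZ.2.2.1 hne hc hodd hnil
  intro s hsa hsb x hx
  exact hZI.inverts s ⟨hsa, hsb⟩ x hx

/-- Elements interchanging two points are involutions. -/
theorem swap_invol [Finite G] [Fintype Ω] (hZ : Cfsg.IsZassenhausGroup G Ω) {a b : Ω}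
    (hab : a ≠ b) [IsSimpleGroup G]
    (hodd : Odd (Nat.card ↥(stabilizer G a ⊓ stabilizer G b : Subgroup G)))
    {c d : Ω} (hcd : c ≠ d) {s : G} (hsc : s • c = d) (hsd : s • d = c) : orderOf s = 2 := by
  obtain ⟨g, hga, hgb⟩ := zass_two_trans hZ hab hcd
  obtain ⟨t, ht⟩ : ∃ t : G, t = g⁻¹ * s * g := ⟨_, rfl⟩
  have hta : t • a = b := by
    rw [ht, mul_smul, mul_smul, hga, hsc, inv_smul_eq_iff, hgb]
  have htb : t • b = a := by
    rw [ht, mul_smul, mul_smul, hgb, hsd, inv_smul_eq_iff, hga]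
  have htt : t * t ∈ (stabilizer G a ⊓ stabilizer G b : Subgroup G) := by
    refine Subgroup.mem_inf.2 ⟨?_, ?_⟩
    · show (t * t) • a = a
      rw [mul_smul, hta, htb]
    · show (t * t) • b = b
      rw [mul_smul, htb, hta]
  have hinv := swap_inverts hZ hab hodd t hta htb (t * t) htt
  have h1 : t * (t * t) * t⁻¹ = t * t := by group
  rw [h1] at hinv
  have h2 : (t * t) ^ 2 = 1 := by
    rw [sq]
    nth_rewrite 2 [hinv]
    exact mul_inv_cancel _
  have h3 : orderOf (t * t) ∣ 2 := orderOf_dvd_of_pow_eq_one h2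
  have h4 : orderOf (t * t) ∣ Nat.card ↥(stabilizer G a ⊓ stabilizer G b : Subgroup G) :=
    Subgroup.orderOf_dvd_natCard _ htt
  have h5 : orderOf (t * t) = 1 := by
    rcases (Nat.dvd_prime Nat.prime_two).1 h3 with h | h
    · exact h
    · exfalso
      rw [h] at h4
      exact (Nat.not_even_iff_odd.2 hodd) (even_iff_two_dvd.2 h4)
  have h6 : t * t = 1 := orderOf_eq_one_iff.1 h5
  have h7 : t ≠ 1 := by
    intro h
    rw [h, one_smul] at hta
    exact hab hta
  haveI : Fact (Nat.Prime 2) := ⟨Nat.prime_two⟩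
  have h8 : orderOf t = 2 := orderOf_eq_prime (by rw [sq]; exact h6) h7
  have h9 : s = g * t * g⁻¹ := by rw [ht]; group
  rw [h9, orderOf_conj_eq]
  exact h8

/-- The number of involutions mapping `c` to `d`. -/
theorem card_inv_maps [Finite G] [Fintype Ω] (hZ : Cfsg.IsZassenhausGroup G Ω) {a b : Ω}
    (hab : a ≠ b) [IsSimpleGroup G]
    (hodd : Odd (Nat.card ↥(stabilizer G a ⊓ stabilizer G b : Subgroup G)))
    {c d : Ω} (hcd : c ≠ d) :
    Nat.card {x : G // orderOf x = 2 ∧ x • c = d}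
      = Nat.card ↥(stabilizer G a ⊓ stabilizer G b : Subgroup G) := by
  rw [← card_maps hZ hab hcd (Ne.symm hcd)]
  refine Nat.card_congr (Equiv.subtypeEquivRight (fun x => ?_))
  constructor
  · rintro ⟨hx, hxc⟩
    refine ⟨hxc, ?_⟩
    rw [← hxc, ← mul_smul, mul_self_of_orderOf_two hx, one_smul]
  · rintro ⟨hxc, hxd⟩
    exact ⟨swap_invol hZ hab hodd hcd hxc hxd, hxc⟩

/-- An involution fixes at most one point. -/
theorem inv_fix_unique [Finite G] (hZ : Cfsg.IsZassenhausGroup G Ω) {a b : Ω} (hab : a ≠ b)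
    (hodd : Odd (Nat.card ↥(stabilizer G a ⊓ stabilizer G b : Subgroup G)))
    {x : G} (hx : orderOf x = 2) {c d : Ω} (hc : x • c = c) (hd : x • d = d) : c = d := by
  by_contra hcd
  obtain ⟨g, hga, hgb⟩ := zass_two_trans hZ hcd hab
  have hmem : g * x * g⁻¹ ∈ (stabilizer G a ⊓ stabilizer G b : Subgroup G) := by
    refine Subgroup.mem_inf.2 ⟨?_, ?_⟩
    · show (g * x * g⁻¹) • a = a
      rw [mul_smul, mul_smul, inv_smul_eq_iff.2 hga.symm, hc, hga]
    · show (g * x * g⁻¹) • b = b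
      rw [mul_smul, mul_smul, inv_smul_eq_iff.2 hgb.symm, hd, hgb]
  have h1 := Subgroup.orderOf_dvd_natCard _ hmem
  rw [orderOf_conj_eq, hx] at h1
  exact (Nat.not_even_iff_odd.2 hodd) (even_iff_two_dvd.2 h1)

/-- Fixed points of an involution, by the parity of `h`. -/
theorem inv_fix [Finite G] [Fintype Ω] (hZ : Cfsg.IsZassenhausGroup G Ω) {a b : Ω}
    (hab : a ≠ b) (hodd : Odd (Nat.card ↥(stabilizer G a ⊓ stabilizer G b : Subgroup G)))
    (h : ℕ) (hh : Fintype.card Ω = h + 1) {x : G} (hx : orderOf x = 2) :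
    (Even h → ∃ c : Ω, x • c = c) ∧ (Odd h → ∀ c : Ω, x • c ≠ c) := by
  have hsub : Subsingleton (fixedBy Ω x) :=
    ⟨fun p q => Subtype.ext (inv_fix_unique hZ hab hodd hx p.2 q.2)⟩
  have hle : Nat.card (fixedBy Ω x) ≤ 1 := Finite.card_le_one_iff_subsingleton.2 hsub
  have hmod := card_modEq_card_fixedBy_two (Ω := Ω) hx
  rw [Nat.card_eq_fintype_card, hh] at hmod
  constructor
  · intro heven
    have h1 : Nat.card (fixedBy Ω x) ≠ 0 := by
      intro h0
      rw [h0] at hmod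
      have : (h + 1) % 2 = 0 := hmod
      rcases heven with ⟨k, hk⟩
      omega
    obtain ⟨hne, -⟩ := Nat.card_ne_zero.1 h1
    obtain ⟨c, hc⟩ := hne
    exact ⟨c, hc⟩
  · intro hodd' c hc
    have h1 : Nat.card (fixedBy Ω x) = 1 := by
      have h2 : Nat.card (fixedBy Ω x) ≠ 0 := by
        haveI : Nonempty (fixedBy Ω x) := ⟨⟨c, hc⟩⟩
        exact Nat.card_pos.ne'
      omega
    rw [h1] at hmod
    have : (h + 1) % 2 = 1 % 2 := hmod
    rcases hodd' with ⟨k, hk⟩
    omega

/-- All involutions are conjugate. -/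
theorem inv_conj [Finite G] [Fintype Ω] (hZ : Cfsg.IsZassenhausGroup G Ω) {a b : Ω}
    (hab : a ≠ b) [IsSimpleGroup G]
    (hodd : Odd (Nat.card ↥(stabilizer G a ⊓ stabilizer G b : Subgroup G)))
    {x y : G} (hx : orderOf x = 2) (hy : orderOf y = 2) : IsConj x y := by
  -- every involution is conjugate to one interchanging `a` and `b`
  have key : ∀ z : G, orderOf z = 2 → ∃ z' : G, IsConj z z' ∧ z' • a = b ∧ z' • b = a := by
    intro z hz
    obtain ⟨c, hc⟩ := zass_exists_moved hZ (ne_one_of_orderOf_two hz)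
    have hzz : z • (z • c) = c := by
      rw [← mul_smul, mul_self_of_orderOf_two hz, one_smul]
    obtain ⟨g, hgc, hgd⟩ := zass_two_trans hZ (Ne.symm hc) hab
    refine ⟨g * z * g⁻¹, isConj_iff.2 ⟨g, rfl⟩, ?_, ?_⟩
    · rw [mul_smul, mul_smul, inv_smul_eq_iff.2 hgc.symm, hgd]
    · rw [mul_smul, mul_smul, inv_smul_eq_iff.2 hgd.symm, hzz, hgc]
  obtain ⟨x', hxx', hxa, hxb⟩ := key x hx
  obtain ⟨y', hyy', hya, hyb⟩ := key y hy
  have hx'2 : orderOf x' = 2 := swap_invol hZ hab hodd hab hxa hxb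
  have hx'x' : x' * x' = 1 := mul_self_of_orderOf_two hx'2
  have hx'inv : x'⁻¹ = x' := inv_eq_of_mul_eq_one_right hx'x'
  obtain ⟨s, hs⟩ : ∃ s : G, s = x'⁻¹ * y' := ⟨_, rfl⟩
  have hsE : s ∈ (stabilizer G a ⊓ stabilizer G b : Subgroup G) := by
    refine Subgroup.mem_inf.2 ⟨?_, ?_⟩
    · show s • a = a
      rw [hs, mul_smul, hya, inv_smul_eq_iff, hxa]
    · show s • b = b
      rw [hs, mul_smul, hyb, inv_smul_eq_iff, hxb]
  have hsodd : Odd (orderOf s) :=
    Odd.of_dvd_nat hodd (Subgroup.orderOf_dvd_natCard _ hsE)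
  obtain ⟨m, hm⟩ := hsodd
  obtain ⟨r, hr⟩ : ∃ r : G, r = s ^ (m + 1) := ⟨_, rfl⟩
  have hrE : r ∈ (stabilizer G a ⊓ stabilizer G b : Subgroup G) := by
    rw [hr]; exact Subgroup.pow_mem _ hsE _
  have hrr : r * r = s := by
    rw [hr, ← pow_add]
    have : m + 1 + (m + 1) = orderOf s + 1 := by omega
    rw [this, pow_succ, pow_orderOf_eq_one, one_mul]
  have hinv := swap_inverts hZ hab hodd x' hxa hxb r hrE
  have h1 : x'⁻¹ * r⁻¹ * x' = r := by
    have h2 : x' * r⁻¹ * x'⁻¹ = r := by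
      have h3 : x' * r⁻¹ * x'⁻¹ = (x' * r * x'⁻¹)⁻¹ := by group
      rw [h3, hinv, inv_inv]
    rw [hx'inv] at h2 ⊢
    exact h2
  have hconj : IsConj x' y' := by
    refine isConj_iff.2 ⟨r⁻¹, ?_⟩
    have h2 : y' = x' * s := by rw [hs]; group
    rw [h2, ← hrr, inv_inv]
    calc r⁻¹ * x' * r = x' * (x'⁻¹ * r⁻¹ * x') * r := by group
      _ = x' * r * r := by rw [h1]
      _ = x' * (r * r) := by group
  exact hxx'.trans (hconj.trans hyy'.symm)

/-- The number of involutions. -/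
theorem card_inv [Finite G] [Fintype Ω] (hZ : Cfsg.IsZassenhausGroup G Ω) {a b : Ω}
    (hab : a ≠ b) [IsSimpleGroup G] (h e : ℕ) (hh : Fintype.card Ω = h + 1)
    (he : Nat.card ↥(stabilizer G a ⊓ stabilizer G b : Subgroup G) = e) (hodd : Odd e) :
    Nat.card {x : G // orderOf x = 2} = if Even h then e * (h + 1) else e * h := by
  classical
  haveI : Fintype G := Fintype.ofFinite G
  have hodd' : Odd (Nat.card ↥(stabilizer G a ⊓ stabilizer G b : Subgroup G)) := by
    rw [he]; exact hodd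
  obtain ⟨P, hP⟩ : ∃ P : Finset (G × Ω),
      P = Finset.univ.filter (fun p : G × Ω => orderOf p.1 = 2 ∧ p.1 • p.2 ≠ p.2) := ⟨_, rfl⟩
  have hPmem : ∀ p : G × Ω, p ∈ P ↔ orderOf p.1 = 2 ∧ p.1 • p.2 ≠ p.2 := by
    intro p
    rw [hP, Finset.mem_filter]
    exact ⟨fun hp => hp.2, fun hp => ⟨Finset.mem_univ _, hp⟩⟩
  -- first count
  have h1 := Finset.card_eq_sum_card_fiberwise (s := P)
    (t := (Finset.univ : Finset Ω).offDiag) (f := fun p : G × Ω => (p.2, p.1 • p.2))
    (fun p hp => by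
      rw [Finset.mem_coe, Finset.mem_offDiag]
      exact ⟨Finset.mem_univ _, Finset.mem_univ _,
        fun hgg => ((hPmem p).1 (Finset.mem_coe.1 hp)).2 hgg.symm⟩)
  have h2 : ∀ q ∈ (Finset.univ : Finset Ω).offDiag,
      (P.filter (fun p : G × Ω => (p.2, p.1 • p.2) = q)).card = e := by
    intro q hq
    have hq' : q.1 ≠ q.2 := (Finset.mem_offDiag.1 hq).2.2
    rw [← he, ← card_inv_maps hZ hab hodd' hq', Nat.card_eq_fintype_card, Fintype.card_subtype]
    refine Finset.card_bij (fun p _ => p.1) ?_ ?_ ?_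
    · intro p hp
      obtain ⟨hpP, hpq⟩ := Finset.mem_filter.1 hp
      have h3 := (hPmem p).1 hpP
      have h4 := Prod.ext_iff.1 hpq
      rw [Finset.mem_filter]
      refine ⟨Finset.mem_univ _, h3.1, ?_⟩
      rw [← h4.1]
      exact h4.2
    · intro p hp p' hp' hpp
      have h4 := Prod.ext_iff.1 (Finset.mem_filter.1 hp).2
      have h4' := Prod.ext_iff.1 (Finset.mem_filter.1 hp').2
      exact Prod.ext hpp (h4.1.trans h4'.1.symm)
    · intro x hx
      obtain ⟨-, hx2, hxq⟩ := Finset.mem_filter.1 hx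
      refine ⟨(x, q.1), ?_, rfl⟩
      rw [Finset.mem_filter, hPmem]
      refine ⟨⟨hx2, ?_⟩, Prod.ext rfl hxq⟩
      show x • q.1 ≠ q.1
      rw [hxq]
      exact Ne.symm hq'
  rw [Finset.sum_congr rfl h2, Finset.sum_const, Finset.offDiag_card,
    Finset.card_univ (α := Ω), hh, smul_eq_mul] at h1
  have hoff : (h + 1) * (h + 1) - (h + 1) = (h + 1) * h := by
    rw [Nat.mul_succ, Nat.add_sub_cancel]
  rw [hoff] at h1
  -- second count
  have h3 := Finset.card_eq_sum_card_fiberwise (s := P)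
    (t := Finset.univ.filter (fun x : G => orderOf x = 2)) (f := fun p : G × Ω => p.1)
    (fun p hp => by
      rw [Finset.mem_coe, Finset.mem_filter]
      exact ⟨Finset.mem_univ _, ((hPmem p).1 (Finset.mem_coe.1 hp)).1⟩)
  obtain ⟨f, hf⟩ : ∃ f : ℕ, f = if Even h then 1 else 0 := ⟨_, rfl⟩
  have h4 : ∀ x ∈ Finset.univ.filter (fun x : G => orderOf x = 2),
      (P.filter (fun p : G × Ω => p.1 = x)).card + f = h + 1 := by
    intro x hx
    have hx2 : orderOf x = 2 := (Finset.mem_filter.1 hx).2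
    have h5 : (P.filter (fun p : G × Ω => p.1 = x)).card
        = (Finset.univ.filter (fun c : Ω => ¬ x • c = c)).card := by
      refine Finset.card_bij (fun p _ => p.2) ?_ ?_ ?_
      · intro p hp
        obtain ⟨hpP, hpx⟩ := Finset.mem_filter.1 hp
        have h6 := ((hPmem p).1 hpP).2
        rw [Finset.mem_filter]
        refine ⟨Finset.mem_univ _, ?_⟩
        rw [← hpx]
        exact h6
      · intro p hp p' hp' hpp
        exact Prod.ext ((Finset.mem_filter.1 hp).2.trans (Finset.mem_filter.1 hp').2.symm) hpp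
      · intro c hc
        refine ⟨(x, c), ?_, rfl⟩
        rw [Finset.mem_filter, hPmem]
        exact ⟨⟨hx2, (Finset.mem_filter.1 hc).2⟩, rfl⟩
    have h6 : (Finset.univ.filter (fun c : Ω => x • c = c)).card = f := by
      obtain ⟨hev, hod⟩ := inv_fix hZ hab hodd' h hh hx2
      rw [hf]
      by_cases hpar : Even h
      · rw [if_pos hpar]
        obtain ⟨c, hc⟩ := hev hpar
        rw [Finset.card_eq_one]
        refine ⟨c, Finset.ext (fun d => ?_)⟩
        rw [Finset.mem_filter, Finset.mem_singleton]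
        exact ⟨fun hd => inv_fix_unique hZ hab hodd' hx2 hd.2 hc,
          fun hd => ⟨Finset.mem_univ _, hd ▸ hc⟩⟩
      · rw [if_neg hpar, Finset.card_eq_zero]
        refine Finset.eq_empty_of_forall_notMem (fun d hd => ?_)
        exact hod (Nat.not_even_iff_odd.1 hpar) d (Finset.mem_filter.1 hd).2
    have h7 := Finset.card_filter_add_card_filter_not (s := (Finset.univ : Finset Ω))
      (fun c : Ω => x • c = c)
    rw [Finset.card_univ, hh, h6] at h7
    rw [h5]
    omega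
  have h5 : ∀ x ∈ Finset.univ.filter (fun x : G => orderOf x = 2),
      (P.filter (fun p : G × Ω => p.1 = x)).card = h + 1 - f :=
    fun x hx => by have := h4 x hx; omega
  rw [Finset.sum_congr rfl h5, Finset.sum_const, smul_eq_mul, h1] at h3
  rw [Nat.card_eq_fintype_card, Fintype.card_subtype]
  obtain ⟨I, hI⟩ : ∃ I : ℕ, I = (Finset.univ.filter (fun x : G => orderOf x = 2)).card :=
    ⟨_, rfl⟩
  rw [← hI] at h3 ⊢
  by_cases hpar : Even h
  · rw [if_pos hpar] at hf ⊢
    rw [hf] at h3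
    have hpos : 0 < h := by
      rcases Nat.eq_zero_or_pos h with h0 | h0
      · exfalso
        have : Fintype.card Ω = 1 := by rw [hh, h0]
        have h8 := Fintype.card_le_one_iff.1 this.le a b
        exact hab h8
      · exact h0
    have h8 : I * h = e * (h + 1) * h := by
      have : h + 1 - 1 = h := by omega
      rw [this] at h3
      rw [← h3]; ring
    exact Nat.eq_of_mul_eq_mul_right hpos h8
  · rw [if_neg hpar] at hf ⊢
    rw [hf] at h3
    have h8 : I * (h + 1) = e * h * (h + 1) := by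
      have : h + 1 - 0 = h + 1 := by omega
      rw [this] at h3
      rw [← h3]; ring
    exact Nat.eq_of_mul_eq_mul_right (Nat.succ_pos h) h8

end Cfsg.Agent.Lib.Helper4.Zass
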