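import Mathlib
import Cfsg.Agent.Lib.Helper4.ZassA
import Cfsg.Agent.Lib.Helper67.SylowLemmas
import Cfsg.Agent.S0878

set_option autoImplicit false

namespace Cfsg.Agent.Lib.Helper4.Zass

open MulAction Cfsg.Agent.Lib.Helper13

variable {G Ω : Type*} [Group G] [MulAction G Ω]

/-- If a non-identity element of the kernel `H` is a product of two involutions, then both
involutions fix `a`. -/
theorem fix_of_prod [Finite G] [Fintype Ω] (hZ : Cfsg.IsZassenhausGroup G Ω) {a : Ω}
    (H : Subgroup G) (hHa : H ≤ stabilizer G a) (hHcard : Nat.card H + 1 = Fintype.card Ω)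
    (hHfix : ∀ u ∈ H, u ≠ 1 → ∀ c : Ω, u • c = c → c = a)
    {u x y : G} (hu : u ∈ H) (hu1 : u ≠ 1) (hx : orderOf x = 2) (hy : orderOf y = 2)
    (hxy : x * y = u) : x • a = a ∧ y • a = a := by
  have hS := Cfsg.Agent.S0878.result hZ a H hHa hHcard hHfix
  have hx2 := mul_self_of_orderOf_two hx
  have hy2 := mul_self_of_orderOf_two hy
  have hxinv : x⁻¹ = x := inv_eq_of_mul_eq_one_left hx2
  have hyinv : y⁻¹ = y := inv_eq_of_mul_eq_one_left hy2
  have huinv : u⁻¹ = y * x := by rw [← hxy, mul_inv_rev, hxinv, hyinv]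
  have hxu : x * u * x⁻¹ = u⁻¹ := by
    rw [huinv, ← hxy, hxinv, ← mul_assoc x x y, hx2, one_mul]
  have hyu : y * u * y⁻¹ = u⁻¹ := by
    rw [huinv, ← hxy, hyinv]
    simp only [mul_assoc, hy2, mul_one]
  constructor
  · by_contra hxa
    exact hu1 (hS.1 x (fun hmem => hxa (MulAction.mem_stabilizer_iff.1 hmem)) u hu
      (by rw [hxu]; exact H.inv_mem hu))
  · by_contra hya
    exact hu1 (hS.1 y (fun hmem => hya (MulAction.mem_stabilizer_iff.1 hmem)) u hu
      (by rw [hyu]; exact H.inv_mem hu))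

/-- The centraliser of an involution fixing `a` is contained in `H`. -/
theorem cent_le [Finite G] [Fintype Ω] (hZ : Cfsg.IsZassenhausGroup G Ω) {a b : Ω} (hab : a ≠ b)
    (hodd : Odd (Nat.card ↥(stabilizer G a ⊓ stabilizer G b : Subgroup G)))
    (H : Subgroup G) (hHa : H ≤ stabilizer G a) (hHcard : Nat.card H + 1 = Fintype.card Ω)
    (hHfix : ∀ u ∈ H, u ≠ 1 → ∀ c : Ω, u • c = c → c = a)
    {x : G} (hx : orderOf x = 2) (hxa : x • a = a) :
    Subgroup.centralizer ({x} : Set G) ≤ H := by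
  intro c hc
  have hcx : c * x = x * c := (Subgroup.mem_centralizer_iff.1 hc x rfl).symm
  by_cases hc1 : c = 1
  · rw [hc1]; exact H.one_mem
  have hca : c • a = a := by
    have : x • (c • a) = c • a := by
      rw [← mul_smul, ← hcx, mul_smul, hxa]
    exact inv_fix_unique hZ hab hodd hx this hxa
  refine Cfsg.Agent.S0878.mem_of_fixedPointFree hZ.2.2.1 a H hHa hHcard hHfix c hca ?_
  intro p hp
  by_contra hpa
  have h1 : x • p ≠ p := fun h => hpa (inv_fix_unique hZ hab hodd hx h hxa)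
  have h2 : x • p ≠ a := fun h => hpa (MulAction.injective x (h.trans hxa.symm))
  have h3 : c • (x • p) = x • p := by
    rw [← mul_smul, hcx, mul_smul, hp]
  exact hc1 (zass_three hZ (Ne.symm hpa) (Ne.symm h1) (Ne.symm h2) hca hp h3)

/-- an involution fixing `a` lies in `H`. -/
theorem inv_mem_H [Finite G] [Fintype Ω] (hZ : Cfsg.IsZassenhausGroup G Ω) {a b : Ω} (hab : a ≠ b)
    (hodd : Odd (Nat.card ↥(stabilizer G a ⊓ stabilizer G b : Subgroup G)))
    (H : Subgroup G) (hHa : H ≤ stabilizer G a) (hHcard : Nat.card H + 1 = Fintype.card Ω)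
    (hHfix : ∀ u ∈ H, u ≠ 1 → ∀ c : Ω, u • c = c → c = a)
    {x : G} (hx : orderOf x = 2) (hxa : x • a = a) : x ∈ H :=
  Cfsg.Agent.S0878.mem_of_fixedPointFree hZ.2.2.1 a H hHa hHcard hHfix x hxa
    (fun _ hc => inv_fix_unique hZ hab hodd hx hc hxa)

/-- For `h` even, the centraliser of an involution fixing `a` is `H`. -/
theorem cent_eq [Finite G] [Fintype Ω] (hZ : Cfsg.IsZassenhausGroup G Ω) {a b : Ω} (hab : a ≠ b)
    [IsSimpleGroup G] (h e : ℕ) (hh : Fintype.card Ω = h + 1)
    (he : Nat.card ↥(stabilizer G a ⊓ stabilizer G b : Subgroup G) = e) (hodd : Odd e)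
    (heven : Even h)
    (H : Subgroup G) (hHa : H ≤ stabilizer G a) (hHcard : Nat.card H + 1 = Fintype.card Ω)
    (hHfix : ∀ u ∈ H, u ≠ 1 → ∀ c : Ω, u • c = c → c = a)
    {x : G} (hx : orderOf x = 2) (hxa : x • a = a) :
    Subgroup.centralizer ({x} : Set G) = H := by
  have hodd' : Odd (Nat.card ↥(stabilizer G a ⊓ stabilizer G b : Subgroup G)) := by
    rw [he]; exact hodd
  have hle := cent_le hZ hab hodd' H hHa hHcard hHfix hx hxa
  refine Subgroup.eq_of_le_of_card_ge hle ?_
  have hG := card_G hZ hab h e hh he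
  have hI := card_inv hZ hab h e hh he hodd
  rw [if_pos heven] at hI
  have hcls : (ConjClasses.mk x).carrier = {y : G | orderOf y = 2} := by
    ext y
    rw [ConjClasses.mem_carrier_iff_mk_eq, ConjClasses.mk_eq_mk_iff_isConj]
    constructor
    · intro hy
      obtain ⟨c, hc⟩ := isConj_iff.1 hy
      rw [Set.mem_setOf_eq, ← orderOf_conj_eq c y, hc]; exact hx
    · intro hy
      exact inv_conj hZ hab hodd' hy hx
  have hidx : (Subgroup.centralizer ({x} : Set G)).index = e * (h + 1) := by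
    rw [← Cfsg.Agent.Lib.Helper67.ncard_conjClasses_carrier, hcls, ← hI]
    rfl
  have hmul := Subgroup.card_mul_index (Subgroup.centralizer ({x} : Set G))
  rw [hidx, hG] at hmul
  have hH : Nat.card H = h := by omega
  have hpos : 0 < e * (h + 1) := Nat.mul_pos hodd.pos (Nat.succ_pos h)
  have hC : Nat.card (Subgroup.centralizer ({x} : Set G)) = h :=
    Nat.eq_of_mul_eq_mul_right hpos (by rw [hmul]; ring)
  rw [hH, hC]

end Cfsg.Agent.Lib.Helper4.Zass
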