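import Mathlib
import Cfsg.Agent.Lib.Helper4.ZassB

set_option autoImplicit false

namespace Cfsg.Agent.Lib.Helper4.Zass

open MulAction Cfsg.Agent.Lib.Helper13

/-- The number of ways of writing `g` as a product of two involutions is at most the order of
the centraliser of `g`. -/
theorem card_inv_pairs_le {G : Type*} [Group G] [Finite G] (g : G) :
    Nat.card {p : G × G // orderOf p.1 = 2 ∧ orderOf p.2 = 2 ∧ p.1 * p.2 = g}
      ≤ Nat.card (Subgroup.centralizer ({g} : Set G)) := by
  rcases isEmpty_or_nonempty {p : G × G // orderOf p.1 = 2 ∧ orderOf p.2 = 2 ∧ p.1 * p.2 = g}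
    with hE | ⟨⟨p₁, hp₁⟩⟩
  · rw [Nat.card_of_isEmpty]; exact Nat.zero_le _
  have key : ∀ p : G × G, orderOf p.1 = 2 ∧ orderOf p.2 = 2 ∧ p.1 * p.2 = g →
      p.1 * g * p.1⁻¹ = g⁻¹ := by
    rintro ⟨x, y⟩ ⟨hx, hy, hxy⟩
    have hx2 := mul_self_of_orderOf_two hx
    have hy2 := mul_self_of_orderOf_two hy
    have hxinv : x⁻¹ = x := inv_eq_of_mul_eq_one_left hx2
    have hyinv : y⁻¹ = y := inv_eq_of_mul_eq_one_left hy2
    show x * g * x⁻¹ = g⁻¹
    have hxy' : x * y = g := hxy
    rw [← hxy', mul_inv_rev, hxinv, hyinv, ← mul_assoc x x y, hx2, one_mul]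
  refine Nat.card_le_card_of_injective (fun p => ⟨p₁.1⁻¹ * p.1.1, ?_⟩) ?_
  · rw [Subgroup.mem_centralizer_iff]
    intro k hk
    rw [Set.mem_singleton_iff] at hk
    rw [hk]
    have h1 := key p₁ hp₁
    have h2 := key p.1 p.2
    have h3 : g * p₁.1⁻¹ = p₁.1⁻¹ * g⁻¹ := by rw [← h1]; group
    have h4 : g⁻¹ * p.1.1 = p.1.1 * g := by rw [← h2]; group
    rw [← mul_assoc, h3, mul_assoc, h4, mul_assoc]
  · intro p q hpq
    have h1 : p.1.1 = q.1.1 := by
      have := congrArg Subtype.val hpq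
      exact mul_left_cancel this
    apply Subtype.ext
    refine Prod.ext h1 ?_
    have hp := p.2.2.2
    have hq := q.2.2.2
    rw [h1] at hp
    exact mul_left_cancel (hp.trans hq.symm)

/-- The centraliser orders of the elements of a conjugacy class add up to `|G|`. -/
theorem sum_card_centralizer {G : Type*} [Group G] [Fintype G] (C : ConjClasses G)
    (s : Finset G) (hs : ∀ g, g ∈ s ↔ ConjClasses.mk g = C) :
    ∑ g ∈ s, Nat.card (Subgroup.centralizer ({g} : Set G)) = Fintype.card G := by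
  obtain ⟨g₀, rfl⟩ := ConjClasses.exists_rep C
  have hm : s.card = (ConjClasses.mk g₀).carrier.ncard := by
    rw [← Set.ncard_coe_finset s]
    congr 1
    ext g
    rw [Finset.mem_coe, hs, ConjClasses.mem_carrier_iff_mk_eq]
  have hterm : ∀ g ∈ s,
      Nat.card (Subgroup.centralizer ({g} : Set G)) * s.card = Fintype.card G := by
    intro g hg
    rw [hm, ← (hs g).1 hg, Cfsg.Agent.Lib.Helper67.ncard_conjClasses_carrier,
      Subgroup.card_mul_index, Nat.card_eq_fintype_card]
  have hpos : 0 < s.card := Finset.card_pos.2 ⟨g₀, (hs g₀).2 rfl⟩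
  have : (∑ g ∈ s, Nat.card (Subgroup.centralizer ({g} : Set G))) * s.card
      = Fintype.card G * s.card := by
    rw [Finset.sum_mul, Finset.sum_congr rfl hterm, Finset.sum_const, smul_eq_mul, mul_comm]
  exact Nat.eq_of_mul_eq_mul_right hpos this

/-- The number of pairs of involutions whose product lies in one of a given family of classes
is at most the number of these classes times `|G|`. -/
theorem pairs_le {G : Type*} [Group G] [Finite G] (Q : ConjClasses G → Prop) :
    Nat.card {p : G × G // orderOf p.1 = 2 ∧ orderOf p.2 = 2 ∧ Q (ConjClasses.mk (p.1 * p.2))}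
      ≤ Nat.card {C : ConjClasses G // Q C} * Nat.card G := by
  classical
  haveI : Fintype G := Fintype.ofFinite G
  haveI : Fintype (ConjClasses G) := Fintype.ofFinite _
  obtain ⟨P, hP⟩ : ∃ P : Finset (G × G), P = Finset.univ.filter (fun p : G × G =>
      orderOf p.1 = 2 ∧ orderOf p.2 = 2 ∧ Q (ConjClasses.mk (p.1 * p.2))) := ⟨_, rfl⟩
  have hPmem : ∀ p, p ∈ P ↔
      (orderOf p.1 = 2 ∧ orderOf p.2 = 2 ∧ Q (ConjClasses.mk (p.1 * p.2))) := by
    intro p; rw [hP, Finset.mem_filter]; simp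
  have hcard : Nat.card {p : G × G // orderOf p.1 = 2 ∧ orderOf p.2 = 2 ∧
      Q (ConjClasses.mk (p.1 * p.2))} = P.card := by
    rw [Nat.card_eq_fintype_card, Fintype.card_subtype, hP]
  obtain ⟨T, hT⟩ : ∃ T : Finset G, T = Finset.univ.filter (fun g : G => Q (ConjClasses.mk g)) :=
    ⟨_, rfl⟩
  obtain ⟨𝒞, h𝒞⟩ : ∃ 𝒞 : Finset (ConjClasses G), 𝒞 = Finset.univ.filter (fun C => Q C) :=
    ⟨_, rfl⟩
  have h1 := Finset.card_eq_sum_card_fiberwise (s := P) (t := T)
    (f := fun p : G × G => p.1 * p.2)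
    (fun p hp => by
      rw [Finset.mem_coe, hT, Finset.mem_filter]
      exact ⟨Finset.mem_univ _, ((hPmem p).1 (Finset.mem_coe.1 hp)).2.2⟩)
  have h2 : ∀ g ∈ T, (P.filter (fun p : G × G => p.1 * p.2 = g)).card
      ≤ Nat.card (Subgroup.centralizer ({g} : Set G)) := by
    intro g hg
    refine le_trans (le_of_eq ?_) (card_inv_pairs_le g)
    rw [Nat.card_eq_fintype_card, Fintype.card_subtype]
    congr 1
    ext p
    rw [Finset.mem_filter, Finset.mem_filter, hPmem]
    constructor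
    · rintro ⟨⟨hx, hy, -⟩, hxy⟩; exact ⟨Finset.mem_univ _, hx, hy, hxy⟩
    · rintro ⟨-, hx, hy, hxy⟩
      refine ⟨⟨hx, hy, ?_⟩, hxy⟩
      rw [hxy]
      rw [hT, Finset.mem_filter] at hg
      exact hg.2
  have h3 : P.card ≤ ∑ g ∈ T, Nat.card (Subgroup.centralizer ({g} : Set G)) := by
    rw [h1]; exact Finset.sum_le_sum h2
  have h4 : ∑ g ∈ T, Nat.card (Subgroup.centralizer ({g} : Set G))
      = ∑ C ∈ 𝒞, ∑ g ∈ T.filter (fun g => ConjClasses.mk g = C),
          Nat.card (Subgroup.centralizer ({g} : Set G)) := by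
    rw [Finset.sum_fiberwise_of_maps_to]
    intro g hg
    rw [hT, Finset.mem_filter] at hg
    rw [h𝒞, Finset.mem_filter]; exact ⟨Finset.mem_univ _, hg.2⟩
  have h5 : ∀ C ∈ 𝒞, ∑ g ∈ T.filter (fun g => ConjClasses.mk g = C),
      Nat.card (Subgroup.centralizer ({g} : Set G)) = Fintype.card G := by
    intro C hC
    refine sum_card_centralizer C _ ?_
    intro g
    rw [Finset.mem_filter, hT, Finset.mem_filter]
    constructor
    · exact fun h => h.2
    · intro h
      refine ⟨⟨Finset.mem_univ _, ?_⟩, h⟩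
      rw [h]
      rw [h𝒞, Finset.mem_filter] at hC
      exact hC.2
  rw [h4, Finset.sum_congr rfl h5, Finset.sum_const, smul_eq_mul] at h3
  rw [hcard]
  have h6 : Nat.card {C : ConjClasses G // Q C} = 𝒞.card := by
    rw [h𝒞, Nat.card_eq_fintype_card, Fintype.card_subtype]
  rw [h6, Nat.card_eq_fintype_card]
  exact h3

variable {G Ω : Type*} [Group G] [MulAction G Ω]

theorem card_inv_fix_le [Finite G] {c c' : Ω} (g : G) (hg : g • c = c') :
    Nat.card {x : G // orderOf x = 2 ∧ x • c = c}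
      ≤ Nat.card {x : G // orderOf x = 2 ∧ x • c' = c'} := by
  refine Nat.card_le_card_of_injective (fun x => ⟨g * x.1 * g⁻¹, ?_, ?_⟩) ?_
  · rw [orderOf_conj_eq]; exact x.2.1
  · rw [mul_smul, mul_smul, ← hg, inv_smul_smul, x.2.2]
  · intro x y hxy
    have := congrArg Subtype.val hxy
    apply Subtype.ext
    exact mul_left_cancel (mul_right_cancel this)

/-- For `h` even, every point is fixed by exactly `e` involutions. -/
theorem card_inv_fix [Finite G] [Fintype Ω] (hZ : Cfsg.IsZassenhausGroup G Ω) {a b : Ω}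
    (hab : a ≠ b) [IsSimpleGroup G] (h e : ℕ) (hh : Fintype.card Ω = h + 1)
    (he : Nat.card ↥(stabilizer G a ⊓ stabilizer G b : Subgroup G) = e) (hodd : Odd e)
    (heven : Even h) (c : Ω) :
    Nat.card {x : G // orderOf x = 2 ∧ x • c = c} = e := by
  classical
  haveI : Fintype G := Fintype.ofFinite G
  have hodd' : Odd (Nat.card ↥(stabilizer G a ⊓ stabilizer G b : Subgroup G)) := by
    rw [he]; exact hodd
  have heq : ∀ c c' : Ω, Nat.card {x : G // orderOf x = 2 ∧ x • c = c}
      = Nat.card {x : G // orderOf x = 2 ∧ x • c' = c'} := by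
    intro c c'
    by_cases hcc : c = c'
    · rw [hcc]
    · obtain ⟨g, hg, hg'⟩ := zass_two_trans hZ hcc (Ne.symm hcc)
      exact le_antisymm (card_inv_fix_le g hg) (card_inv_fix_le g hg')
  obtain ⟨P, hP⟩ : ∃ P : Finset (G × Ω), P = Finset.univ.filter (fun p : G × Ω =>
      orderOf p.1 = 2 ∧ p.1 • p.2 = p.2) := ⟨_, rfl⟩
  have hPmem : ∀ p, p ∈ P ↔ (orderOf p.1 = 2 ∧ p.1 • p.2 = p.2) := by
    intro p; rw [hP, Finset.mem_filter]; simp
  have h1 := Finset.card_eq_sum_card_fiberwise (s := P) (t := (Finset.univ : Finset Ω))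
    (f := fun p : G × Ω => p.2) (fun p _ => Finset.mem_coe.2 (Finset.mem_univ _))
  have h2 : ∀ q ∈ (Finset.univ : Finset Ω), (P.filter (fun p : G × Ω => p.2 = q)).card
      = Nat.card {x : G // orderOf x = 2 ∧ x • c = c} := by
    intro q _
    rw [heq c q, Nat.card_eq_fintype_card, Fintype.card_subtype]
    refine Finset.card_bij (fun p _ => p.1) ?_ ?_ ?_
    · intro p hp
      obtain ⟨hpP, hpq⟩ := Finset.mem_filter.1 hp
      have := (hPmem p).1 hpP
      rw [Finset.mem_filter]
      refine ⟨Finset.mem_univ _, this.1, ?_⟩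
      rw [← hpq]; exact this.2
    · intro p hp p' hp' hpp
      exact Prod.ext hpp ((Finset.mem_filter.1 hp).2.trans (Finset.mem_filter.1 hp').2.symm)
    · intro x hx
      obtain ⟨-, hx2, hxq⟩ := Finset.mem_filter.1 hx
      exact ⟨(x, q), by rw [Finset.mem_filter, hPmem]; exact ⟨⟨hx2, hxq⟩, rfl⟩, rfl⟩
  rw [Finset.sum_congr rfl h2, Finset.sum_const, Finset.card_univ (α := Ω), hh,
    smul_eq_mul] at h1
  have h3 := Finset.card_eq_sum_card_fiberwise (s := P)
    (t := Finset.univ.filter (fun x : G => orderOf x = 2)) (f := fun p : G × Ω => p.1)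
    (fun p hp => by
      rw [Finset.mem_coe, Finset.mem_filter]
      exact ⟨Finset.mem_univ _, ((hPmem p).1 (Finset.mem_coe.1 hp)).1⟩)
  have h4 : ∀ x ∈ Finset.univ.filter (fun x : G => orderOf x = 2),
      (P.filter (fun p : G × Ω => p.1 = x)).card = 1 := by
    intro x hx
    have hx2 := (Finset.mem_filter.1 hx).2
    obtain ⟨d, hd⟩ := (inv_fix hZ hab hodd' h hh hx2).1 heven
    rw [Finset.card_eq_one]
    refine ⟨(x, d), Finset.ext (fun p => ?_)⟩
    rw [Finset.mem_filter, Finset.mem_singleton, hPmem]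
    constructor
    · rintro ⟨⟨hp2, hpfix⟩, hpx⟩
      refine Prod.ext hpx ?_
      rw [hpx] at hpfix
      exact inv_fix_unique hZ hab hodd' hx2 hpfix hd
    · intro hp
      rw [hp]; exact ⟨⟨hx2, hd⟩, rfl⟩
  rw [Finset.sum_congr rfl h4, Finset.sum_const, smul_eq_mul, mul_one, h1] at h3
  have hI := card_inv hZ hab h e hh he hodd
  rw [if_pos heven, Nat.card_eq_fintype_card, Fintype.card_subtype] at hI
  rw [hI] at h3
  have h5 : (h + 1) * Nat.card {x : G // orderOf x = 2 ∧ x • c = c} = (h + 1) * e := by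
    rw [h3]; ring
  exact Nat.eq_of_mul_eq_mul_left (Nat.succ_pos h) h5

/-- Two distinct involutions whose product is conjugate into `H` have a common fixed point. -/
theorem fix_of_conj_prod [Finite G] [Fintype Ω] (hZ : Cfsg.IsZassenhausGroup G Ω) {a : Ω}
    (H : Subgroup G) (hHa : H ≤ stabilizer G a) (hHcard : Nat.card H + 1 = Fintype.card Ω)
    (hHfix : ∀ u ∈ H, u ≠ 1 → ∀ c : Ω, u • c = c → c = a)
    {x y g : G} (hx : orderOf x = 2) (hy : orderOf y = 2) (hxy : x ≠ y) (hg : g ∈ H)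
    (hc : ConjClasses.mk g = ConjClasses.mk (x * y)) : ∃ c : Ω, x • c = c ∧ y • c = c := by
  obtain ⟨k, hk⟩ := isConj_iff.1 (ConjClasses.mk_eq_mk_iff_isConj.1 hc)
  have hg1 : g ≠ 1 := by
    rintro rfl
    rw [mul_one, mul_inv_cancel] at hk
    have hx2 := mul_self_of_orderOf_two hx
    exact hxy (mul_left_cancel (hx2.trans hk))
  have hprod : (k⁻¹ * x * k) * (k⁻¹ * y * k) = g := by
    have : k⁻¹ * (x * y) * k = g := by rw [← hk]; group
    rw [← this]; group
  have hx' : orderOf (k⁻¹ * x * k) = 2 := by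
    have := orderOf_conj_eq k⁻¹ x
    rw [inv_inv] at this
    rw [this]; exact hx
  have hy' : orderOf (k⁻¹ * y * k) = 2 := by
    have := orderOf_conj_eq k⁻¹ y
    rw [inv_inv] at this
    rw [this]; exact hy
  obtain ⟨h1, h2⟩ := fix_of_prod hZ H hHa hHcard hHfix hg hg1 hx' hy' hprod
  refine ⟨k • a, ?_, ?_⟩
  · rw [mul_smul, mul_smul] at h1
    exact inv_smul_eq_iff.1 h1
  · rw [mul_smul, mul_smul] at h2
    exact inv_smul_eq_iff.1 h2

/-- At least `e` conjugacy classes avoid `H`. -/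
theorem classes_avoiding [Finite G] [Fintype Ω] (hZ : Cfsg.IsZassenhausGroup G Ω) {a b : Ω}
    (hab : a ≠ b) [IsSimpleGroup G] (h e : ℕ) (hh : Fintype.card Ω = h + 1)
    (he : Nat.card ↥(stabilizer G a ⊓ stabilizer G b : Subgroup G) = e) (hodd : Odd e)
    (hlt : 2 * e < h - 1)
    (H : Subgroup G) (hHa : H ≤ stabilizer G a) (hHcard : Nat.card H + 1 = Fintype.card Ω)
    (hHfix : ∀ u ∈ H, u ≠ 1 → ∀ c : Ω, u • c = c → c = a) :
    e ≤ Nat.card {C : ConjClasses G // ∀ g : G, ConjClasses.mk g = C → g ∉ H} := by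
  classical
  haveI : Fintype G := Fintype.ofFinite G
  have hodd' : Odd (Nat.card ↥(stabilizer G a ⊓ stabilizer G b : Subgroup G)) := by
    rw [he]; exact hodd
  have hA := pairs_le (G := G) (fun C : ConjClasses G => ∀ g : G, ConjClasses.mk g = C → g ∉ H)
  obtain ⟨N, hN⟩ : ∃ N, N = Nat.card {C : ConjClasses G //
      ∀ g : G, ConjClasses.mk g = C → g ∉ H} := ⟨_, rfl⟩
  rw [← hN] at hA ⊢
  have hG := card_G hZ hab h e hh he
  have hI := card_inv hZ hab h e hh he hodd
  rw [hG] at hA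
  obtain ⟨Inv, hInv⟩ : ∃ Inv : Finset G, Inv = Finset.univ.filter (fun x : G => orderOf x = 2) :=
    ⟨_, rfl⟩
  have hIc : Inv.card = if Even h then e * (h + 1) else e * h := by
    rw [← hI, Nat.card_eq_fintype_card, Fintype.card_subtype, hInv]
  obtain ⟨P, hP⟩ : ∃ P : Finset (G × G), P = Finset.univ.filter (fun p : G × G =>
      orderOf p.1 = 2 ∧ orderOf p.2 = 2 ∧
        ∀ g : G, ConjClasses.mk g = ConjClasses.mk (p.1 * p.2) → g ∉ H) := ⟨_, rfl⟩
  have hPc : P.card ≤ N * ((h + 1) * h * e) := by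
    refine le_trans (le_of_eq ?_) hA
    rw [Nat.card_eq_fintype_card, Fintype.card_subtype, hP]
  obtain ⟨Q, hQ⟩ : ∃ Q : Finset (G × G), Q = Finset.univ.filter (fun p : G × G =>
      orderOf p.1 = 2 ∧ orderOf p.2 = 2 ∧ ∃ c : Ω, p.1 • c = c ∧ p.2 • c = c) := ⟨_, rfl⟩
  obtain ⟨D, hD⟩ : ∃ D : Finset (G × G), D = Inv.image (fun x => (x, x)) := ⟨_, rfl⟩
  have hsub : Inv ×ˢ Inv ⊆ P ∪ (D ∪ Q) := by
    intro p hp
    rw [Finset.mem_product, hInv, Finset.mem_filter, Finset.mem_filter] at hp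
    obtain ⟨⟨-, hx⟩, ⟨-, hy⟩⟩ := hp
    rw [Finset.mem_union, Finset.mem_union]
    by_cases hpP : p ∈ P
    · exact Or.inl hpP
    right
    by_cases hxy : p.1 = p.2
    · left
      rw [hD, Finset.mem_image]
      exact ⟨p.1, by rw [hInv, Finset.mem_filter]; exact ⟨Finset.mem_univ _, hx⟩,
        Prod.ext rfl hxy⟩
    · right
      rw [hP, Finset.mem_filter] at hpP
      push Not at hpP
      obtain ⟨g, hgc, hgH⟩ := hpP (Finset.mem_univ _) hx hy
      rw [hQ, Finset.mem_filter]
      exact ⟨Finset.mem_univ _, hx, hy,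
        fix_of_conj_prod hZ H hHa hHcard hHfix hx hy hxy hgH hgc⟩
  have hcard := Finset.card_le_card hsub
  rw [Finset.card_product] at hcard
  have hcard2 : Inv.card * Inv.card ≤ P.card + (Inv.card + Q.card) := by
    refine le_trans hcard (le_trans (Finset.card_union_le _ _) (Nat.add_le_add_left
      (le_trans (Finset.card_union_le _ _) (Nat.add_le_add_right ?_ _)) _))
    rw [hD]; exact Finset.card_image_le
  have h2 : 2 ≤ h := by omega
  have he1 : 0 < e := hodd.pos
  by_contra hlt'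
  push Not at hlt'
  have h9 : (N + 1) * h ≤ e * h := Nat.mul_le_mul_right h hlt'
  rcases Nat.even_or_odd h with heven | hodd2
  · rw [if_pos heven] at hIc
    have hQc : Q.card ≤ (h + 1) * (e * e) := by
      have hsubQ : Q ⊆ (Finset.univ : Finset Ω).biUnion (fun c =>
          (Inv.filter (fun x => x • c = c)) ×ˢ (Inv.filter (fun x => x • c = c))) := by
        intro p hp
        rw [hQ, Finset.mem_filter] at hp
        obtain ⟨-, hx, hy, c, hxc, hyc⟩ := hp
        rw [Finset.mem_biUnion]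
        refine ⟨c, Finset.mem_univ _, ?_⟩
        rw [Finset.mem_product, Finset.mem_filter, Finset.mem_filter, hInv, Finset.mem_filter,
          Finset.mem_filter]
        exact ⟨⟨⟨Finset.mem_univ _, hx⟩, hxc⟩, ⟨⟨Finset.mem_univ _, hy⟩, hyc⟩⟩
      refine le_trans (Finset.card_le_card hsubQ) (le_trans Finset.card_biUnion_le ?_)
      have hc' : ∀ c ∈ (Finset.univ : Finset Ω), ((Inv.filter (fun x => x • c = c)) ×ˢ
          (Inv.filter (fun x => x • c = c))).card = e * e := by
        intro c _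
        have hc := card_inv_fix hZ hab h e hh he hodd heven c
        rw [Nat.card_eq_fintype_card, Fintype.card_subtype] at hc
        have : (Inv.filter (fun x => x • c = c)).card = e := by
          rw [← hc, hInv, Finset.filter_filter]
        rw [Finset.card_product, this]
      rw [Finset.sum_congr rfl hc', Finset.sum_const, Finset.card_univ, hh, smul_eq_mul]
    have h7 : (e * (h + 1)) * (e * (h + 1)) ≤ (e * (h + 1)) * (N * h + 1 + e) := by
      have := hcard2
      rw [hIc] at this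
      calc (e * (h + 1)) * (e * (h + 1)) ≤ P.card + (e * (h + 1) + Q.card) := this
        _ ≤ N * ((h + 1) * h * e) + (e * (h + 1) + (h + 1) * (e * e)) := by gcongr
        _ = (e * (h + 1)) * (N * h + 1 + e) := by ring
    have h8 := Nat.le_of_mul_le_mul_left h7 (Nat.mul_pos he1 (Nat.succ_pos h))
    have h10 : e * (h + 1) = e * h + e := by ring
    have h11 : (N + 1) * h = N * h + h := by ring
    omega
  · rw [if_neg (Nat.not_even_iff_odd.2 hodd2)] at hIc
    have hQc : Q.card = 0 := by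
      rw [Finset.card_eq_zero]
      refine Finset.eq_empty_of_forall_notMem (fun p hp => ?_)
      rw [hQ, Finset.mem_filter] at hp
      obtain ⟨-, hx, -, c, hxc, -⟩ := hp
      exact (inv_fix hZ hab hodd' h hh hx).2 hodd2 c hxc
    have h7 : (e * h) * (e * h) ≤ (e * h) * (N * (h + 1) + 1) := by
      have := hcard2
      rw [hIc, hQc] at this
      calc (e * h) * (e * h) ≤ P.card + (e * h + 0) := this
        _ ≤ N * ((h + 1) * h * e) + (e * h + 0) := by gcongr
        _ = (e * h) * (N * (h + 1) + 1) := by ring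
    have h8 := Nat.le_of_mul_le_mul_left h7 (Nat.mul_pos he1 (by omega))
    have h10 : N * (h + 1) = N * h + N := by ring
    have h11 : (N + 1) * h = N * h + h := by ring
    omega

end Cfsg.Agent.Lib.Helper4.Zass
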