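import Mathlib
import Cfsg.Agent.Lib.Helper25.Zass2
import Cfsg.Agent.Lib.Helper3.CharOrtho
import Cfsg.Agent.Lib.Helper80.SchurBound
import Cfsg.Agent.Lib.Helper80.Orthogonality

set_option autoImplicit false

/-!
# Character counting for Feit's inequality on Zassenhaus groups
-/

namespace Cfsg.Agent.Lib.Helper4.ZassChar

open Cfsg
open scoped ComplexConjugate

section general

variable {G : Type*} [Group G] [Fintype G]

/-- A sum over a subgroup as an indicator sum over the group. -/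
theorem sum_subgroup_eq {M : Type*} [AddCommMonoid M] (A : Subgroup G) [Fintype A]
    [DecidablePred (· ∈ A)] (F : G → M) :
    ∑ a : A, F a = ∑ g : G, if g ∈ A then F g else 0 := by
  rw [← Finset.sum_filter]
  exact (Finset.sum_subtype (Finset.univ.filter (· ∈ A)) (by simp) F).symm

/-- Second orthogonality summed over two subgroups. -/
theorem sum_irr_sub_mul [DecidableEq G] [Fintype (IrrCharacter G)] (A B : Subgroup G)
    [Fintype A] [Fintype B] [DecidablePred (· ∈ B)] :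
    ∑ Θ : IrrCharacter G, (∑ a : A, (Θ : G → ℂ) a) * conj (∑ b : B, (Θ : G → ℂ) b)
      = ∑ a : A, ((Finset.univ.filter (fun x : G => x * (a : G) * x⁻¹ ∈ B)).card : ℂ) := by
  have h1 : ∀ Θ : IrrCharacter G, (∑ a : A, (Θ : G → ℂ) a) * conj (∑ b : B, (Θ : G → ℂ) b)
      = ∑ a : A, ∑ b : B, (Θ : G → ℂ) a * conj ((Θ : G → ℂ) b) := by
    intro Θ
    rw [map_sum, Finset.sum_mul_sum]
  rw [Finset.sum_congr rfl (fun Θ _ => h1 Θ), Finset.sum_comm]
  refine Finset.sum_congr rfl (fun a _ => ?_)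
  rw [Finset.sum_comm]
  have h3 : ∀ b : B, ∑ x : IrrCharacter G, (x : G → ℂ) (a : G) * conj ((x : G → ℂ) (b : G))
      = ((Finset.univ.filter (fun y : G => y * (a : G) * y⁻¹ = (b : G))).card : ℂ) :=
    fun b => Cfsg.Agent.Lib.Helper3.second_orthogonality_count (a : G) (b : G)
  rw [Finset.sum_congr rfl (fun b _ => h3 b)]
  rw [← Nat.cast_sum]
  congr 1
  rw [sum_subgroup_eq B (fun g => (Finset.univ.filter (fun x : G => x * (a : G) * x⁻¹ = g)).card),
    ← Finset.sum_filter]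
  have h2 := Finset.card_eq_sum_card_fiberwise
    (s := Finset.univ.filter (fun x : G => x * (a : G) * x⁻¹ ∈ B))
    (t := Finset.univ.filter (fun g : G => g ∈ B)) (f := fun x : G => x * (a : G) * x⁻¹)
    (fun x hx => by
      rw [Finset.mem_coe, Finset.mem_filter] at hx ⊢
      exact ⟨Finset.mem_univ _, hx.2⟩)
  rw [h2]
  refine Finset.sum_congr rfl (fun g hg => ?_)
  congr 1
  ext x
  simp only [Finset.mem_filter, Finset.mem_univ, true_and]
  constructor
  · intro hx
    refine ⟨?_, hx⟩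
    rw [hx]
    exact (Finset.mem_filter.1 hg).2
  · exact fun hx => hx.2

/-- The conjugators of a non-identity element of `K` into a subgroup between `K` and its
normaliser are the elements of the normaliser. -/
theorem card_conj_mem [DecidableEq G] (K B : Subgroup G) [DecidablePred (· ∈ B)]
    (hKB : K ≤ B) (hBN : B ≤ Subgroup.normalizer (K : Set G))
    (hfus : ∀ k ∈ K, k ≠ 1 → ∀ g : G, g * k * g⁻¹ ∈ Subgroup.normalizer (K : Set G) →
      g ∈ Subgroup.normalizer (K : Set G))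
    {k : G} (hk : k ∈ K) (hk1 : k ≠ 1) :
    (Finset.univ.filter (fun x : G => x * k * x⁻¹ ∈ B)).card
      = Nat.card (Subgroup.normalizer (K : Set G)) := by
  classical
  rw [Nat.card_eq_fintype_card, Fintype.card_subtype]
  congr 1
  ext x
  simp only [Finset.mem_filter, Finset.mem_univ, true_and]
  constructor
  · intro hx
    exact hfus k hk hk1 x (hBN hx)
  · intro hx
    exact hKB ((Subgroup.mem_normalizer_iff.1 hx k).1 hk)

/-- The key character sum. -/
theorem sum_irr_key [DecidableEq G] [Fintype (IrrCharacter G)] (K B : Subgroup G)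
    [Fintype K] [Fintype B] [DecidablePred (· ∈ B)]
    (hKB : K ≤ B) (hBN : B ≤ Subgroup.normalizer (K : Set G))
    (hfus : ∀ k ∈ K, k ≠ 1 → ∀ g : G, g * k * g⁻¹ ∈ Subgroup.normalizer (K : Set G) →
      g ∈ Subgroup.normalizer (K : Set G)) :
    ∑ Θ : IrrCharacter G, (∑ a : K, (Θ : G → ℂ) a) * conj (∑ b : B, (Θ : G → ℂ) b)
      = (Nat.card G : ℂ) + ((Nat.card K : ℂ) - 1) *
          (Nat.card (Subgroup.normalizer (K : Set G)) : ℂ) := by
  rw [sum_irr_sub_mul K B]
  rw [← Finset.add_sum_erase Finset.univ _ (Finset.mem_univ (1 : K))]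
  have h1 : ((Finset.univ.filter (fun x : G => x * ((1 : K) : G) * x⁻¹ ∈ B)).card : ℂ)
      = (Nat.card G : ℂ) := by
    congr 1
    rw [Nat.card_eq_fintype_card, ← Finset.card_univ]
    congr 1
    ext x
    simp
  have h2 : ∀ a ∈ Finset.univ.erase (1 : K),
      ((Finset.univ.filter (fun x : G => x * (a : G) * x⁻¹ ∈ B)).card : ℂ)
        = (Nat.card (Subgroup.normalizer (K : Set G)) : ℂ) := by
    intro a ha
    have ha1 : (a : G) ≠ 1 := by
      intro h
      exact (Finset.mem_erase.1 ha).1 (Subtype.ext h)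
    rw [card_conj_mem K B hKB hBN hfus a.2 ha1]
  rw [h1, Finset.sum_congr rfl h2, Finset.sum_const, Finset.card_erase_of_mem (Finset.mem_univ _),
    Finset.card_univ, nsmul_eq_mul, ← Nat.card_eq_fintype_card]
  have hpos : 1 ≤ Nat.card K := Nat.card_pos
  rw [Nat.cast_sub hpos, Nat.cast_one]

/-- In a subgroup of odd order, the sum over the non-identity elements of a function invariant
under inversion with algebraic integer values is twice an algebraic integer. -/
theorem sum_odd_subgroup_even [DecidableEq G] (E : Subgroup G) [DecidablePred (· ∈ E)]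
    (hodd : Odd (Nat.card E)) (F : G → ℂ)
    (hinv : ∀ y ∈ E, F y⁻¹ = F y) (hint : ∀ y, IsIntegral ℤ (F y)) :
    ∃ z : ℂ, IsIntegral ℤ z ∧ ∑ g : G, (if g ∈ E ∧ g ≠ 1 then F g else 0) = 2 * z := by
  letI : LinearOrder G := LinearOrder.lift' (Fintype.equivFin G) (Fintype.equivFin G).injective
  obtain ⟨S, hS⟩ : ∃ S : Finset G, S = Finset.univ.filter (fun g : G => g ∈ E ∧ g ≠ 1) :=
    ⟨_, rfl⟩
  have hne : ∀ y ∈ S, y ≠ y⁻¹ := by
    intro y hy hyy
    rw [hS, Finset.mem_filter] at hy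
    have h2 : y ^ 2 = 1 := by
      rw [sq]
      nth_rewrite 2 [hyy]
      exact mul_inv_cancel y
    have h3 : orderOf y ∣ 2 := orderOf_dvd_of_pow_eq_one h2
    have h4 : orderOf y ∣ Nat.card E := Subgroup.orderOf_dvd_natCard E hy.2.1
    have h5 : orderOf y = 1 := by
      have h6 : orderOf y ∣ Nat.gcd 2 (Nat.card E) := Nat.dvd_gcd h3 h4
      have h7 : Nat.gcd 2 (Nat.card E) = 1 := Nat.coprime_two_left.2 hodd
      rw [h7] at h6
      exact Nat.dvd_one.1 h6
    exact hy.2.2 (orderOf_eq_one_iff.1 h5)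
  rw [← Finset.sum_filter, ← hS]
  rw [← Finset.sum_filter_add_sum_filter_not S (fun y => y < y⁻¹)]
  have h1 : ∑ y ∈ S.filter (fun y => ¬ y < y⁻¹), F y
      = ∑ y ∈ S.filter (fun y => y < y⁻¹), F y := by
    refine Finset.sum_nbij' (fun y => y⁻¹) (fun y => y⁻¹) ?_ ?_ ?_ ?_ ?_
    · intro y hy
      rw [Finset.mem_filter] at hy ⊢
      have hyS := hy.1
      rw [hS, Finset.mem_filter] at hyS
      refine ⟨?_, ?_⟩
      · rw [hS, Finset.mem_filter]
        exact ⟨Finset.mem_univ _, E.inv_mem hyS.2.1, inv_ne_one.2 hyS.2.2⟩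
      · rw [inv_inv]
        exact lt_of_le_of_ne (not_lt.1 hy.2) (Ne.symm (hne y hy.1))
    · intro y hy
      rw [Finset.mem_filter] at hy ⊢
      have hyS := hy.1
      rw [hS, Finset.mem_filter] at hyS
      refine ⟨?_, ?_⟩
      · rw [hS, Finset.mem_filter]
        exact ⟨Finset.mem_univ _, E.inv_mem hyS.2.1, inv_ne_one.2 hyS.2.2⟩
      · rw [inv_inv]
        exact not_lt.2 hy.2.le
    · intro y _; exact inv_inv y
    · intro y _; exact inv_inv y
    · intro y hy
      have hyS := (Finset.mem_filter.1 hy).1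
      rw [hS, Finset.mem_filter] at hyS
      exact (hinv y hyS.2.1).symm
  rw [h1]
  exact ⟨∑ y ∈ S.filter (fun y => y < y⁻¹), F y, IsIntegral.sum _ (fun y _ => hint y),
    by ring⟩

/-- The parity relation between the multiplicities of the trivial character in the restrictions
to `K` and to its normaliser. -/
theorem parity_mb [DecidableEq G] (K : Subgroup G) [Fintype K]
    [Fintype ↥(Subgroup.normalizer (K : Set G))] [DecidablePred (· ∈ K)]
    [DecidablePred (· ∈ Subgroup.normalizer (K : Set G))]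
    (E : Subgroup G) [DecidablePred (· ∈ E)] (hEodd : Odd (Nat.card E)) (hEinv : ∀ y ∈ E, IsConj y y⁻¹)
    (h e : ℕ) (hh : Nat.card K = h) (hh0 : 0 < h)
    (hN : Nat.card ↥(Subgroup.normalizer (K : Set G)) = h * e)
    (hsum : ∀ F : G → ℂ, (∀ g x : G, F (x * g * x⁻¹) = F g) →
      ∑ g : G, (if g ∈ Subgroup.normalizer (K : Set G) ∧ g ∉ K then F g else 0)
        = (h : ℂ) * ∑ g : G, (if g ∈ E ∧ g ≠ 1 then F g else 0))
    (Θ : G → ℂ) (hΘ : IsCharacter G Θ) (m b : ℕ)
    (hm : ∑ k : K, Θ k = (Nat.card K : ℂ) * m)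
    (hb : ∑ n : ↥(Subgroup.normalizer (K : Set G)), Θ n
      = (Nat.card ↥(Subgroup.normalizer (K : Set G)) : ℂ) * b) :
    ∃ t : ℤ, (e : ℤ) * b - m = 2 * t := by
  have hcls : ∀ g x : G, Θ (x * g * x⁻¹) = Θ g :=
    fun g x => Cfsg.Agent.Lib.Helper80.char_conj_eq hΘ g x
  have hKN : K ≤ Subgroup.normalizer (K : Set G) := Subgroup.le_normalizer
  have h1 : ∑ n : ↥(Subgroup.normalizer (K : Set G)), Θ n
      = ∑ k : K, Θ k
        + ∑ g : G, (if g ∈ Subgroup.normalizer (K : Set G) ∧ g ∉ K then Θ g else 0) := by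
    rw [sum_subgroup_eq (Subgroup.normalizer (K : Set G)) Θ, sum_subgroup_eq K Θ,
      ← Finset.sum_add_distrib]
    refine Finset.sum_congr rfl (fun g _ => ?_)
    by_cases hgK : g ∈ K
    · rw [if_pos (hKN hgK), if_pos hgK, if_neg (fun h => h.2 hgK), add_zero]
    · by_cases hgN : g ∈ Subgroup.normalizer (K : Set G)
      · rw [if_pos hgN, if_neg hgK, if_pos ⟨hgN, hgK⟩, zero_add]
      · rw [if_neg hgN, if_neg hgK, if_neg (fun h => hgN h.1), add_zero]
  have hFinv : ∀ y ∈ E, Θ y⁻¹ = Θ y := by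
    intro y hy
    obtain ⟨c, hc⟩ := isConj_iff.1 (hEinv y hy)
    rw [← hc, hcls]
  obtain ⟨z, hz, hz2⟩ := sum_odd_subgroup_even E hEodd Θ hFinv
    (fun y => Cfsg.Agent.Lib.Helper80.isIntegral_char_val hΘ y)
  rw [hb, hm, hsum Θ hcls, hz2, hN, hh] at h1
  have hh0' : (h : ℂ) ≠ 0 := by exact_mod_cast hh0.ne'
  have h3 : (e : ℂ) * b - m = 2 * z := by
    have h4 : (h : ℂ) * ((e : ℂ) * b - m - 2 * z) = 0 := by
      push_cast at h1
      linear_combination h1
    rcases mul_eq_zero.1 h4 with h0 | h0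
    · exact absurd h0 hh0'
    · linear_combination h0
  obtain ⟨t, ht⟩ := Cfsg.Agent.Lib.Helper80.exists_int_of_isIntegral_of_rat hz
    (((e : ℚ) * b - m) / 2) (by push_cast; linear_combination (-1 / 2 : ℂ) * h3)
  refine ⟨t, ?_⟩
  have h4 : (((e : ℤ) * b - m : ℤ) : ℂ) = ((2 * t : ℤ) : ℂ) := by
    push_cast
    rw [h3, ht]
  exact_mod_cast h4

/-- The number of irreducible characters of the normaliser not trivial on `K` is at most the
number of classes of `G` meeting `K` outside the identity. -/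
theorem card_relChars_le (K : Subgroup G) [Fintype ↥(Subgroup.normalizer (K : Set G))]
    (hTI : IsTISubset (K : Set G))
    (hC : ∀ k ∈ K, k ≠ 1 → Subgroup.centralizer ({k} : Set G) ≤ K) :
    (Cfsg.Agent.Lib.Helper25.relChars (K.subgroupOf (Subgroup.normalizer (K : Set G)))).card
      ≤ Nat.card {C : ConjClasses G // ∃ k ∈ K, k ≠ 1 ∧ ConjClasses.mk k = C} := by
  classical
  haveI hKn : (K.subgroupOf (Subgroup.normalizer (K : Set G))).Normal :=
    Subgroup.normal_in_normalizer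
  have hKN : K ≤ Subgroup.normalizer (K : Set G) := Subgroup.le_normalizer
  have hfrob' := Cfsg.Agent.Lib.Helper4.frob_of_hC K hC
  haveI : Fintype {C : ConjClasses G // ∃ k ∈ K, k ≠ 1 ∧ ConjClasses.mk k = C} :=
    Fintype.ofFinite _
  have hr : ∀ C : {C : ConjClasses G // ∃ k ∈ K, k ≠ 1 ∧ ConjClasses.mk k = C},
      ∃ k : G, k ∈ K ∧ k ≠ 1 ∧ ConjClasses.mk k = C.1 := fun C => by
    obtain ⟨k, hk, hk1, hkC⟩ := C.2
    exact ⟨k, hk, hk1, hkC⟩
  choose r hrK hr1 hrC using hr
  have hli : LinearIndependent ℂ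
      (fun (ψ : {ψ // ψ ∈ Cfsg.Agent.Lib.Helper25.relChars
          (K.subgroupOf (Subgroup.normalizer (K : Set G)))})
        (C : {C : ConjClasses G // ∃ k ∈ K, k ≠ 1 ∧ ConjClasses.mk k = C}) =>
        ((ψ.1 : IrrCharacter ↥(Subgroup.normalizer (K : Set G))) :
          ↥(Subgroup.normalizer (K : Set G)) → ℂ) ⟨r C, hKN (hrK C)⟩) := by
    rw [Fintype.linearIndependent_iff]
    intro c hc
    have hzero : ∀ n : ↥(Subgroup.normalizer (K : Set G)), n ≠ 1 →
        ∑ ψ, c ψ * ((ψ.1 : IrrCharacter ↥(Subgroup.normalizer (K : Set G))) :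
          ↥(Subgroup.normalizer (K : Set G)) → ℂ) n = 0 := by
      intro n hn1
      by_cases hnK : n ∈ K.subgroupOf (Subgroup.normalizer (K : Set G))
      · have hnK' : (n : G) ∈ K := Subgroup.mem_subgroupOf.1 hnK
        have hn1' : (n : G) ≠ 1 := fun h => hn1 (Subtype.ext h)
        obtain ⟨C, hCdef⟩ : ∃ C : {C : ConjClasses G // ∃ k ∈ K, k ≠ 1 ∧ ConjClasses.mk k = C},
            C.1 = ConjClasses.mk (n : G) := ⟨⟨ConjClasses.mk (n : G), (n : G), hnK', hn1', rfl⟩, rfl⟩
        have hconj : IsConj (r C) (n : G) := by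
          rw [← ConjClasses.mk_eq_mk_iff_isConj, hrC C, hCdef]
        obtain ⟨g, hg⟩ := isConj_iff.1 hconj
        have hgN : g ∈ Subgroup.normalizer (K : Set G) := by
          by_contra hgN
          exact hr1 C (hTI g hgN (r C) (hrK C) (by rw [hg]; exact hnK'))
        have hval : ∀ ψ : {ψ // ψ ∈ Cfsg.Agent.Lib.Helper25.relChars
            (K.subgroupOf (Subgroup.normalizer (K : Set G)))},
            ((ψ.1 : IrrCharacter ↥(Subgroup.normalizer (K : Set G))) :
              ↥(Subgroup.normalizer (K : Set G)) → ℂ) n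
            = ((ψ.1 : IrrCharacter ↥(Subgroup.normalizer (K : Set G))) :
              ↥(Subgroup.normalizer (K : Set G)) → ℂ) ⟨r C, hKN (hrK C)⟩ := by
          intro ψ
          have hn : n = (⟨g, hgN⟩ : ↥(Subgroup.normalizer (K : Set G)))
              * ⟨r C, hKN (hrK C)⟩ * (⟨g, hgN⟩ : ↥(Subgroup.normalizer (K : Set G)))⁻¹ :=
            Subtype.ext hg.symm
          rw [hn]
          exact Cfsg.Agent.Lib.Helper80.char_conj_eq
            (Cfsg.Agent.Lib.Helper77.irr_isCharacter ψ.1) _ _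
        have hc' := congrFun hc C
        simp only [Finset.sum_apply, Pi.smul_apply, smul_eq_mul, Pi.zero_apply] at hc'
        rw [← hc']
        exact Finset.sum_congr rfl (fun ψ _ => by rw [hval ψ])
      · exact Finset.sum_eq_zero (fun ψ _ => by
          rw [Cfsg.Agent.Lib.Helper25.rel_vanish' _ hfrob' ψ.2 hnK, mul_zero])
    have hone : ∑ ψ, c ψ * ((ψ.1 : IrrCharacter ↥(Subgroup.normalizer (K : Set G))) :
          ↥(Subgroup.normalizer (K : Set G)) → ℂ) 1 = 0 := by
      have h1 : ∑ n : ↥(Subgroup.normalizer (K : Set G)),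
          ∑ ψ, c ψ * ((ψ.1 : IrrCharacter ↥(Subgroup.normalizer (K : Set G))) :
            ↥(Subgroup.normalizer (K : Set G)) → ℂ) n
          = ∑ ψ, c ψ * ((ψ.1 : IrrCharacter ↥(Subgroup.normalizer (K : Set G))) :
            ↥(Subgroup.normalizer (K : Set G)) → ℂ) 1 :=
        Finset.sum_eq_single_of_mem 1 (Finset.mem_univ _) (fun n _ hn => hzero n hn)
      rw [← h1, Finset.sum_comm]
      refine Finset.sum_eq_zero (fun ψ _ => ?_)
      rw [← Finset.mul_sum, Cfsg.Agent.Lib.Helper25.rel_sum_eq_zero' _ ψ.2, mul_zero]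
    have hF : ∑ ψ, c ψ • ((ψ.1 : IrrCharacter ↥(Subgroup.normalizer (K : Set G))) :
        ↥(Subgroup.normalizer (K : Set G)) → ℂ) = 0 := by
      funext n
      simp only [Finset.sum_apply, Pi.smul_apply, smul_eq_mul, Pi.zero_apply]
      by_cases hn1 : n = 1
      · rw [hn1]; exact hone
      · exact hzero n hn1
    exact Fintype.linearIndependent_iff.1
      ((Cfsg.Agent.Lib.Helper77.irr_linearIndependent
        ↥(Subgroup.normalizer (K : Set G))).comp Subtype.val Subtype.val_injective) c hF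
  have hle := hli.fintype_card_le_finrank
  rw [Module.finrank_fintype_fun_eq_card, Fintype.card_coe] at hle
  rw [Nat.card_eq_fintype_card]
  exact hle

/-- The character-theoretic core of Feit's inequality. -/
theorem feit_count (K : Subgroup G) [Fintype ↥(Subgroup.normalizer (K : Set G))]
    (P : Cfsg.Agent.Lib.Helper25.SectorPkg K)
    (hTI : IsTISubset (K : Set G))
    (hC : ∀ k ∈ K, k ≠ 1 → Subgroup.centralizer ({k} : Set G) ≤ K)
    (hfus : ∀ k ∈ K, k ≠ 1 → ∀ g : G, g * k * g⁻¹ ∈ Subgroup.normalizer (K : Set G) →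
      g ∈ Subgroup.normalizer (K : Set G))
    (E : Subgroup G) (hEodd : Odd (Nat.card E)) (hEinv : ∀ y ∈ E, IsConj y y⁻¹)
    (h e : ℕ) (hh : Nat.card K = h) (hh2 : 2 ≤ h) (he2 : 2 ≤ e)
    (hN : Nat.card ↥(Subgroup.normalizer (K : Set G)) = h * e)
    (hG : Nat.card G = (h + 1) * h * e)
    (hsum : ∀ F : G → ℂ, (∀ g x : G, F (x * g * x⁻¹) = F g) →
      ∑ g : G, Set.indicator {g : G | g ∈ Subgroup.normalizer (K : Set G) ∧ g ∉ K} F g
        = (h : ℂ) * ∑ g : G, Set.indicator {g : G | g ∈ E ∧ g ≠ 1} F g)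
    (hA : e ≤ Nat.card {C : ConjClasses G // ∀ g : G, ConjClasses.mk g = C → g ∉ K}) :
    h - 1 ≤ 2 * e := by
  classical
  haveI : Fintype K := Fintype.ofFinite _
  haveI : Finite (IrrCharacter G) := Cfsg.Agent.Lib.Helper77.irr_finite G
  haveI : Fintype (IrrCharacter G) := Fintype.ofFinite _
  haveI : Fintype (ConjClasses G) := Fintype.ofFinite _
  have hKN : K ≤ Subgroup.normalizer (K : Set G) := Subgroup.le_normalizer
  have hh0 : 0 < h := by omega
  have hh0' : (h : ℂ) ≠ 0 := by exact_mod_cast hh0.ne'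
  have he0' : (e : ℂ) ≠ 0 := by
    have : 0 < e := by omega
    exact_mod_cast this.ne'
  choose m hm using fun Θ : IrrCharacter G =>
    Cfsg.Agent.Lib.Helper77.sum_subgroup_char K (Θ : G → ℂ)
      (Cfsg.Agent.Lib.Helper77.irr_isCharacter Θ)
  choose b hb using fun Θ : IrrCharacter G =>
    Cfsg.Agent.Lib.Helper77.sum_subgroup_char (Subgroup.normalizer (K : Set G)) (Θ : G → ℂ)
      (Cfsg.Agent.Lib.Helper77.irr_isCharacter Θ)
  have hS1 : ∑ Θ : IrrCharacter G, m Θ ^ 2 = 2 * e := by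
    have e1 : (h : ℂ) * (h : ℂ) * ∑ Θ : IrrCharacter G, ((m Θ : ℂ)) ^ 2
        = (h : ℂ) * (h : ℂ) * (2 * (e : ℂ)) := by
      rw [Finset.mul_sum]
      calc ∑ Θ : IrrCharacter G, (h : ℂ) * (h : ℂ) * (m Θ : ℂ) ^ 2
          = ∑ Θ : IrrCharacter G, (∑ a : K, (Θ : G → ℂ) a)
              * conj (∑ b : K, (Θ : G → ℂ) b) := by
            refine Finset.sum_congr rfl (fun Θ _ => ?_)
            rw [hm Θ, hh, map_mul, map_natCast, map_natCast]
            ring
        _ = (Nat.card G : ℂ) + ((Nat.card K : ℂ) - 1)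
              * (Nat.card (Subgroup.normalizer (K : Set G)) : ℂ) :=
            sum_irr_key K K le_rfl hKN hfus
        _ = (h : ℂ) * (h : ℂ) * (2 * (e : ℂ)) := by
            rw [hG, hN, hh]
            push_cast
            ring
    have e2 : ∑ Θ : IrrCharacter G, ((m Θ : ℂ)) ^ 2 = 2 * (e : ℂ) :=
      mul_left_cancel₀ (mul_ne_zero hh0' hh0') e1
    exact_mod_cast e2
  have hS2 : ∑ Θ : IrrCharacter G, m Θ * b Θ = 2 := by
    have e1 : (h : ℂ) * ((h : ℂ) * (e : ℂ)) * ∑ Θ : IrrCharacter G, ((m Θ : ℂ)) * (b Θ : ℂ)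
        = (h : ℂ) * ((h : ℂ) * (e : ℂ)) * 2 := by
      rw [Finset.mul_sum]
      calc ∑ Θ : IrrCharacter G, (h : ℂ) * ((h : ℂ) * (e : ℂ)) * ((m Θ : ℂ) * (b Θ : ℂ))
          = ∑ Θ : IrrCharacter G, (∑ a : K, (Θ : G → ℂ) a)
              * conj (∑ n : ↥(Subgroup.normalizer (K : Set G)), (Θ : G → ℂ) n) := by
            refine Finset.sum_congr rfl (fun Θ _ => ?_)
            rw [hm Θ, hb Θ, hh, hN, map_mul, map_natCast, map_natCast]
            push_cast
            ring
        _ = (Nat.card G : ℂ) + ((Nat.card K : ℂ) - 1)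
              * (Nat.card (Subgroup.normalizer (K : Set G)) : ℂ) :=
            sum_irr_key K (Subgroup.normalizer (K : Set G)) hKN le_rfl hfus
        _ = (h : ℂ) * ((h : ℂ) * (e : ℂ)) * 2 := by
            rw [hG, hN, hh]
            push_cast
            ring
    have e2 : ∑ Θ : IrrCharacter G, ((m Θ : ℂ)) * (b Θ : ℂ) = 2 :=
      mul_left_cancel₀ (mul_ne_zero hh0' (mul_ne_zero hh0' he0')) e1
    exact_mod_cast e2
  have hsum' : ∀ F : G → ℂ, (∀ g x : G, F (x * g * x⁻¹) = F g) →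
      ∑ g : G, (if g ∈ Subgroup.normalizer (K : Set G) ∧ g ∉ K then F g else 0)
        = (h : ℂ) * ∑ g : G, (if g ∈ E ∧ g ≠ 1 then F g else 0) := by
    intro F hF
    have h1 := hsum F hF
    simp only [Set.indicator_apply, Set.mem_setOf_eq] at h1
    exact h1
  have hpar : ∀ Θ : IrrCharacter G, ∃ t : ℤ, (e : ℤ) * b Θ - m Θ = 2 * t := fun Θ =>
    parity_mb K E hEodd hEinv h e hh hh0 hN hsum' (Θ : G → ℂ)
      (Cfsg.Agent.Lib.Helper77.irr_isCharacter Θ) (m Θ) (b Θ) (hm Θ) (hb Θ)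
  obtain ⟨S₁, hS₁⟩ : ∃ S₁ : Finset (IrrCharacter G),
      S₁ = Finset.univ.filter (fun Θ => m Θ ≠ 0) := ⟨_, rfl⟩
  have hterm : ∀ Θ ∈ S₁, 4 ≤ m Θ ^ 2 + 3 * (m Θ * b Θ) := by
    intro Θ hΘ
    rw [hS₁, Finset.mem_filter] at hΘ
    have hmpos : 0 < m Θ := Nat.pos_of_ne_zero hΘ.2
    rcases Nat.eq_zero_or_pos (b Θ) with hb0 | hbpos
    · obtain ⟨t, ht⟩ := hpar Θ
      rw [hb0] at ht
      have hm2 : 2 ≤ m Θ := by
        push_cast at ht
        omega
      nlinarith
    · have h1 : 1 ≤ m Θ * b Θ := Nat.mul_pos hmpos hbpos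
      have h2 : 1 ≤ m Θ ^ 2 := Nat.one_le_pow _ _ hmpos
      omega
  have hS₁card : 4 * S₁.card ≤ 2 * e + 6 := by
    calc 4 * S₁.card = S₁.card • 4 := by rw [smul_eq_mul, mul_comm]
      _ ≤ ∑ Θ ∈ S₁, (m Θ ^ 2 + 3 * (m Θ * b Θ)) := Finset.card_nsmul_le_sum _ _ _ hterm
      _ ≤ ∑ Θ : IrrCharacter G, (m Θ ^ 2 + 3 * (m Θ * b Θ)) :=
          Finset.sum_le_sum_of_subset (Finset.subset_univ _)
      _ = 2 * e + 6 := by
          rw [Finset.sum_add_distrib, ← Finset.mul_sum, hS1, hS2]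
          omega
  have hT := card_relChars_le K hTI hC
  have hcls : 1 + Nat.card {C : ConjClasses G // ∃ k ∈ K, k ≠ 1 ∧ ConjClasses.mk k = C}
      + Nat.card {C : ConjClasses G // ∀ g : G, ConjClasses.mk g = C → g ∉ K}
      ≤ Nat.card (ConjClasses G) := by
    rw [Nat.card_eq_fintype_card, Nat.card_eq_fintype_card, Nat.card_eq_fintype_card,
      Fintype.card_subtype, Fintype.card_subtype]
    obtain ⟨ST, hST⟩ : ∃ ST : Finset (ConjClasses G), ST = Finset.univ.filter
        (fun C : ConjClasses G => ∃ k ∈ K, k ≠ 1 ∧ ConjClasses.mk k = C) := ⟨_, rfl⟩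
    obtain ⟨SA, hSA⟩ : ∃ SA : Finset (ConjClasses G), SA = Finset.univ.filter
        (fun C : ConjClasses G => ∀ g : G, ConjClasses.mk g = C → g ∉ K) := ⟨_, rfl⟩
    rw [← hST, ← hSA]
    have hd1 : Disjoint ST SA := by
      rw [Finset.disjoint_left]
      intro C hCT hCA
      rw [hST, Finset.mem_filter] at hCT
      rw [hSA, Finset.mem_filter] at hCA
      obtain ⟨k, hk, -, hkC⟩ := hCT.2
      exact hCA.2 k hkC hk
    have hd2 : ConjClasses.mk (1 : G) ∉ ST ∪ SA := by
      rw [Finset.mem_union]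
      rintro (h1 | h1)
      · rw [hST, Finset.mem_filter] at h1
        obtain ⟨k, -, hk1, hkC⟩ := h1.2
        rw [ConjClasses.mk_eq_mk_iff_isConj] at hkC
        exact hk1 (isConj_one_left.1 hkC)
      · rw [hSA, Finset.mem_filter] at h1
        exact h1.2 1 rfl K.one_mem
    have h3 : (insert (ConjClasses.mk (1 : G)) (ST ∪ SA)).card = 1 + ST.card + SA.card := by
      rw [Finset.card_insert_of_notMem hd2, Finset.card_union_of_disjoint hd1]
      ring
    rw [← h3, ← Finset.card_univ]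
    exact Finset.card_le_card (Finset.subset_univ _)
  have hIrr : Nat.card (IrrCharacter G) = Nat.card (ConjClasses G) :=
    Cfsg.Agent.Lib.Helper80.card_irr_eq_card_conjClasses
  have hgood : ∃ Θ : IrrCharacter G,
      (∀ χ ∈ Cfsg.Agent.Lib.Helper25.relChars (K.subgroupOf (Subgroup.normalizer (K : Set G))),
        Θ ≠ P.X χ) ∧ m Θ = 0 := by
    by_contra hno
    push Not at hno
    have hsub : (Finset.univ : Finset (IrrCharacter G)) ⊆
        (Cfsg.Agent.Lib.Helper25.relChars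
          (K.subgroupOf (Subgroup.normalizer (K : Set G)))).image P.X ∪ S₁ := by
      intro Θ _
      rw [Finset.mem_union]
      by_cases hex : ∃ χ ∈ Cfsg.Agent.Lib.Helper25.relChars
          (K.subgroupOf (Subgroup.normalizer (K : Set G))), Θ = P.X χ
      · left
        obtain ⟨χ, hχ, rfl⟩ := hex
        exact Finset.mem_image_of_mem _ hχ
      · right
        push Not at hex
        rw [hS₁, Finset.mem_filter]
        exact ⟨Finset.mem_univ _, hno Θ hex⟩
    have hcard := Finset.card_le_card hsub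
    have h1 := Finset.card_union_le ((Cfsg.Agent.Lib.Helper25.relChars
          (K.subgroupOf (Subgroup.normalizer (K : Set G)))).image P.X) S₁
    have h2 : ((Cfsg.Agent.Lib.Helper25.relChars
          (K.subgroupOf (Subgroup.normalizer (K : Set G)))).image P.X).card
        ≤ (Cfsg.Agent.Lib.Helper25.relChars
          (K.subgroupOf (Subgroup.normalizer (K : Set G)))).card := Finset.card_image_le
    rw [Finset.card_univ, ← Nat.card_eq_fintype_card, hIrr] at hcard
    omega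
  obtain ⟨Θ, hΘne, hΘm⟩ := hgood
  obtain ⟨y, hy⟩ := P.v3 Θ hΘne
  have hΘchar := Cfsg.Agent.Lib.Helper77.irr_isCharacter Θ
  have hdeg := Cfsg.Agent.Lib.Helper80.char_one_eq_charDegree hΘchar
  have hsumK : ∑ k : K, (Θ : G → ℂ) k
      = (Cfsg.charDegree (Θ : G → ℂ) : ℂ) + ((h : ℂ) - 1) * (y : ℂ) := by
    rw [← Finset.add_sum_erase Finset.univ _ (Finset.mem_univ (1 : K))]
    have h3 : ∀ k ∈ Finset.univ.erase (1 : K), (Θ : G → ℂ) k = (y : ℂ) := by
      intro k hk
      exact hy k k.2 (fun h => (Finset.mem_erase.1 hk).1 (Subtype.ext h))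
    rw [Finset.sum_congr rfl h3, Finset.sum_const,
      Finset.card_erase_of_mem (Finset.mem_univ _), Finset.card_univ, nsmul_eq_mul,
      ← Nat.card_eq_fintype_card, hh, Nat.cast_sub (by omega : 1 ≤ h), Nat.cast_one]
    rw [show (((1 : K) : G)) = 1 from rfl, hdeg]
  rw [hm Θ, hΘm] at hsumK
  have hint : (Cfsg.charDegree (Θ : G → ℂ) : ℤ) + ((h : ℤ) - 1) * y = 0 := by
    have h4 : (((Cfsg.charDegree (Θ : G → ℂ) : ℤ) + ((h : ℤ) - 1) * y : ℤ) : ℂ) = 0 := by
      push_cast
      rw [← hsumK]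
      simp
    exact_mod_cast h4
  have hdvd1 : (h - 1) ∣ Cfsg.charDegree (Θ : G → ℂ) := by
    have h5 : ((h - 1 : ℕ) : ℤ) ∣ (Cfsg.charDegree (Θ : G → ℂ) : ℤ) := by
      refine ⟨-y, ?_⟩
      rw [Nat.cast_sub (by omega : 1 ≤ h)]
      push_cast
      linarith
    exact Int.natCast_dvd_natCast.1 h5
  have hdvd2 : Cfsg.charDegree (Θ : G → ℂ) ∣ Nat.card G :=
    Cfsg.Agent.Lib.Helper80.charDegree_dvd_card Θ.2
  have hdvd3 : (h - 1) ∣ (h + 1) * h * e := by
    rw [← hG]
    exact hdvd1.trans hdvd2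
  have hcop : Nat.Coprime (h - 1) h := by
    obtain ⟨h', rfl⟩ : ∃ h', h = h' + 1 := ⟨h - 1, by omega⟩
    rw [Nat.add_sub_cancel]
    simp
  have hdvd4 : (h - 1) ∣ (h + 1) * e := by
    have h6 : (h - 1) ∣ h * ((h + 1) * e) := by
      rw [show h * ((h + 1) * e) = (h + 1) * h * e by ring]
      exact hdvd3
    exact hcop.dvd_of_dvd_mul_left h6
  have hdvd5 : (h - 1) ∣ 2 * e := by
    have h6 : (h + 1) * e = (h - 1) * e + 2 * e := by
      have h7 : h + 1 = (h - 1) + 2 := by omega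
      rw [h7]
      ring
    rw [h6] at hdvd4
    exact (Nat.dvd_add_right (Dvd.intro _ rfl)).1 hdvd4
  exact Nat.le_of_dvd (by omega) hdvd5

end general

end Cfsg.Agent.Lib.Helper4.ZassChar
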