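import Mathlib
import Cfsg.Agent.Lib.Helper4.ZassC

set_option autoImplicit false

/-!
Versions of the involution-counting lemmas for Zassenhaus groups in which simplicity is replaced by
the hypothesis that the elements interchanging `a` and `b` invert the two-point stabiliser.
-/

namespace Cfsg.Agent.Lib.Helper4.ZassG

open MulAction Cfsg.Agent.Lib.Helper13 Cfsg.Agent.Lib.Helper4.Zass

variable {G Ω : Type*} [Group G] [MulAction G Ω]

/-- The elements interchanging `a` and `b` invert the stabiliser of `a` and `b`. -/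
def SwapInv (G Ω : Type*) [Group G] [MulAction G Ω] (a b : Ω) : Prop :=
  ∀ s : G, s • a = b → s • b = a →
    ∀ x ∈ (stabilizer G a ⊓ stabilizer G b : Subgroup G), s * x * s⁻¹ = x⁻¹

/-- Elements interchanging two points are involutions. -/
theorem swap_invol [Finite G] [Fintype Ω] (hZ : Cfsg.IsZassenhausGroup G Ω) {a b : Ω}
    (hab : a ≠ b) (hinv : SwapInv G Ω a b)
    (hodd : Odd (Nat.card ↥(stabilizer G a ⊓ stabilizer G b : Subgroup G)))
    {c d : Ω} (hcd : c ≠ d) {s : G} (hsc : s • c = d) (hsd : s • d = c) : orderOf s = 2 := by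
  obtain ⟨g, hga, hgb⟩ := zass_two_trans hZ hab hcd
  obtain ⟨t, ht⟩ : ∃ t : G, t = g⁻¹ * s * g := ⟨_, rfl⟩
  have hta : t • a = b := by
    rw [ht, mul_smul, mul_smul, hga, hsc, inv_smul_eq_iff, hgb]
  have htb : t • b = a := by
    rw [ht, mul_smul, mul_smul, hgb, hsd, inv_smul_eq_iff, hga]
  have htt : t * t ∈ (stabilizer G a ⊓ stabilizer G b : Subgroup G) := by
    refine Subgroup.mem_inf.2 ⟨?_, ?_⟩
    · show (t * t) • a = a
      rw [mul_smul, hta, htb]
    · show (t * t) • b = b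
      rw [mul_smul, htb, hta]
  have hinv := hinv t hta htb (t * t) htt
  have h1 : t * (t * t) * t⁻¹ = t * t := by group
  rw [h1] at hinv
  have h2 : (t * t) ^ 2 = 1 := by
    rw [sq]
    nth_rewrite 2 [hinv]
    exact mul_inv_cancel _
  have h3 : orderOf (t * t) ∣ 2 := orderOf_dvd_of_pow_eq_one h2
  have h4 : orderOf (t * t) ∣ Nat.card ↥(stabilizer G a ⊓ stabilizer G b : Subgroup G) :=
    Subgroup.orderOf_dvd_natCard _ htt
  have h5 : orderOf (t * t) = 1 := by
    rcases (Nat.dvd_prime Nat.prime_two).1 h3 with h | h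
    · exact h
    · exfalso
      rw [h] at h4
      exact (Nat.not_even_iff_odd.2 hodd) (even_iff_two_dvd.2 h4)
  have h6 : t * t = 1 := orderOf_eq_one_iff.1 h5
  have h7 : t ≠ 1 := by
    intro h
    rw [h, one_smul] at hta
    exact hab hta
  haveI : Fact (Nat.Prime 2) := ⟨Nat.prime_two⟩
  have h8 : orderOf t = 2 := orderOf_eq_prime (by rw [sq]; exact h6) h7
  have h9 : s = g * t * g⁻¹ := by rw [ht]; group
  rw [h9, orderOf_conj_eq]
  exact h8

/-- The number of involutions mapping `c` to `d`. -/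
theorem card_inv_maps [Finite G] [Fintype Ω] (hZ : Cfsg.IsZassenhausGroup G Ω) {a b : Ω}
    (hab : a ≠ b) (hinv : SwapInv G Ω a b)
    (hodd : Odd (Nat.card ↥(stabilizer G a ⊓ stabilizer G b : Subgroup G)))
    {c d : Ω} (hcd : c ≠ d) :
    Nat.card {x : G // orderOf x = 2 ∧ x • c = d}
      = Nat.card ↥(stabilizer G a ⊓ stabilizer G b : Subgroup G) := by
  rw [← card_maps hZ hab hcd (Ne.symm hcd)]
  refine Nat.card_congr (Equiv.subtypeEquivRight (fun x => ?_))
  constructor
  · rintro ⟨hx, hxc⟩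
    refine ⟨hxc, ?_⟩
    rw [← hxc, ← mul_smul, mul_self_of_orderOf_two hx, one_smul]
  · rintro ⟨hxc, hxd⟩
    exact ⟨swap_invol hZ hab hinv hodd hcd hxc hxd, hxc⟩

/-- All involutions are conjugate. -/
theorem inv_conj [Finite G] [Fintype Ω] (hZ : Cfsg.IsZassenhausGroup G Ω) {a b : Ω}
    (hab : a ≠ b) (hinv : SwapInv G Ω a b)
    (hodd : Odd (Nat.card ↥(stabilizer G a ⊓ stabilizer G b : Subgroup G)))
    {x y : G} (hx : orderOf x = 2) (hy : orderOf y = 2) : IsConj x y := by
  -- every involution is conjugate to one interchanging `a` and `b`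
  have key : ∀ z : G, orderOf z = 2 → ∃ z' : G, IsConj z z' ∧ z' • a = b ∧ z' • b = a := by
    intro z hz
    obtain ⟨c, hc⟩ := zass_exists_moved hZ (ne_one_of_orderOf_two hz)
    have hzz : z • (z • c) = c := by
      rw [← mul_smul, mul_self_of_orderOf_two hz, one_smul]
    obtain ⟨g, hgc, hgd⟩ := zass_two_trans hZ (Ne.symm hc) hab
    refine ⟨g * z * g⁻¹, isConj_iff.2 ⟨g, rfl⟩, ?_, ?_⟩
    · rw [mul_smul, mul_smul, inv_smul_eq_iff.2 hgc.symm, hgd]
    · rw [mul_smul, mul_smul, inv_smul_eq_iff.2 hgd.symm, hzz, hgc]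
  obtain ⟨x', hxx', hxa, hxb⟩ := key x hx
  obtain ⟨y', hyy', hya, hyb⟩ := key y hy
  have hx'2 : orderOf x' = 2 := swap_invol hZ hab hinv hodd hab hxa hxb
  have hx'x' : x' * x' = 1 := mul_self_of_orderOf_two hx'2
  have hx'inv : x'⁻¹ = x' := inv_eq_of_mul_eq_one_right hx'x'
  obtain ⟨s, hs⟩ : ∃ s : G, s = x'⁻¹ * y' := ⟨_, rfl⟩
  have hsE : s ∈ (stabilizer G a ⊓ stabilizer G b : Subgroup G) := by
    refine Subgroup.mem_inf.2 ⟨?_, ?_⟩
    · show s • a = a
      rw [hs, mul_smul, hya, inv_smul_eq_iff, hxa]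
    · show s • b = b
      rw [hs, mul_smul, hyb, inv_smul_eq_iff, hxb]
  have hsodd : Odd (orderOf s) :=
    Odd.of_dvd_nat hodd (Subgroup.orderOf_dvd_natCard _ hsE)
  obtain ⟨m, hm⟩ := hsodd
  obtain ⟨r, hr⟩ : ∃ r : G, r = s ^ (m + 1) := ⟨_, rfl⟩
  have hrE : r ∈ (stabilizer G a ⊓ stabilizer G b : Subgroup G) := by
    rw [hr]; exact Subgroup.pow_mem _ hsE _
  have hrr : r * r = s := by
    rw [hr, ← pow_add]
    have : m + 1 + (m + 1) = orderOf s + 1 := by omega
    rw [this, pow_succ, pow_orderOf_eq_one, one_mul]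
  have hinv := hinv x' hxa hxb r hrE
  have h1 : x'⁻¹ * r⁻¹ * x' = r := by
    have h2 : x' * r⁻¹ * x'⁻¹ = r := by
      have h3 : x' * r⁻¹ * x'⁻¹ = (x' * r * x'⁻¹)⁻¹ := by group
      rw [h3, hinv, inv_inv]
    rw [hx'inv] at h2 ⊢
    exact h2
  have hconj : IsConj x' y' := by
    refine isConj_iff.2 ⟨r⁻¹, ?_⟩
    have h2 : y' = x' * s := by rw [hs]; group
    rw [h2, ← hrr, inv_inv]
    calc r⁻¹ * x' * r = x' * (x'⁻¹ * r⁻¹ * x') * r := by group
      _ = x' * r * r := by rw [h1]
      _ = x' * (r * r) := by group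
  exact hxx'.trans (hconj.trans hyy'.symm)

/-- The number of involutions. -/
theorem card_inv [Finite G] [Fintype Ω] (hZ : Cfsg.IsZassenhausGroup G Ω) {a b : Ω}
    (hab : a ≠ b) (hinv : SwapInv G Ω a b) (h e : ℕ) (hh : Fintype.card Ω = h + 1)
    (he : Nat.card ↥(stabilizer G a ⊓ stabilizer G b : Subgroup G) = e) (hodd : Odd e) :
    Nat.card {x : G // orderOf x = 2} = if Even h then e * (h + 1) else e * h := by
  classical
  haveI : Fintype G := Fintype.ofFinite G
  have hodd' : Odd (Nat.card ↥(stabilizer G a ⊓ stabilizer G b : Subgroup G)) := by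
    rw [he]; exact hodd
  obtain ⟨P, hP⟩ : ∃ P : Finset (G × Ω),
      P = Finset.univ.filter (fun p : G × Ω => orderOf p.1 = 2 ∧ p.1 • p.2 ≠ p.2) := ⟨_, rfl⟩
  have hPmem : ∀ p : G × Ω, p ∈ P ↔ orderOf p.1 = 2 ∧ p.1 • p.2 ≠ p.2 := by
    intro p
    rw [hP, Finset.mem_filter]
    exact ⟨fun hp => hp.2, fun hp => ⟨Finset.mem_univ _, hp⟩⟩
  -- first count
  have h1 := Finset.card_eq_sum_card_fiberwise (s := P)
    (t := (Finset.univ : Finset Ω).offDiag) (f := fun p : G × Ω => (p.2, p.1 • p.2))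
    (fun p hp => by
      rw [Finset.mem_coe, Finset.mem_offDiag]
      exact ⟨Finset.mem_univ _, Finset.mem_univ _,
        fun hgg => ((hPmem p).1 (Finset.mem_coe.1 hp)).2 hgg.symm⟩)
  have h2 : ∀ q ∈ (Finset.univ : Finset Ω).offDiag,
      (P.filter (fun p : G × Ω => (p.2, p.1 • p.2) = q)).card = e := by
    intro q hq
    have hq' : q.1 ≠ q.2 := (Finset.mem_offDiag.1 hq).2.2
    rw [← he, ← card_inv_maps hZ hab hinv hodd' hq', Nat.card_eq_fintype_card, Fintype.card_subtype]
    refine Finset.card_bij (fun p _ => p.1) ?_ ?_ ?_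
    · intro p hp
      obtain ⟨hpP, hpq⟩ := Finset.mem_filter.1 hp
      have h3 := (hPmem p).1 hpP
      have h4 := Prod.ext_iff.1 hpq
      rw [Finset.mem_filter]
      refine ⟨Finset.mem_univ _, h3.1, ?_⟩
      rw [← h4.1]
      exact h4.2
    · intro p hp p' hp' hpp
      have h4 := Prod.ext_iff.1 (Finset.mem_filter.1 hp).2
      have h4' := Prod.ext_iff.1 (Finset.mem_filter.1 hp').2
      exact Prod.ext hpp (h4.1.trans h4'.1.symm)
    · intro x hx
      obtain ⟨-, hx2, hxq⟩ := Finset.mem_filter.1 hx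
      refine ⟨(x, q.1), ?_, rfl⟩
      rw [Finset.mem_filter, hPmem]
      refine ⟨⟨hx2, ?_⟩, Prod.ext rfl hxq⟩
      show x • q.1 ≠ q.1
      rw [hxq]
      exact Ne.symm hq'
  rw [Finset.sum_congr rfl h2, Finset.sum_const, Finset.offDiag_card,
    Finset.card_univ (α := Ω), hh, smul_eq_mul] at h1
  have hoff : (h + 1) * (h + 1) - (h + 1) = (h + 1) * h := by
    rw [Nat.mul_succ, Nat.add_sub_cancel]
  rw [hoff] at h1
  -- second count
  have h3 := Finset.card_eq_sum_card_fiberwise (s := P)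
    (t := Finset.univ.filter (fun x : G => orderOf x = 2)) (f := fun p : G × Ω => p.1)
    (fun p hp => by
      rw [Finset.mem_coe, Finset.mem_filter]
      exact ⟨Finset.mem_univ _, ((hPmem p).1 (Finset.mem_coe.1 hp)).1⟩)
  obtain ⟨f, hf⟩ : ∃ f : ℕ, f = if Even h then 1 else 0 := ⟨_, rfl⟩
  have h4 : ∀ x ∈ Finset.univ.filter (fun x : G => orderOf x = 2),
      (P.filter (fun p : G × Ω => p.1 = x)).card + f = h + 1 := by
    intro x hx
    have hx2 : orderOf x = 2 := (Finset.mem_filter.1 hx).2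
    have h5 : (P.filter (fun p : G × Ω => p.1 = x)).card
        = (Finset.univ.filter (fun c : Ω => ¬ x • c = c)).card := by
      refine Finset.card_bij (fun p _ => p.2) ?_ ?_ ?_
      · intro p hp
        obtain ⟨hpP, hpx⟩ := Finset.mem_filter.1 hp
        have h6 := ((hPmem p).1 hpP).2
        rw [Finset.mem_filter]
        refine ⟨Finset.mem_univ _, ?_⟩
        rw [← hpx]
        exact h6
      · intro p hp p' hp' hpp
        exact Prod.ext ((Finset.mem_filter.1 hp).2.trans (Finset.mem_filter.1 hp').2.symm) hpp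
      · intro c hc
        refine ⟨(x, c), ?_, rfl⟩
        rw [Finset.mem_filter, hPmem]
        exact ⟨⟨hx2, (Finset.mem_filter.1 hc).2⟩, rfl⟩
    have h6 : (Finset.univ.filter (fun c : Ω => x • c = c)).card = f := by
      obtain ⟨hev, hod⟩ := inv_fix hZ hab hodd' h hh hx2
      rw [hf]
      by_cases hpar : Even h
      · rw [if_pos hpar]
        obtain ⟨c, hc⟩ := hev hpar
        rw [Finset.card_eq_one]
        refine ⟨c, Finset.ext (fun d => ?_)⟩
        rw [Finset.mem_filter, Finset.mem_singleton]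
        exact ⟨fun hd => inv_fix_unique hZ hab hodd' hx2 hd.2 hc,
          fun hd => ⟨Finset.mem_univ _, hd ▸ hc⟩⟩
      · rw [if_neg hpar, Finset.card_eq_zero]
        refine Finset.eq_empty_of_forall_notMem (fun d hd => ?_)
        exact hod (Nat.not_even_iff_odd.1 hpar) d (Finset.mem_filter.1 hd).2
    have h7 := Finset.card_filter_add_card_filter_not (s := (Finset.univ : Finset Ω))
      (fun c : Ω => x • c = c)
    rw [Finset.card_univ, hh, h6] at h7
    rw [h5]
    omega
  have h5 : ∀ x ∈ Finset.univ.filter (fun x : G => orderOf x = 2),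
      (P.filter (fun p : G × Ω => p.1 = x)).card = h + 1 - f :=
    fun x hx => by have := h4 x hx; omega
  rw [Finset.sum_congr rfl h5, Finset.sum_const, smul_eq_mul, h1] at h3
  rw [Nat.card_eq_fintype_card, Fintype.card_subtype]
  obtain ⟨I, hI⟩ : ∃ I : ℕ, I = (Finset.univ.filter (fun x : G => orderOf x = 2)).card :=
    ⟨_, rfl⟩
  rw [← hI] at h3 ⊢
  by_cases hpar : Even h
  · rw [if_pos hpar] at hf ⊢
    rw [hf] at h3
    have hpos : 0 < h := by
      rcases Nat.eq_zero_or_pos h with h0 | h0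
      · exfalso
        have : Fintype.card Ω = 1 := by rw [hh, h0]
        have h8 := Fintype.card_le_one_iff.1 this.le a b
        exact hab h8
      · exact h0
    have h8 : I * h = e * (h + 1) * h := by
      have : h + 1 - 1 = h := by omega
      rw [this] at h3
      rw [← h3]; ring
    exact Nat.eq_of_mul_eq_mul_right hpos h8
  · rw [if_neg hpar] at hf ⊢
    rw [hf] at h3
    have h8 : I * (h + 1) = e * h * (h + 1) := by
      have : h + 1 - 0 = h + 1 := by omega
      rw [this] at h3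
      rw [← h3]; ring
    exact Nat.eq_of_mul_eq_mul_right (Nat.succ_pos h) h8

/-- For `h` even, every point is fixed by exactly `e` involutions. -/
theorem card_inv_fix [Finite G] [Fintype Ω] (hZ : Cfsg.IsZassenhausGroup G Ω) {a b : Ω}
    (hab : a ≠ b) (hinv : SwapInv G Ω a b) (h e : ℕ) (hh : Fintype.card Ω = h + 1)
    (he : Nat.card ↥(stabilizer G a ⊓ stabilizer G b : Subgroup G) = e) (hodd : Odd e)
    (heven : Even h) (c : Ω) :
    Nat.card {x : G // orderOf x = 2 ∧ x • c = c} = e := by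
  classical
  haveI : Fintype G := Fintype.ofFinite G
  have hodd' : Odd (Nat.card ↥(stabilizer G a ⊓ stabilizer G b : Subgroup G)) := by
    rw [he]; exact hodd
  have heq : ∀ c c' : Ω, Nat.card {x : G // orderOf x = 2 ∧ x • c = c}
      = Nat.card {x : G // orderOf x = 2 ∧ x • c' = c'} := by
    intro c c'
    by_cases hcc : c = c'
    · rw [hcc]
    · obtain ⟨g, hg, hg'⟩ := zass_two_trans hZ hcc (Ne.symm hcc)
      exact le_antisymm (card_inv_fix_le g hg) (card_inv_fix_le g hg')
  obtain ⟨P, hP⟩ : ∃ P : Finset (G × Ω), P = Finset.univ.filter (fun p : G × Ω =>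
      orderOf p.1 = 2 ∧ p.1 • p.2 = p.2) := ⟨_, rfl⟩
  have hPmem : ∀ p, p ∈ P ↔ (orderOf p.1 = 2 ∧ p.1 • p.2 = p.2) := by
    intro p; rw [hP, Finset.mem_filter]; simp
  have h1 := Finset.card_eq_sum_card_fiberwise (s := P) (t := (Finset.univ : Finset Ω))
    (f := fun p : G × Ω => p.2) (fun p _ => Finset.mem_coe.2 (Finset.mem_univ _))
  have h2 : ∀ q ∈ (Finset.univ : Finset Ω), (P.filter (fun p : G × Ω => p.2 = q)).card
      = Nat.card {x : G // orderOf x = 2 ∧ x • c = c} := by
    intro q _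
    rw [heq c q, Nat.card_eq_fintype_card, Fintype.card_subtype]
    refine Finset.card_bij (fun p _ => p.1) ?_ ?_ ?_
    · intro p hp
      obtain ⟨hpP, hpq⟩ := Finset.mem_filter.1 hp
      have := (hPmem p).1 hpP
      rw [Finset.mem_filter]
      refine ⟨Finset.mem_univ _, this.1, ?_⟩
      rw [← hpq]; exact this.2
    · intro p hp p' hp' hpp
      exact Prod.ext hpp ((Finset.mem_filter.1 hp).2.trans (Finset.mem_filter.1 hp').2.symm)
    · intro x hx
      obtain ⟨-, hx2, hxq⟩ := Finset.mem_filter.1 hx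
      exact ⟨(x, q), by rw [Finset.mem_filter, hPmem]; exact ⟨⟨hx2, hxq⟩, rfl⟩, rfl⟩
  rw [Finset.sum_congr rfl h2, Finset.sum_const, Finset.card_univ (α := Ω), hh,
    smul_eq_mul] at h1
  have h3 := Finset.card_eq_sum_card_fiberwise (s := P)
    (t := Finset.univ.filter (fun x : G => orderOf x = 2)) (f := fun p : G × Ω => p.1)
    (fun p hp => by
      rw [Finset.mem_coe, Finset.mem_filter]
      exact ⟨Finset.mem_univ _, ((hPmem p).1 (Finset.mem_coe.1 hp)).1⟩)
  have h4 : ∀ x ∈ Finset.univ.filter (fun x : G => orderOf x = 2),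
      (P.filter (fun p : G × Ω => p.1 = x)).card = 1 := by
    intro x hx
    have hx2 := (Finset.mem_filter.1 hx).2
    obtain ⟨d, hd⟩ := (inv_fix hZ hab hodd' h hh hx2).1 heven
    rw [Finset.card_eq_one]
    refine ⟨(x, d), Finset.ext (fun p => ?_)⟩
    rw [Finset.mem_filter, Finset.mem_singleton, hPmem]
    constructor
    · rintro ⟨⟨hp2, hpfix⟩, hpx⟩
      refine Prod.ext hpx ?_
      rw [hpx] at hpfix
      exact inv_fix_unique hZ hab hodd' hx2 hpfix hd
    · intro hp
      rw [hp]; exact ⟨⟨hx2, hd⟩, rfl⟩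
  rw [Finset.sum_congr rfl h4, Finset.sum_const, smul_eq_mul, mul_one, h1] at h3
  have hI := card_inv hZ hab hinv h e hh he hodd
  rw [if_pos heven, Nat.card_eq_fintype_card, Fintype.card_subtype] at hI
  rw [hI] at h3
  have h5 : (h + 1) * Nat.card {x : G // orderOf x = 2 ∧ x • c = c} = (h + 1) * e := by
    rw [h3]; ring
  exact Nat.eq_of_mul_eq_mul_left (Nat.succ_pos h) h5

/-- At least `e` conjugacy classes avoid `H`. -/
theorem classes_avoiding [Finite G] [Fintype Ω] (hZ : Cfsg.IsZassenhausGroup G Ω) {a b : Ω}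
    (hab : a ≠ b) (hinv : SwapInv G Ω a b) (h e : ℕ) (hh : Fintype.card Ω = h + 1)
    (he : Nat.card ↥(stabilizer G a ⊓ stabilizer G b : Subgroup G) = e) (hodd : Odd e)
    (hlt : 2 * e < h - 1)
    (H : Subgroup G) (hHa : H ≤ stabilizer G a) (hHcard : Nat.card H + 1 = Fintype.card Ω)
    (hHfix : ∀ u ∈ H, u ≠ 1 → ∀ c : Ω, u • c = c → c = a) :
    e ≤ Nat.card {C : ConjClasses G // ∀ g : G, ConjClasses.mk g = C → g ∉ H} := by
  classical
  haveI : Fintype G := Fintype.ofFinite G
  have hodd' : Odd (Nat.card ↥(stabilizer G a ⊓ stabilizer G b : Subgroup G)) := by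
    rw [he]; exact hodd
  have hA := pairs_le (G := G) (fun C : ConjClasses G => ∀ g : G, ConjClasses.mk g = C → g ∉ H)
  obtain ⟨N, hN⟩ : ∃ N, N = Nat.card {C : ConjClasses G //
      ∀ g : G, ConjClasses.mk g = C → g ∉ H} := ⟨_, rfl⟩
  rw [← hN] at hA ⊢
  have hG := card_G hZ hab h e hh he
  have hI := card_inv hZ hab hinv h e hh he hodd
  rw [hG] at hA
  obtain ⟨Inv, hInv⟩ : ∃ Inv : Finset G, Inv = Finset.univ.filter (fun x : G => orderOf x = 2) :=
    ⟨_, rfl⟩
  have hIc : Inv.card = if Even h then e * (h + 1) else e * h := by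
    rw [← hI, Nat.card_eq_fintype_card, Fintype.card_subtype, hInv]
  obtain ⟨P, hP⟩ : ∃ P : Finset (G × G), P = Finset.univ.filter (fun p : G × G =>
      orderOf p.1 = 2 ∧ orderOf p.2 = 2 ∧
        ∀ g : G, ConjClasses.mk g = ConjClasses.mk (p.1 * p.2) → g ∉ H) := ⟨_, rfl⟩
  have hPc : P.card ≤ N * ((h + 1) * h * e) := by
    refine le_trans (le_of_eq ?_) hA
    rw [Nat.card_eq_fintype_card, Fintype.card_subtype, hP]
  obtain ⟨Q, hQ⟩ : ∃ Q : Finset (G × G), Q = Finset.univ.filter (fun p : G × G =>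
      orderOf p.1 = 2 ∧ orderOf p.2 = 2 ∧ ∃ c : Ω, p.1 • c = c ∧ p.2 • c = c) := ⟨_, rfl⟩
  obtain ⟨D, hD⟩ : ∃ D : Finset (G × G), D = Inv.image (fun x => (x, x)) := ⟨_, rfl⟩
  have hsub : Inv ×ˢ Inv ⊆ P ∪ (D ∪ Q) := by
    intro p hp
    rw [Finset.mem_product, hInv, Finset.mem_filter, Finset.mem_filter] at hp
    obtain ⟨⟨-, hx⟩, ⟨-, hy⟩⟩ := hp
    rw [Finset.mem_union, Finset.mem_union]
    by_cases hpP : p ∈ P
    · exact Or.inl hpP
    right
    by_cases hxy : p.1 = p.2
    · left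
      rw [hD, Finset.mem_image]
      exact ⟨p.1, by rw [hInv, Finset.mem_filter]; exact ⟨Finset.mem_univ _, hx⟩,
        Prod.ext rfl hxy⟩
    · right
      rw [hP, Finset.mem_filter] at hpP
      push Not at hpP
      obtain ⟨g, hgc, hgH⟩ := hpP (Finset.mem_univ _) hx hy
      rw [hQ, Finset.mem_filter]
      exact ⟨Finset.mem_univ _, hx, hy,
        fix_of_conj_prod hZ H hHa hHcard hHfix hx hy hxy hgH hgc⟩
  have hcard := Finset.card_le_card hsub
  rw [Finset.card_product] at hcard
  have hcard2 : Inv.card * Inv.card ≤ P.card + (Inv.card + Q.card) := by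
    refine le_trans hcard (le_trans (Finset.card_union_le _ _) (Nat.add_le_add_left
      (le_trans (Finset.card_union_le _ _) (Nat.add_le_add_right ?_ _)) _))
    rw [hD]; exact Finset.card_image_le
  have h2 : 2 ≤ h := by omega
  have he1 : 0 < e := hodd.pos
  by_contra hlt'
  push Not at hlt'
  have h9 : (N + 1) * h ≤ e * h := Nat.mul_le_mul_right h hlt'
  rcases Nat.even_or_odd h with heven | hodd2
  · rw [if_pos heven] at hIc
    have hQc : Q.card ≤ (h + 1) * (e * e) := by
      have hsubQ : Q ⊆ (Finset.univ : Finset Ω).biUnion (fun c =>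
          (Inv.filter (fun x => x • c = c)) ×ˢ (Inv.filter (fun x => x • c = c))) := by
        intro p hp
        rw [hQ, Finset.mem_filter] at hp
        obtain ⟨-, hx, hy, c, hxc, hyc⟩ := hp
        rw [Finset.mem_biUnion]
        refine ⟨c, Finset.mem_univ _, ?_⟩
        rw [Finset.mem_product, Finset.mem_filter, Finset.mem_filter, hInv, Finset.mem_filter,
          Finset.mem_filter]
        exact ⟨⟨⟨Finset.mem_univ _, hx⟩, hxc⟩, ⟨⟨Finset.mem_univ _, hy⟩, hyc⟩⟩
      refine le_trans (Finset.card_le_card hsubQ) (le_trans Finset.card_biUnion_le ?_)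
      have hc' : ∀ c ∈ (Finset.univ : Finset Ω), ((Inv.filter (fun x => x • c = c)) ×ˢ
          (Inv.filter (fun x => x • c = c))).card = e * e := by
        intro c _
        have hc := card_inv_fix hZ hab hinv h e hh he hodd heven c
        rw [Nat.card_eq_fintype_card, Fintype.card_subtype] at hc
        have : (Inv.filter (fun x => x • c = c)).card = e := by
          rw [← hc, hInv, Finset.filter_filter]
        rw [Finset.card_product, this]
      rw [Finset.sum_congr rfl hc', Finset.sum_const, Finset.card_univ, hh, smul_eq_mul]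
    have h7 : (e * (h + 1)) * (e * (h + 1)) ≤ (e * (h + 1)) * (N * h + 1 + e) := by
      have := hcard2
      rw [hIc] at this
      calc (e * (h + 1)) * (e * (h + 1)) ≤ P.card + (e * (h + 1) + Q.card) := this
        _ ≤ N * ((h + 1) * h * e) + (e * (h + 1) + (h + 1) * (e * e)) := by gcongr
        _ = (e * (h + 1)) * (N * h + 1 + e) := by ring
    have h8 := Nat.le_of_mul_le_mul_left h7 (Nat.mul_pos he1 (Nat.succ_pos h))
    have h10 : e * (h + 1) = e * h + e := by ring
    have h11 : (N + 1) * h = N * h + h := by ring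
    omega
  · rw [if_neg (Nat.not_even_iff_odd.2 hodd2)] at hIc
    have hQc : Q.card = 0 := by
      rw [Finset.card_eq_zero]
      refine Finset.eq_empty_of_forall_notMem (fun p hp => ?_)
      rw [hQ, Finset.mem_filter] at hp
      obtain ⟨-, hx, -, c, hxc, -⟩ := hp
      exact (inv_fix hZ hab hodd' h hh hx).2 hodd2 c hxc
    have h7 : (e * h) * (e * h) ≤ (e * h) * (N * (h + 1) + 1) := by
      have := hcard2
      rw [hIc, hQc] at this
      calc (e * h) * (e * h) ≤ P.card + (e * h + 0) := this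
        _ ≤ N * ((h + 1) * h * e) + (e * h + 0) := by gcongr
        _ = (e * h) * (N * (h + 1) + 1) := by ring
    have h8 := Nat.le_of_mul_le_mul_left h7 (Nat.mul_pos he1 (by omega))
    have h10 : N * (h + 1) = N * h + N := by ring
    have h11 : (N + 1) * h = N * h + h := by ring
    omega

end Cfsg.Agent.Lib.Helper4.ZassG
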