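import Mathlib
import Cfsg.Agent.Lib.Helper4.ZassG
import Cfsg.Agent.Lib.Helper4.ZassChar
import Cfsg.Agent.S0878

set_option autoImplicit false

/-!
# The Frobenius kernel of a point stabiliser of a Zassenhaus group as a TI subgroup
-/

namespace Cfsg.Agent.Lib.Helper4.ZassK

open MulAction Cfsg Cfsg.Agent.Lib.Helper13 Cfsg.Agent.Lib.Helper4.Zass
  Cfsg.Agent.Lib.Helper4.ZassG

variable {G Ω : Type*} [Group G] [MulAction G Ω]

theorem exists_ne_one_fix (hZ : IsZassenhausGroup G Ω) {a b : Ω} (hab : a ≠ b) :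
    ∃ g : G, g ≠ 1 ∧ g • a = a ∧ g • b = b := by
  obtain ⟨g₀, hg₀, a', b', hab', hga', hgb'⟩ := hZ.2.2.2.1
  obtain ⟨k, hka, hkb⟩ := zass_two_trans hZ hab' hab
  refine ⟨k * g₀ * k⁻¹, ?_, ?_, ?_⟩
  · intro h1
    apply hg₀
    have : g₀ = k⁻¹ * (k * g₀ * k⁻¹) * k := by group
    rw [this, h1]
    group
  · rw [mul_smul, mul_smul, inv_smul_eq_iff.2 hka.symm, hga', hka]
  · rw [mul_smul, mul_smul, inv_smul_eq_iff.2 hkb.symm, hgb', hkb]

/-- `H` is transitive on the points other than `a`. -/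
theorem H_trans [Finite G] [Fintype Ω] {a : Ω} (H : Subgroup G) (hHa : H ≤ stabilizer G a)
    (hHcard : Nat.card H + 1 = Fintype.card Ω)
    (hHfix : ∀ u ∈ H, u ≠ 1 → ∀ c : Ω, u • c = c → c = a) {b c : Ω} (hb : b ≠ a)
    (hc : c ≠ a) : ∃ u ∈ H, u • b = c := by
  classical
  have hcard' : Nat.card {c : Ω // c ≠ a} = Nat.card H := by
    rw [Nat.card_eq_fintype_card, Fintype.card_subtype_compl, Fintype.card_subtype_eq]
    omega
  let φ : H → {c : Ω // c ≠ a} := fun u => ⟨(u : G) • b, fun hh => hb (by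
      have h1 : (u : G) • a = a := hHa u.2
      exact MulAction.injective (u : G) (hh.trans h1.symm))⟩
  have hinj : Function.Injective φ := by
    intro u u' huu
    have e : (u : G) • b = (u' : G) • b := congrArg Subtype.val huu
    have e2 : ((u' : G)⁻¹ * (u : G)) • b = b := by rw [mul_smul, e, inv_smul_smul]
    by_contra hne
    have hne' : (u' : G)⁻¹ * (u : G) ≠ 1 := by
      intro h1
      apply hne
      apply Subtype.ext
      exact (inv_mul_eq_one.mp h1).symm
    exact hb (hHfix _ (H.mul_mem (H.inv_mem u'.2) u.2) hne' b e2)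
  have hbij : Function.Bijective φ :=
    (Nat.bijective_iff_injective_and_card φ).mpr ⟨hinj, hcard'.symm⟩
  obtain ⟨u, hu⟩ := hbij.2 ⟨c, hc⟩
  exact ⟨u, u.2, congrArg Subtype.val hu⟩

/-- Centralisers of non-identity elements of `H` lie in `H`. -/
theorem H_cent [Finite G] [Fintype Ω] (hZ : IsZassenhausGroup G Ω) {a : Ω} (H : Subgroup G)
    (hHa : H ≤ stabilizer G a) (hHcard : Nat.card H + 1 = Fintype.card Ω)
    (hHfix : ∀ u ∈ H, u ≠ 1 → ∀ c : Ω, u • c = c → c = a) :
    ∀ k ∈ H, k ≠ 1 → Subgroup.centralizer ({k} : Set G) ≤ H := by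
  intro k hk hk1 c hc
  have hck : c * k = k * c := (Subgroup.mem_centralizer_iff.1 hc k rfl).symm
  have hka : k • a = a := hHa hk
  by_cases hc1 : c = 1
  · rw [hc1]; exact H.one_mem
  have hca : c • a = a := by
    have : k • (c • a) = c • a := by rw [← mul_smul, ← hck, mul_smul, hka]
    exact hHfix k hk hk1 _ this
  refine Cfsg.Agent.S0878.mem_of_fixedPointFree hZ.2.2.1 a H hHa hHcard hHfix c hca ?_
  intro p hp
  by_contra hpa
  have h1 : k • p ≠ p := fun h => hpa (hHfix k hk hk1 p h)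
  have h2 : k • p ≠ a := fun h => hpa (MulAction.injective k (h.trans hka.symm))
  have h3 : c • (k • p) = k • p := by rw [← mul_smul, hck, mul_smul, hp]
  exact hc1 (zass_three hZ (Ne.symm hpa) (Ne.symm h1) (Ne.symm h2) hca hp h3)

theorem H_norm [Finite G] [Fintype Ω] (hZ : IsZassenhausGroup G Ω) {a : Ω} (H : Subgroup G)
    (hHa : H ≤ stabilizer G a) (hHcard : Nat.card H + 1 = Fintype.card Ω)
    (hHfix : ∀ u ∈ H, u ≠ 1 → ∀ c : Ω, u • c = c → c = a) :
    Subgroup.normalizer (H : Set G) = stabilizer G a :=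
  (Cfsg.Agent.S0878.result hZ a H hHa hHcard hHfix).2

theorem H_TI [Finite G] [Fintype Ω] (hZ : IsZassenhausGroup G Ω) {a : Ω} (H : Subgroup G)
    (hHa : H ≤ stabilizer G a) (hHcard : Nat.card H + 1 = Fintype.card Ω)
    (hHfix : ∀ u ∈ H, u ≠ 1 → ∀ c : Ω, u • c = c → c = a) :
    IsTISubset (H : Set G) := by
  intro g hg x hx hgx
  rw [H_norm hZ H hHa hHcard hHfix] at hg
  exact (Cfsg.Agent.S0878.result hZ a H hHa hHcard hHfix).1 g hg x hx hgx

theorem H_fus [Finite G] [Fintype Ω] (hZ : IsZassenhausGroup G Ω) {a : Ω} (H : Subgroup G)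
    (hHa : H ≤ stabilizer G a) (hHcard : Nat.card H + 1 = Fintype.card Ω)
    (hHfix : ∀ u ∈ H, u ≠ 1 → ∀ c : Ω, u • c = c → c = a) :
    ∀ k ∈ H, k ≠ 1 → ∀ g : G, g * k * g⁻¹ ∈ Subgroup.normalizer (H : Set G) →
      g ∈ Subgroup.normalizer (H : Set G) := by
  intro k hk hk1 g hg
  rw [H_norm hZ H hHa hHcard hHfix] at hg ⊢
  rw [mem_stabilizer_iff] at hg ⊢
  have h1 : k • (g⁻¹ • a) = g⁻¹ • a := by
    rw [mul_smul, mul_smul] at hg
    exact (smul_eq_iff_eq_inv_smul g).1 hg
  have h2 := hHfix k hk hk1 _ h1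
  exact (inv_smul_eq_iff.1 h2).symm

/-- The order of a point stabiliser. -/
theorem card_stab [Finite G] [Fintype Ω] (hZ : IsZassenhausGroup G Ω) {a b : Ω} (hab : a ≠ b)
    (h e : ℕ) (hh : Fintype.card Ω = h + 1)
    (he : Nat.card ↥(stabilizer G a ⊓ stabilizer G b : Subgroup G) = e) :
    Nat.card (stabilizer G a) = h * e := by
  have hG := card_G hZ hab h e hh he
  have horb : orbit G a = Set.univ := by
    ext y
    simp only [Set.mem_univ, iff_true, mem_orbit_iff]
    by_cases hay : a = y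
    · exact ⟨1, by rw [one_smul, hay]⟩
    · obtain ⟨g, hg, -⟩ := zass_two_trans hZ hay (Ne.symm hay)
      exact ⟨g, hg⟩
  have hidx : (stabilizer G a).index = h + 1 := by
    rw [MulAction.index_stabilizer, horb, Set.ncard_univ, Nat.card_eq_fintype_card, hh]
  have hmul := Subgroup.card_mul_index (stabilizer G a)
  rw [hidx, hG] at hmul
  have h5 : Nat.card (stabilizer G a) * (h + 1) = (h * e) * (h + 1) := by
    rw [hmul]; ring
  exact Nat.eq_of_mul_eq_mul_right (Nat.succ_pos h) h5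

/-- Sums of class functions over the stabiliser of `a` outside `H`. -/
theorem sum_stab [Fintype G] [Fintype Ω] (hZ : IsZassenhausGroup G Ω) {a b : Ω} (hab : a ≠ b)
    (H : Subgroup G) (hHa : H ≤ stabilizer G a) (hHcard : Nat.card H + 1 = Fintype.card Ω)
    (hHfix : ∀ u ∈ H, u ≠ 1 → ∀ c : Ω, u • c = c → c = a)
    (F : G → ℂ) (hF : ∀ g x : G, F (x * g * x⁻¹) = F g) :
    ∑ g : G, Set.indicator {g : G | g ∈ stabilizer G a ∧ g ∉ H} F g
      = (Nat.card H : ℂ) * ∑ g : G, Set.indicator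
          {g : G | g ∈ (stabilizer G a ⊓ stabilizer G b : Subgroup G) ∧ g ≠ 1} F g := by
  classical
  simp only [Set.indicator_apply, Set.mem_setOf_eq]
  rw [← Finset.sum_filter, ← Finset.sum_filter]
  obtain ⟨SH, hSH⟩ : ∃ SH : Finset G, SH = Finset.univ.filter (fun g => g ∈ H) := ⟨_, rfl⟩
  obtain ⟨SE, hSE⟩ : ∃ SE : Finset G, SE = Finset.univ.filter
      (fun g => g ∈ (stabilizer G a ⊓ stabilizer G b : Subgroup G) ∧ g ≠ 1) := ⟨_, rfl⟩
  have hSHcard : SH.card = Nat.card H := by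
    rw [hSH, Nat.card_eq_fintype_card, Fintype.card_subtype]
  have hconj1 : ∀ u y : G, y ≠ 1 → u * y * u⁻¹ ≠ 1 := by
    intro u y hy h1
    apply hy
    have : y = u⁻¹ * (u * y * u⁻¹) * u := by group
    rw [this, h1]
    group
  have h1 : ∑ g ∈ Finset.univ.filter (fun g : G => g ∈ stabilizer G a ∧ g ∉ H), F g
      = ∑ p ∈ SH ×ˢ SE, F p.2 := by
    symm
    refine Finset.sum_bij (fun p _ => p.1 * p.2 * p.1⁻¹) ?_ ?_ ?_ ?_
    · intro p hp
      rw [Finset.mem_product, hSH, hSE, Finset.mem_filter, Finset.mem_filter] at hp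
      obtain ⟨⟨-, hu⟩, -, hy, hy1⟩ := hp
      rw [Finset.mem_filter]
      refine ⟨Finset.mem_univ _, ?_, ?_⟩
      · exact (stabilizer G a).mul_mem ((stabilizer G a).mul_mem (hHa hu)
          (Subgroup.mem_inf.1 hy).1) ((stabilizer G a).inv_mem (hHa hu))
      · intro hmem
        have hfixb : (p.1 * p.2 * p.1⁻¹) • (p.1 • b) = p.1 • b := by
          rw [mul_smul, mul_smul, inv_smul_smul, (mem_stabilizer_iff.1 (Subgroup.mem_inf.1 hy).2)]
        have h2 := hHfix _ hmem (hconj1 p.1 p.2 hy1) _ hfixb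
        have hua : p.1 • a = a := hHa hu
        exact hab (MulAction.injective p.1 (hua.trans h2.symm))
    · intro p hp q hq hpq
      rw [Finset.mem_product, hSH, hSE, Finset.mem_filter, Finset.mem_filter] at hp hq
      obtain ⟨⟨-, hu⟩, -, hy, hy1⟩ := hp
      obtain ⟨⟨-, hu'⟩, -, hy', hy1'⟩ := hq
      have hpq' : p.1 * p.2 * p.1⁻¹ = q.1 * q.2 * q.1⁻¹ := hpq
      have hua : p.1 • a = a := hHa hu
      have hua' : q.1 • a = a := hHa hu'
      have hn1 : p.1 * p.2 * p.1⁻¹ ≠ 1 := hconj1 p.1 p.2 hy1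
      have hfa : (p.1 * p.2 * p.1⁻¹) • a = a := by
        rw [mul_smul, mul_smul, inv_smul_eq_iff.2 hua.symm,
          (mem_stabilizer_iff.1 (Subgroup.mem_inf.1 hy).1), hua]
      have hfb : (p.1 * p.2 * p.1⁻¹) • (p.1 • b) = p.1 • b := by
        rw [mul_smul, mul_smul, inv_smul_smul, (mem_stabilizer_iff.1 (Subgroup.mem_inf.1 hy).2)]
      have hfb' : (p.1 * p.2 * p.1⁻¹) • (q.1 • b) = q.1 • b := by
        rw [hpq', mul_smul, mul_smul, inv_smul_smul,
          (mem_stabilizer_iff.1 (Subgroup.mem_inf.1 hy').2)]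
      have hpb : p.1 • b ≠ a := fun h => hab (MulAction.injective p.1 (hua.trans h.symm))
      have hqb : q.1 • b ≠ a := fun h => hab (MulAction.injective q.1 (hua'.trans h.symm))
      have heq : p.1 • b = q.1 • b := by
        by_contra hne
        exact hn1 (zass_three hZ (Ne.symm hpb) hne (Ne.symm hqb) hfa hfb hfb')
      have h3 : q.1⁻¹ * p.1 = 1 := by
        by_contra hne
        have h4 : (q.1⁻¹ * p.1) • b = b := by rw [mul_smul, heq, inv_smul_smul]
        exact hab (hHfix _ (H.mul_mem (H.inv_mem hu') hu) hne b h4).symm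
      have h5 : p.1 = q.1 := (inv_mul_eq_one.1 h3).symm
      refine Prod.ext h5 ?_
      rw [h5] at hpq'
      exact mul_left_cancel (mul_right_cancel hpq')
    · intro n hn
      rw [Finset.mem_filter] at hn
      obtain ⟨-, hna, hnH⟩ := hn
      have hna' : n • a = a := hna
      have hex : ∃ c : Ω, n • c = c ∧ c ≠ a := by
        by_contra hno
        push Not at hno
        exact hnH (Cfsg.Agent.S0878.mem_of_fixedPointFree hZ.2.2.1 a H hHa hHcard hHfix n
          hna' hno)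
      obtain ⟨c, hnc, hca⟩ := hex
      obtain ⟨u, hu, huc⟩ := H_trans H hHa hHcard hHfix (Ne.symm hab) hca
      have hua : u • a = a := hHa hu
      refine ⟨(u, u⁻¹ * n * u), ?_, ?_⟩
      · rw [Finset.mem_product, hSH, hSE, Finset.mem_filter, Finset.mem_filter]
        refine ⟨⟨Finset.mem_univ _, hu⟩, Finset.mem_univ _, ?_, ?_⟩
        · rw [Subgroup.mem_inf, mem_stabilizer_iff, mem_stabilizer_iff]
          constructor
          · rw [mul_smul, mul_smul, hua, hna', inv_smul_eq_iff, hua]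
          · rw [mul_smul, mul_smul, huc, hnc, inv_smul_eq_iff, huc]
        · intro h1
          apply hnH
          have h1' : u⁻¹ * n * u = 1 := h1
          have h2 : n = u * (u⁻¹ * n * u) * u⁻¹ := by group
          rw [h2, h1', mul_one, mul_inv_cancel]
          exact H.one_mem
      · show u * (u⁻¹ * n * u) * u⁻¹ = n
        group
    · intro p _
      exact (hF p.2 p.1).symm
  rw [h1, Finset.sum_product]
  show ∑ x ∈ SH, ∑ y ∈ SE, F y = _
  rw [Finset.sum_const, hSHcard, nsmul_eq_mul, hSE]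

end Cfsg.Agent.Lib.Helper4.ZassK
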