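import Mathlib
import Cfsg.Agent.Lib.Helper4.ZassK

set_option autoImplicit false

/-!
# Feit's inequality for Zassenhaus groups in which the swapping elements invert `E`
-/

namespace Cfsg.Agent.Lib.Helper4.ZassF

open MulAction Cfsg Cfsg.Agent.Lib.Helper13 Cfsg.Agent.Lib.Helper4.Zass
  Cfsg.Agent.Lib.Helper4.ZassG Cfsg.Agent.Lib.Helper4.ZassK

variable {G Ω : Type*} [Group G] [MulAction G Ω]

theorem feit_of_swapInv [Finite G] [Fintype Ω] (hZ : IsZassenhausGroup G Ω) {a b : Ω}
    (hab : a ≠ b) (hinv : SwapInv G Ω a b) (h e : ℕ) (hh : Fintype.card Ω = h + 1)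
    (he : Nat.card ↥(stabilizer G a ⊓ stabilizer G b : Subgroup G) = e) (hodd : Odd e)
    (H : Subgroup G) (hHa : H ≤ stabilizer G a) (hHcard : Nat.card H + 1 = Fintype.card Ω)
    (hHfix : ∀ u ∈ H, u ≠ 1 → ∀ c : Ω, u • c = c → c = a) :
    h - 1 ≤ 2 * e ∨ (IsPGroup 2 H ∧ (∃ u v : H, u * v ≠ v * u) ∧
      (commutator H).index ≤ 4 * e ^ 2 + 1) := by
  classical
  by_cases hle : h - 1 ≤ 2 * e
  · exact Or.inl hle
  have hlt : 2 * e < h - 1 := by omega
  haveI : Fintype G := Fintype.ofFinite G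
  haveI : Fintype ↥(Subgroup.normalizer (H : Set G)) := Fintype.ofFinite _
  have hHh : Nat.card H = h := by omega
  have hh2 : 2 ≤ h := by omega
  have hK1 : H ≠ ⊥ := by
    intro hbot
    rw [hbot, Subgroup.card_bot] at hHh
    omega
  have hnorm := H_norm hZ H hHa hHcard hHfix
  have hTI := H_TI hZ H hHa hHcard hHfix
  have hC := H_cent hZ H hHa hHcard hHfix
  have hfus := H_fus hZ H hHa hHcard hHfix
  have hNcard : Nat.card ↥(Subgroup.normalizer (H : Set G)) = h * e := by
    rw [hnorm]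
    exact card_stab hZ hab h e hh he
  have hG := card_G hZ hab h e hh he
  have he2 : 2 ≤ e := by
    obtain ⟨g, hg1, hga, hgb⟩ := exists_ne_one_fix hZ hab
    have hne : (stabilizer G a ⊓ stabilizer G b : Subgroup G) ≠ ⊥ := by
      intro hbot
      have hmem : g ∈ (stabilizer G a ⊓ stabilizer G b : Subgroup G) :=
        Subgroup.mem_inf.2 ⟨hga, hgb⟩
      rw [hbot, Subgroup.mem_bot] at hmem
      exact hg1 hmem
    have h1 := (Subgroup.one_lt_card_iff_ne_bot _).2 hne
    omega
  have hlt' : H < Subgroup.normalizer (H : Set G) := by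
    refine lt_of_le_of_ne Subgroup.le_normalizer ?_
    intro heq
    have h1 : Nat.card H = Nat.card ↥(Subgroup.normalizer (H : Set G)) :=
      congrArg (fun S : Subgroup G => Nat.card S) heq
    rw [hHh, hNcard] at h1
    have h2 : h * 2 ≤ h * e := Nat.mul_le_mul_left h he2
    omega
  have hidx : (H.subgroupOf (Subgroup.normalizer (H : Set G))).index = e := by
    have h1 := Cfsg.Agent.Lib.Helper25.card_sector_normalizer H
    have h2 : Cfsg.Agent.Lib.Helper25.secE H * h = e * h := by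
      rw [← hHh, ← h1, hNcard, hHh, mul_comm]
    exact Nat.eq_of_mul_eq_mul_right (by omega : 0 < h) h2
  have hfrob : ∀ k ∈ H, k ≠ 1 →
      Subgroup.normalizer (H : Set G) ⊓ Subgroup.centralizer ({k} : Set G) ≤ H :=
    fun k hk hk1 => inf_le_right.trans (hC k hk hk1)
  have hEodd : Odd (Nat.card ↥(stabilizer G a ⊓ stabilizer G b : Subgroup G)) := by
    rw [he]; exact hodd
  have hEinv : ∀ y ∈ (stabilizer G a ⊓ stabilizer G b : Subgroup G), IsConj y y⁻¹ := by
    obtain ⟨s, hsa, hsb⟩ := zass_two_trans hZ hab (Ne.symm hab)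
    exact fun y hy => isConj_iff.2 ⟨s, hinv s hsa hsb y hy⟩
  have hsum : ∀ F : G → ℂ, (∀ g x : G, F (x * g * x⁻¹) = F g) →
      ∑ g : G, Set.indicator {g : G | g ∈ Subgroup.normalizer (H : Set G) ∧ g ∉ H} F g
        = (h : ℂ) * ∑ g : G, Set.indicator
          {g : G | g ∈ (stabilizer G a ⊓ stabilizer G b : Subgroup G) ∧ g ≠ 1} F g := by
    intro F hF
    rw [hnorm, ← hHh]
    exact sum_stab hZ hab H hHa hHcard hHfix F hF
  have hA := classes_avoiding hZ hab hinv h e hh he hodd hlt H hHa hHcard hHfix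
  have key : IsCoherent {χ : ↥(Subgroup.normalizer (H : Set G)) → ℂ |
        IsIrrCharacter ↥(Subgroup.normalizer (H : Set G)) χ ∧
        ∃ k : ↥(Subgroup.normalizer (H : Set G)), (k : G) ∈ H ∧ χ k ≠ χ 1} {1}ᶜ
      (fun α => indFun (Subgroup.normalizer (H : Set G)) α) → False := by
    intro hcoh
    have hcoh' : IsCoherent
        (inducedIrrAbove (H.subgroupOf (Subgroup.normalizer (H : Set G))) ⊥) {1}ᶜ
        (fun α : ↥(Subgroup.normalizer (H : Set G)) → ℂ =>
          Cfsg.indFun (Subgroup.normalizer (H : Set G)) α) := by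
      rw [Cfsg.Agent.Lib.Helper25.sector_induced_eq H hlt' hTI hfrob]
      exact hcoh
    obtain ⟨P⟩ := Cfsg.Agent.Lib.Helper25.exists_sectorPkg' H hlt' hK1 hTI hfrob hcoh'
    exact hle (Cfsg.Agent.Lib.Helper4.ZassChar.feit_count H P hTI hC hfus
      (stabilizer G a ⊓ stabilizer G b : Subgroup G) hEodd hEinv h e hHh hh2 he2 hNcard hG
      hsum hA)
  by_cases hab' : ∀ x ∈ H, ∀ y ∈ H, x * y = y * x
  · rcases Cfsg.Agent.Lib.Helper25.tifn_abelian H hK1 hTI hlt' hC hab' with h1 | hcoh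
    · exfalso
      obtain ⟨-, h2, -⟩ := h1
      rw [hidx, hHh] at h2
      omega
    · exact absurd hcoh key
  · rcases Cfsg.Agent.Lib.Helper25.feit_sibley H hK1 hTI hlt' hC with h1 | h2 | hcoh
    · exfalso
      obtain ⟨-, h2, -⟩ := h1
      rw [hidx, hHh] at h2
      omega
    · right
      obtain ⟨h21, h22⟩ := h2
      refine ⟨IsPGroup.of_card h21, ?_, ?_⟩
      · push Not at hab'
        obtain ⟨x, hx, y, hy, hxy⟩ := hab'
        exact ⟨⟨x, hx⟩, ⟨y, hy⟩, fun hc => hxy (congrArg Subtype.val hc)⟩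
      · have hcomm : (⁅H, H⁆.subgroupOf H) = commutator H := by
          rw [← Subgroup.map_subtype_commutator H]
          exact Subgroup.comap_map_eq_self_of_injective H.subtype_injective _
        rw [← hcomm]
        rw [hidx] at h22
        exact le_trans h22.le (Nat.le_succ _)
    · exact absurd hcoh key

end Cfsg.Agent.Lib.Helper4.ZassF
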