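import Mathlib
import Cfsg.Agent.Lib.Helper4.ZassF
import Cfsg.Agent.Lib.Helper25.Zass1
import Cfsg.Agent.S0035

set_option autoImplicit false

/-!
# Normal subgroups of odd prime power index in Zassenhaus groups
-/

namespace Cfsg.Agent.Lib.Helper4.ZassM

open MulAction Cfsg Cfsg.Agent.Lib.Helper13 Cfsg.Agent.Lib.Helper4.Zass
  Cfsg.Agent.Lib.Helper4.ZassG Cfsg.Agent.Lib.Helper4.ZassK

variable {G Ω : Type*} [Group G] [MulAction G Ω]

/-- Every prime divisor of the order of the two-point stabiliser divides `h - 1`. -/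
theorem prime_dvd_sub_one [Finite G] [Fintype Ω] (hZ : IsZassenhausGroup G Ω) {a b : Ω}
    (hab : a ≠ b) (h e : ℕ) (hh : Fintype.card Ω = h + 1)
    (he : Nat.card ↥(stabilizer G a ⊓ stabilizer G b : Subgroup G) = e)
    {r : ℕ} (hr : r.Prime) (hre : r ∣ e) : r ∣ h - 1 := by
  classical
  haveI : Fact r.Prime := ⟨hr⟩
  obtain ⟨x, hx⟩ := exists_prime_orderOf_dvd_card'
    (G := ↥(stabilizer G a ⊓ stabilizer G b : Subgroup G)) r (by rw [he]; exact hre)
  have hxa : (x : G) • a = a := (Subgroup.mem_inf.1 x.2).1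
  have hxb : (x : G) • b = b := (Subgroup.mem_inf.1 x.2).2
  have hxo : orderOf (x : G) = r := by rw [Subgroup.orderOf_coe]; exact hx
  have hx1 : (x : G) ≠ 1 := by
    intro h1
    rw [h1, orderOf_one] at hxo
    exact hr.one_lt.ne hxo
  have hP : IsPGroup r (Subgroup.zpowers (x : G)) := by
    apply IsPGroup.of_card (n := 1)
    rw [Nat.card_zpowers, hxo, pow_one]
  have hmod := hP.card_modEq_card_fixedPoints Ω
  have hfix : fixedPoints (Subgroup.zpowers (x : G)) Ω = {a, b} := by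
    ext c
    constructor
    · intro hc
      have hxc : (x : G) • c = c := hc ⟨(x : G), Subgroup.mem_zpowers _⟩
      by_contra hcab
      rw [Set.mem_insert_iff, Set.mem_singleton_iff] at hcab
      push Not at hcab
      exact hx1 (zass_three hZ hab (Ne.symm hcab.2) (Ne.symm hcab.1) hxa hxb hxc)
    · intro hc
      rw [Set.mem_insert_iff, Set.mem_singleton_iff] at hc
      rintro ⟨g, hg⟩
      have hle : Subgroup.zpowers (x : G) ≤ stabilizer G c := by
        rw [Subgroup.zpowers_le]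
        rcases hc with rfl | rfl
        · exact hxa
        · exact hxb
      exact hle hg
  rw [hfix, Nat.card_eq_fintype_card, hh] at hmod
  have h2 : Nat.card ↥({a, b} : Set Ω) = 2 := by
    rw [Nat.card_coe_set_eq, Set.ncard_pair hab]
  rw [h2] at hmod
  have h4 : 1 ≤ h := by
    rcases Nat.eq_zero_or_pos h with h0 | h0
    · exfalso
      have h5 : Fintype.card Ω = 1 := by rw [hh, h0]
      exact hab (Fintype.card_le_one_iff.1 h5.le a b)
    · exact h0
  have h5 := (Nat.modEq_iff_dvd' (by omega : 2 ≤ h + 1)).1 hmod.symm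
  have h6 : h + 1 - 2 = h - 1 := by omega
  rwa [h6] at h5

/-- A subgroup of order prime to the index of a normal subgroup lies in it. -/
theorem le_of_coprime_index [Finite G] (M : Subgroup G) [M.Normal] (H : Subgroup G)
    (hcop : Nat.Coprime (Nat.card H) M.index) : H ≤ M := by
  intro u hu
  rw [← QuotientGroup.eq_one_iff (N := M)]
  have h1 : orderOf (QuotientGroup.mk' M u) ∣ orderOf u := orderOf_map_dvd _ u
  have h2 : orderOf u ∣ Nat.card H := Subgroup.orderOf_dvd_natCard H hu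
  have h3 : orderOf (QuotientGroup.mk' M u) ∣ M.index := by
    rw [Subgroup.index_eq_card]
    exact orderOf_dvd_natCard _
  have h4 : orderOf (QuotientGroup.mk' M u) = 1 := by
    have h5 := Nat.dvd_gcd (h1.trans h2) h3
    rw [Nat.Coprime.gcd_eq_one hcop] at h5
    exact Nat.dvd_one.1 h5
  exact orderOf_eq_one_iff.1 h4

/-- A normal subgroup containing `H` is doubly transitive. -/
theorem sub_two_trans [Finite G] [Fintype Ω] (hZ : IsZassenhausGroup G Ω) {a : Ω}
    (H : Subgroup G) (hHa : H ≤ stabilizer G a) (hHcard : Nat.card H + 1 = Fintype.card Ω)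
    (hHfix : ∀ u ∈ H, u ≠ 1 → ∀ c : Ω, u • c = c → c = a)
    (M : Subgroup G) [hM : M.Normal] (hHM : H ≤ M) (h3 : 3 ≤ Fintype.card Ω)
    {c d c' d' : Ω} (hcd : c ≠ d) (hcd' : c' ≠ d') :
    ∃ m ∈ M, m • c = c' ∧ m • d = d' := by
  classical
  have T1 : ∀ x y z : Ω, y ≠ x → z ≠ x → ∃ m ∈ M, m • x = x ∧ m • y = z := by
    intro x y z hy hz
    obtain ⟨g, hg⟩ : ∃ g : G, g • a = x := by
      by_cases hax : a = x
      · exact ⟨1, by rw [one_smul, hax]⟩
      · obtain ⟨g, hg, -⟩ := zass_two_trans hZ hax (Ne.symm hax)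
        exact ⟨g, hg⟩
    have hy' : g⁻¹ • y ≠ a := fun h => hy (by rw [← hg, ← h, smul_inv_smul])
    have hz' : g⁻¹ • z ≠ a := fun h => hz (by rw [← hg, ← h, smul_inv_smul])
    obtain ⟨u, hu, huy⟩ := H_trans H hHa hHcard hHfix hy' hz'
    refine ⟨g * u * g⁻¹, hM.conj_mem u (hHM hu) g, ?_, ?_⟩
    · rw [mul_smul, mul_smul, ← hg, inv_smul_smul, (hHa hu : u • a = a)]
    · rw [mul_smul, mul_smul, huy, smul_inv_smul]
  obtain ⟨m₁, hm₁, hm₁c⟩ : ∃ m₁ ∈ M, m₁ • c = c' := by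
    by_cases hcc : c = c'
    · exact ⟨1, M.one_mem, by rw [one_smul, hcc]⟩
    · obtain ⟨z, hzc, hzc'⟩ : ∃ z : Ω, z ≠ c ∧ z ≠ c' := by
        by_contra hno
        push Not at hno
        have h4 : Fintype.card Ω ≤ 2 := by
          have hsub : (Finset.univ : Finset Ω) ⊆ {c, c'} := by
            intro z _
            by_cases hz : z = c
            · simp [hz]
            · simp [hno z hz]
          calc Fintype.card Ω = (Finset.univ : Finset Ω).card := Finset.card_univ.symm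
            _ ≤ ({c, c'} : Finset Ω).card := Finset.card_le_card hsub
            _ ≤ 2 := Finset.card_le_two
        omega
      obtain ⟨m, hm, -, hmc⟩ := T1 z c c' (Ne.symm hzc) (Ne.symm hzc')
      exact ⟨m, hm, hmc⟩
  have hd₁ : m₁ • d ≠ c' := fun h => hcd (MulAction.injective m₁ (hm₁c.trans h.symm))
  obtain ⟨m₂, hm₂, hm₂c, hm₂d⟩ := T1 c' (m₁ • d) d' hd₁ (Ne.symm hcd')
  exact ⟨m₂ * m₁, M.mul_mem hm₂ hm₁, by rw [mul_smul, hm₁c, hm₂c], by rw [mul_smul, hm₂d]⟩

/-- A regular normal subgroup of a normal subgroup `M` would be normal in `G`. -/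
theorem no_reg_sub [Finite G] [Fintype Ω] (hZ : IsZassenhausGroup G Ω) (M : Subgroup G)
    [hM : M.Normal] (a : Ω)
    (hcop : Nat.Coprime (Fintype.card Ω) (Nat.card (stabilizer G a)))
    (R : Subgroup ↥M) (hRn : R.Normal) (hRt : IsPretransitive ↥R Ω)
    (hRs : ∀ x : Ω, stabilizer ↥R x = ⊥) : False := by
  classical
  haveI : Nonempty Ω := ⟨a⟩
  have hRcard : Nat.card R = Fintype.card Ω := by
    have h1 := MulAction.index_stabilizer_of_transitive (G := ↥R) (x := a)
    rw [hRs a, Subgroup.index_bot, Nat.card_eq_fintype_card (α := Ω)] at h1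
    exact h1
  have key : ∀ g : G, R.map (MulAut.conjNormal g : ↥M ≃* ↥M).toMonoidHom ≤ R := by
    intro g
    obtain ⟨R₂, hR₂⟩ : ∃ R₂, R₂ = R.map (MulAut.conjNormal g : ↥M ≃* ↥M).toMonoidHom :=
      ⟨_, rfl⟩
    rw [← hR₂]
    haveI : R₂.Normal := by
      rw [hR₂]
      exact hRn.map _ (MulEquiv.surjective _)
    have hcard₂ : Nat.card R₂ = Nat.card R := by
      rw [hR₂]
      exact Subgroup.card_map_of_injective (MulEquiv.injective _)
    obtain ⟨S, hS⟩ : ∃ S, S = R₂ ⊔ R := ⟨_, rfl⟩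
    have hRS : R ≤ S := by rw [hS]; exact le_sup_right
    have h1 : Nat.card S = Nat.card R * R.relIndex S := by
      have h0 := Subgroup.relIndex_mul_relIndex ⊥ R S bot_le hRS
      rw [Subgroup.relIndex_bot_left, Subgroup.relIndex_bot_left] at h0
      exact h0.symm
    have h2 : R.relIndex S ∣ Fintype.card Ω := by
      rw [hS, Subgroup.relIndex_sup_right, ← hRcard, ← hcard₂]
      exact Subgroup.relIndex_dvd_card R R₂
    haveI : IsPretransitive ↥S Ω := ⟨fun x y => by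
      obtain ⟨r, hr⟩ := hRt.exists_smul_eq x y
      exact ⟨⟨r.1, hRS r.2⟩, hr⟩⟩
    have h3 : Nat.card (stabilizer ↥S a) * Fintype.card Ω = Nat.card S := by
      have h0 := Subgroup.card_mul_index (stabilizer ↥S a)
      rw [MulAction.index_stabilizer_of_transitive, Nat.card_eq_fintype_card (α := Ω)] at h0
      exact h0
    have h4 : Nat.card (stabilizer ↥S a) ∣ Nat.card (stabilizer G a) := by
      have hinj : Function.Injective (M.subtype.comp S.subtype) :=
        fun x y hxy => Subtype.ext (Subtype.ext hxy)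
      rw [← Subgroup.card_map_of_injective hinj (K := stabilizer ↥S a)]
      apply Subgroup.card_dvd_of_le
      rintro _ ⟨s, hs, rfl⟩
      exact hs
    have h5 : Nat.card (stabilizer ↥S a) = R.relIndex S := by
      rw [h1, hRcard] at h3
      have h6 : Nat.card (stabilizer ↥S a) * Fintype.card Ω
          = R.relIndex S * Fintype.card Ω := by rw [h3, mul_comm]
      exact Nat.eq_of_mul_eq_mul_right Fintype.card_pos h6
    have h6 : Nat.card (stabilizer ↥S a) = 1 := by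
      have h7 := Nat.dvd_gcd (h5 ▸ h2) h4
      rw [Nat.Coprime.gcd_eq_one hcop] at h7
      exact Nat.dvd_one.1 h7
    have h7 : Nat.card S = Nat.card R := by rw [← h3, h6, one_mul, hRcard]
    have h8 : R = S := Subgroup.eq_of_le_of_card_ge hRS (by rw [h7])
    rw [h8, hS]
    exact le_sup_left
  obtain ⟨R', hR'⟩ : ∃ R' : Subgroup G, R' = R.map M.subtype := ⟨_, rfl⟩
  have hR'n : R'.Normal := by
    constructor
    intro r hr g
    rw [hR', Subgroup.mem_map] at hr ⊢
    obtain ⟨r₀, hr₀, rfl⟩ := hr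
    exact ⟨MulAut.conjNormal g r₀, key g (Subgroup.mem_map_of_mem _ hr₀), rfl⟩
  haveI : IsPretransitive ↥R' Ω := ⟨fun x y => by
    obtain ⟨r, hr⟩ := hRt.exists_smul_eq x y
    exact ⟨⟨((r : ↥M) : G), by rw [hR']; exact Subgroup.mem_map_of_mem _ r.2⟩, hr⟩⟩
  obtain ⟨x, hx⟩ := hZ.2.2.2.2 R' hR'n inferInstance
  apply hx
  rw [Subgroup.eq_bot_iff_forall]
  intro r hr
  have hmem : ∀ y : G, y ∈ R' → y ∈ R.map M.subtype := fun y hy => by rw [← hR']; exact hy
  have hr' := hmem (r : G) r.2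
  rw [Subgroup.mem_map] at hr'
  obtain ⟨r₀, hr₀, hr₀eq⟩ := hr'
  have h1 : (⟨r₀, hr₀⟩ : ↥R) ∈ stabilizer ↥R x := by
    rw [mem_stabilizer_iff]
    have h2 : (r : G) • x = x := hr
    rw [← hr₀eq] at h2
    exact h2
  rw [hRs x, Subgroup.mem_bot] at h1
  have h2 : r₀ = 1 := congrArg Subtype.val h1
  apply Subtype.ext
  rw [← hr₀eq, h2]
  rfl

/-- A normal subgroup containing `H` with non-trivial two-point stabiliser is again a
Zassenhaus group. -/
theorem sub_zass [Finite G] [Fintype Ω] (hZ : IsZassenhausGroup G Ω) {a b : Ω} (hab : a ≠ b)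
    (H : Subgroup G) (hHa : H ≤ stabilizer G a) (hHcard : Nat.card H + 1 = Fintype.card Ω)
    (hHfix : ∀ u ∈ H, u ≠ 1 → ∀ c : Ω, u • c = c → c = a)
    (M : Subgroup G) [hM : M.Normal] (hHM : H ≤ M) (h3 : 3 ≤ Fintype.card Ω)
    (hcop : Nat.Coprime (Fintype.card Ω) (Nat.card (stabilizer G a)))
    (hE : (stabilizer ↥M a ⊓ stabilizer ↥M b : Subgroup ↥M) ≠ ⊥) :
    IsZassenhausGroup ↥M Ω := by
  refine ⟨?_, ?_, ?_, ?_, ?_⟩
  · haveI := hZ.1
    exact ⟨fun {m₁ m₂} h => Subtype.ext (FaithfulSMul.eq_of_smul_eq_smul (M := G) (fun x => h x))⟩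
  · rw [MulAction.is_two_pretransitive_iff]
    intro c d c' d' hcd hcd'
    obtain ⟨m, hm, h1, h2⟩ := sub_two_trans hZ H hHa hHcard hHfix M hHM h3 hcd hcd'
    exact ⟨⟨m, hm⟩, h1, h2⟩
  · intro m x y z hxy hyz hxz hx hy hz
    exact Subtype.ext (hZ.2.2.1 (m : G) x y z hxy hyz hxz hx hy hz)
  · obtain ⟨⟨m, hm⟩, hm1⟩ := (Subgroup.ne_bot_iff_exists_ne_one).1 hE
    exact ⟨m, fun h => hm1 (Subtype.ext h), a, b, hab, (Subgroup.mem_inf.1 hm).1,
      (Subgroup.mem_inf.1 hm).2⟩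
  · intro R hRn hRt
    by_contra hno
    push Not at hno
    exact no_reg_sub hZ M a hcop R hRn hRt hno

/-- A normal subgroup containing `H` has a non-trivial two-point stabiliser. -/
theorem sub_frob_false [Finite G] [Fintype Ω] (hZ : IsZassenhausGroup G Ω) {a b : Ω}
    (hab : a ≠ b)
    (H : Subgroup G) (hHa : H ≤ stabilizer G a) (hHcard : Nat.card H + 1 = Fintype.card Ω)
    (hHfix : ∀ u ∈ H, u ≠ 1 → ∀ c : Ω, u • c = c → c = a)
    (M : Subgroup G) [hM : M.Normal] (hHM : H ≤ M) (h3 : 3 ≤ Fintype.card Ω)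
    (hE : (stabilizer ↥M a ⊓ stabilizer ↥M b : Subgroup ↥M) = ⊥) : False := by
  classical
  obtain ⟨H₁, hH₁⟩ : ∃ H₁ : Subgroup ↥M, H₁ = H.subgroupOf M := ⟨_, rfl⟩
  have memH₁ : ∀ m : ↥M, m ∈ H₁ ↔ (m : G) ∈ H := fun m => by
    rw [hH₁, Subgroup.mem_subgroupOf]
  have hstab : ∀ m : ↥M, (m : G) • a = a → m ∈ H₁ := by
    intro m hma
    rw [memH₁]
    by_contra hmH
    have hex : ∃ c : Ω, (m : G) • c = c ∧ c ≠ a := by
      by_contra hno
      push Not at hno
      exact hmH (Cfsg.Agent.S0878.mem_of_fixedPointFree hZ.2.2.1 a H hHa hHcard hHfix (m : G)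
        hma hno)
    obtain ⟨c, hmc, hca⟩ := hex
    obtain ⟨u, hu, huc⟩ := H_trans H hHa hHcard hHfix (Ne.symm hab) hca
    have hua : u • a = a := hHa hu
    have hmem : ((⟨u, hHM hu⟩ : ↥M)⁻¹ * m * ⟨u, hHM hu⟩ : ↥M) ∈
        (stabilizer ↥M a ⊓ stabilizer ↥M b : Subgroup ↥M) := by
      rw [Subgroup.mem_inf, mem_stabilizer_iff, mem_stabilizer_iff]
      constructor
      · show (u⁻¹ * (m : G) * u) • a = a
        rw [mul_smul, mul_smul, hua, hma, inv_smul_eq_iff, hua]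
      · show (u⁻¹ * (m : G) * u) • b = b
        rw [mul_smul, mul_smul, huc, hmc, inv_smul_eq_iff, huc]
    rw [hE, Subgroup.mem_bot] at hmem
    have hm1 : m = 1 := by
      have h1 : m = (⟨u, hHM hu⟩ : ↥M) * ((⟨u, hHM hu⟩ : ↥M)⁻¹ * m * ⟨u, hHM hu⟩)
          * (⟨u, hHM hu⟩ : ↥M)⁻¹ := by group
      rw [h1, hmem]
      group
    apply hmH
    rw [hm1]
    exact H.one_mem
  have htrans : ∀ x : Ω, ∃ m : ↥M, (m : G) • a = x := by
    intro x
    by_cases hax : a = x
    · exact ⟨1, by rw [OneMemClass.coe_one, one_smul, hax]⟩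
    · obtain ⟨m, hm, h1, -⟩ := sub_two_trans hZ H hHa hHcard hHfix M hHM h3 hax (Ne.symm hax)
      exact ⟨⟨m, hm⟩, h1⟩
  have hFC : Cfsg.IsFrobeniusComplement H₁ := by
    refine ⟨?_, ?_, ?_⟩
    · intro hbot
      have hc1 : Nat.card H₁ = Nat.card H := by
        rw [hH₁]
        exact Nat.card_congr (Subgroup.subgroupOfEquivOfLe hHM).toEquiv
      rw [hbot, Subgroup.card_bot] at hc1
      omega
    · intro htop
      obtain ⟨m, hm⟩ := htrans b
      have h1 : m ∈ H₁ := by rw [htop]; trivial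
      rw [memH₁] at h1
      have hma : (m : G) • a = a := hHa h1
      exact hab (hma.symm.trans hm)
    · intro g hg
      rw [Subgroup.eq_bot_iff_forall]
      intro x hx
      rw [Subgroup.mem_inf] at hx
      obtain ⟨hx1, hx2⟩ := hx
      rw [Cfsg.Agent.Lib.Helper25.mem_conj_smul_iff] at hx2
      by_contra hxne
      have hxG : (x : G) ≠ 1 := fun h => hxne (Subtype.ext h)
      have hga : (g : G) • a ≠ a := fun h => hg (hstab g h)
      have hxga : (x : G) • ((g : G) • a) = (g : G) • a := by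
        have h5 : ((g : G)⁻¹ * (x : G) * (g : G)) • a = a := hHa ((memH₁ _).1 hx2)
        rw [mul_smul, mul_smul, inv_smul_eq_iff] at h5
        exact h5
      exact hga (hHfix (x : G) ((memH₁ x).1 hx1) hxG _ hxga)
  obtain ⟨R, hRset, hRn, hRc⟩ := Cfsg.Agent.S0035.result H₁ hFC
  have hRfpf : ∀ r ∈ R, ∀ x : Ω, ((r : ↥M) : G) • x = x → r = 1 := by
    intro r hr x hrx
    have hr' : r ∈ Cfsg.frobeniusKernel H₁ := by rw [← hRset]; exact hr
    rcases hr' with h1 | h2
    · exact h1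
    · exfalso
      obtain ⟨g, hg⟩ := htrans x
      apply h2 g
      rw [Cfsg.Agent.Lib.Helper25.mem_conj_smul_iff]
      apply hstab
      show ((g : G)⁻¹ * (r : G) * (g : G)) • a = a
      rw [mul_smul, mul_smul, hg, hrx, inv_smul_eq_iff, hg]
  obtain ⟨R', hR'⟩ : ∃ R' : Subgroup G, R' = R.map M.subtype := ⟨_, rfl⟩
  have hR'n : R'.Normal := by
    constructor
    intro r hr g
    rw [hR', Subgroup.mem_map] at hr ⊢
    obtain ⟨r₀, hr₀, rfl⟩ := hr
    refine ⟨⟨g * (r₀ : G) * g⁻¹, hM.conj_mem _ r₀.2 g⟩, ?_, rfl⟩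
    have h0 : (⟨g * (r₀ : G) * g⁻¹, hM.conj_mem _ r₀.2 g⟩ : ↥M) ∈ Cfsg.frobeniusKernel H₁ := by
      by_cases h1 : r₀ = 1
      · left
        apply Subtype.ext
        simp [h1]
      · right
        intro k hk
        rw [Cfsg.Agent.Lib.Helper25.mem_conj_smul_iff] at hk
        have h5 : ((k : G)⁻¹ * (g * (r₀ : G) * g⁻¹) * (k : G)) • a = a := hHa ((memH₁ _).1 hk)
        apply h1
        apply hRfpf r₀ hr₀ (g⁻¹ • ((k : G) • a))
        rw [mul_smul, mul_smul, mul_smul, mul_smul, inv_smul_eq_iff] at h5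
        exact (smul_eq_iff_eq_inv_smul g).1 h5
    rw [← hRset] at h0
    exact h0
  haveI : IsPretransitive ↥R' Ω := by
    have horb : ∀ x : Ω, ∃ r ∈ R, ((r : ↥M) : G) • a = x := by
      intro x
      obtain ⟨m, hm⟩ := htrans x
      obtain ⟨⟨r, u⟩, hru⟩ := hRc.2 m
      refine ⟨r.1, r.2, ?_⟩
      have hru' : (r : ↥M) * (u : ↥M) = m := hru
      have hu : (((u : ↥M) : G)) • a = a := hHa ((memH₁ u.1).1 u.2)
      rw [← hm, ← hru']
      show ((r : ↥M) : G) • a = (((r : ↥M) : G) * ((u : ↥M) : G)) • a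
      rw [mul_smul, hu]
    constructor
    intro x y
    obtain ⟨r₁, hr₁, hr₁x⟩ := horb x
    obtain ⟨r₂, hr₂, hr₂y⟩ := horb y
    refine ⟨⟨((r₂ * r₁⁻¹ : ↥M) : G), by
      rw [hR']
      exact Subgroup.mem_map_of_mem _ (R.mul_mem hr₂ (R.inv_mem hr₁))⟩, ?_⟩
    show ((r₂ : G) * (r₁ : G)⁻¹) • x = y
    rw [mul_smul, ← hr₁x, inv_smul_smul, hr₂y]
  obtain ⟨x, hx⟩ := hZ.2.2.2.2 R' hR'n inferInstance
  apply hx
  rw [Subgroup.eq_bot_iff_forall]
  intro r hr
  have hmem : ∀ y : G, y ∈ R' → y ∈ R.map M.subtype := fun y hy => by rw [← hR']; exact hy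
  have hr' := hmem (r : G) r.2
  rw [Subgroup.mem_map] at hr'
  obtain ⟨r₀, hr₀, hr₀eq⟩ := hr'
  have h1 : r₀ = 1 := hRfpf r₀ hr₀ x (by
    have h2 : (r : G) • x = x := hr
    rw [← hr₀eq] at h2
    exact h2)
  apply Subtype.ext
  rw [← hr₀eq, h1]
  rfl

end Cfsg.Agent.Lib.Helper4.ZassM
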