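import Mathlib
import Cfsg.Agent.Lib.Helper4.ZassM
import Cfsg.Agent.Lib.Helper83.ZassInv2

set_option autoImplicit false

/-!
# Feit's inequality for Zassenhaus groups with odd two-point stabiliser

Induction on the order of the group: either the swapping elements invert the two-point
stabiliser (and the character-theoretic argument applies), or there is a normal subgroup of
prime-power index containing the Frobenius kernel `H`, which is again a Zassenhaus group.
-/

namespace Cfsg.Agent.Lib.Helper4.ZassMain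

open MulAction Cfsg Cfsg.Agent.Lib.Helper13 Cfsg.Agent.Lib.Helper4.Zass
  Cfsg.Agent.Lib.Helper4.ZassG Cfsg.Agent.Lib.Helper4.ZassK Cfsg.Agent.Lib.Helper4.ZassM
  Cfsg.Agent.Lib.Helper4.ZassF

universe u v

theorem feit_aux {Ω : Type v} [Fintype Ω] :
    ∀ n : ℕ, ∀ (G : Type u) [Group G] [Finite G] [MulAction G Ω], Nat.card G = n →
      IsZassenhausGroup G Ω → ∀ a b : Ω, a ≠ b → ∀ h e : ℕ, Fintype.card Ω = h + 1 →
      Nat.card ↥(stabilizer G a ⊓ stabilizer G b : Subgroup G) = e → Odd e →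
      ∀ H : Subgroup G, H ≤ stabilizer G a → Nat.card H + 1 = Fintype.card Ω →
      (∀ u ∈ H, u ≠ 1 → ∀ c : Ω, u • c = c → c = a) →
      h - 1 ≤ 2 * e ∨ (IsPGroup 2 H ∧ (∃ u v : H, u * v ≠ v * u) ∧
        (commutator H).index ≤ 4 * e ^ 2 + 1) := by
  intro n
  induction n using Nat.strong_induction_on with
  | _ n ih =>
  intro G _ _ _ hn hZ a b hab h e hh he hodd H hHa hHcard hHfix
  by_cases hle : h - 1 ≤ 2 * e
  · exact Or.inl hle
  have hlt : 2 * e < h - 1 := by omega
  have h3 : 3 ≤ Fintype.card Ω := by omega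
  have hepos : 0 < e := hodd.pos
  by_cases hnil : ∀ q : ℕ, q.Prime →
      q ∣ Nat.card ↥(stabilizer G a ⊓ stabilizer G b : Subgroup G) →
      ¬ ∃ N : Subgroup G, N.Normal ∧ N.index = q ^ (Nat.card G).factorization q
  · have hne := exists_ne_one_fix hZ hab
    have hc : ∃ c : Ω, c ≠ a ∧ c ≠ b := by
      obtain ⟨g, hg1, hga, hgb⟩ := hne
      obtain ⟨c, hc⟩ := zass_exists_moved hZ hg1
      exact ⟨c, fun h => hc (h ▸ hga), fun h => hc (h ▸ hgb)⟩
    have hodd' : Odd (Nat.card ↥(stabilizer G a ⊓ stabilizer G b : Subgroup G)) := by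
      rw [he]; exact hodd
    have hZI := Cfsg.Agent.Lib.Helper83.zass_zinv hab hZ.2.1 hZ.2.2.1 hne hc hodd' hnil
    have hinv : SwapInv G Ω a b := fun s hsa hsb x hx => hZI.inverts s ⟨hsa, hsb⟩ x hx
    exact feit_of_swapInv hZ hab hinv h e hh he hodd H hHa hHcard hHfix
  · push Not at hnil
    obtain ⟨q, hq, hqe, M, hMn, hMidx⟩ := hnil
    haveI := hMn
    have hqG : q ∣ Nat.card G := dvd_trans hqe (Subgroup.card_subgroup_dvd_card _)
    rw [he] at hqe
    have hqh := prime_dvd_sub_one hZ hab h e hh he hq hqe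
    have hHh : Nat.card H = h := by omega
    have hqnh : ¬ q ∣ h := by
      intro hqh'
      have h1 : h = (h - 1) + 1 := by omega
      rw [h1] at hqh'
      have h2 : q ∣ 1 := (Nat.dvd_add_right hqh).1 hqh'
      exact hq.one_lt.ne' (Nat.dvd_one.1 h2)
    have hcopH : Nat.Coprime (Nat.card H) M.index := by
      rw [hHh, hMidx]
      exact Nat.Coprime.pow_right _ ((Nat.Prime.coprime_iff_not_dvd hq).2 hqnh).symm
    have hHM : H ≤ M := le_of_coprime_index M H hcopH
    have hcop : Nat.Coprime (Fintype.card Ω) (Nat.card (stabilizer G a)) := by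
      rw [hh, card_stab hZ hab h e hh he]
      refine Nat.Coprime.mul_right ?_ ?_
      · simp
      · refine Nat.coprime_of_dvd ?_
        intro r hr hr1 hr2
        have hr3 := prime_dvd_sub_one hZ hab h e hh he hr hr2
        have h1 : h + 1 = (h - 1) + 2 := by omega
        rw [h1] at hr1
        have h2 : r ∣ 2 := (Nat.dvd_add_right hr3).1 hr1
        have h4 : r = 2 := (Nat.prime_dvd_prime_iff_eq hr Nat.prime_two).1 h2
        rw [h4] at hr2
        exact (Nat.not_even_iff_odd.2 hodd) (even_iff_two_dvd.2 hr2)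
    have hfac : 1 ≤ (Nat.card G).factorization q :=
      hq.factorization_pos_of_dvd Nat.card_pos.ne' hqG
    have hMlt : Nat.card ↥M < n := by
      have h1 := Subgroup.card_mul_index M
      rw [hMidx] at h1
      have h2 : 1 < q ^ (Nat.card G).factorization q := Nat.one_lt_pow (by omega) hq.one_lt
      have h4 : 0 < Nat.card ↥M := Nat.card_pos
      rw [← hn, ← h1]
      exact (Nat.lt_mul_iff_one_lt_right h4).2 h2
    by_cases hE : (stabilizer ↥M a ⊓ stabilizer ↥M b : Subgroup ↥M) = ⊥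
    · exact (sub_frob_false hZ hab H hHa hHcard hHfix M hHM h3 hE).elim
    · have hZM := sub_zass hZ hab H hHa hHcard hHfix M hHM h3 hcop hE
      obtain ⟨e₁, he₁⟩ : ∃ e₁ : ℕ,
          Nat.card ↥(stabilizer ↥M a ⊓ stabilizer ↥M b : Subgroup ↥M) = e₁ := ⟨_, rfl⟩
      have hdvd : e₁ ∣ e := by
        rw [← he₁, ← he, ← Subgroup.card_map_of_injective (Subgroup.subtype_injective M)]
        refine Subgroup.card_dvd_of_le ?_
        rintro x ⟨m, hm, rfl⟩
        rw [SetLike.mem_coe, Subgroup.mem_inf, mem_stabilizer_iff, mem_stabilizer_iff] at hm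
        rw [Subgroup.mem_inf, mem_stabilizer_iff, mem_stabilizer_iff]
        exact ⟨hm.1, hm.2⟩
      have hodd₁ : Odd e₁ := Odd.of_dvd_nat hodd hdvd
      have hle₁ : e₁ ≤ e := Nat.le_of_dvd hepos hdvd
      obtain ⟨H₁, hH₁⟩ : ∃ H₁ : Subgroup ↥M, H₁ = H.subgroupOf M := ⟨_, rfl⟩
      have memH₁ : ∀ m : ↥M, m ∈ H₁ ↔ (m : G) ∈ H := fun m => by
        rw [hH₁, Subgroup.mem_subgroupOf]
      have hHa₁ : H₁ ≤ stabilizer ↥M a := by
        intro m hm
        rw [mem_stabilizer_iff]
        exact hHa ((memH₁ m).1 hm)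
      have hHcard₁ : Nat.card H₁ + 1 = Fintype.card Ω := by
        rw [← hHcard, hH₁, Nat.card_congr (Subgroup.subgroupOfEquivOfLe hHM).toEquiv]
      have hHfix₁ : ∀ u ∈ H₁, u ≠ 1 → ∀ c : Ω, u • c = c → c = a := by
        intro u hu hu1 c hc
        exact hHfix (u : G) ((memH₁ u).1 hu) (fun h => hu1 (Subtype.ext h)) c hc
      have key := ih (Nat.card ↥M) hMlt ↥M rfl hZM a b hab h e₁ hh he₁ hodd₁ H₁ hHa₁ hHcard₁
        hHfix₁
      rcases key with key | ⟨hp, ⟨u, v, huv⟩, hidx⟩
      · exact Or.inl (by omega)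
      · right
        subst hH₁
        obtain ⟨φ, hφ⟩ : ∃ φ : ↥(H.subgroupOf M) ≃* ↥H, φ = Subgroup.subgroupOfEquivOfLe hHM :=
          ⟨_, rfl⟩
        refine ⟨hp.of_equiv φ, ⟨φ u, φ v, ?_⟩, ?_⟩
        · intro h1
          apply huv
          apply φ.injective
          rw [map_mul, map_mul, h1]
        · have h1 : (commutator ↥H).index = (commutator ↥(H.subgroupOf M)).index := by
            rw [Subgroup.index_eq_card, Subgroup.index_eq_card]
            exact (Nat.card_congr (MulEquiv.abelianizationCongr φ).toEquiv).symm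
          rw [h1]
          have h2 : 4 * e₁ ^ 2 + 1 ≤ 4 * e ^ 2 + 1 := by
            have := Nat.pow_le_pow_left hle₁ 2
            omega
          exact hidx.trans h2

/-- Feit's inequality for a Zassenhaus group with two-point stabiliser of odd order. -/
theorem feit_zass {G : Type u} {Ω : Type v} [Group G] [Finite G] [MulAction G Ω] [Fintype Ω]
    (hZ : IsZassenhausGroup G Ω) {a b : Ω} (hab : a ≠ b) (h e : ℕ)
    (hh : Fintype.card Ω = h + 1)
    (he : Nat.card ↥(stabilizer G a ⊓ stabilizer G b : Subgroup G) = e) (hodd : Odd e)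
    (H : Subgroup G) (hHa : H ≤ stabilizer G a) (hHcard : Nat.card H + 1 = Fintype.card Ω)
    (hHfix : ∀ u ∈ H, u ≠ 1 → ∀ c : Ω, u • c = c → c = a) :
    h - 1 ≤ 2 * e ∨ (IsPGroup 2 H ∧ (∃ u v : H, u * v ≠ v * u) ∧
      (commutator H).index ≤ 4 * e ^ 2 + 1) :=
  feit_aux (Nat.card G) G rfl hZ a b hab h e hh he hodd H hHa hHcard hHfix

end Cfsg.Agent.Lib.Helper4.ZassMain
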