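import Mathlib
import Cfsg.Agent.Lib.Helper4.ZassO1
import Cfsg.Agent.Lib.Helper4.ZassMain
import Cfsg.Agent.Lib.Helper83.ZassPSL2
import Cfsg.Agent.S0738
import Cfsg.Agent.S0739

/-!
# Zassenhaus groups with abelian kernel and two-point stabiliser of odd order `(q - 1) / 2`

Such a group is `PSL₂(q)` with `q ≡ 3 (mod 4)`.  The coordinatisation follows
`Cfsg.Agent.Lib.Helper83.zass_even_psl` (several steps are reused from there); the element
interchanging `0` and `∞` is automatically `x ↦ -1/x` because `-1` is not a square.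
-/

set_option autoImplicit false

namespace Cfsg.Agent.Lib.Helper4.ZassO

open MulAction Cfsg Cfsg.Agent.Lib.Helper13 Cfsg.Agent.Lib.Helper83 Cfsg.Agent.Lib.Helper4.Zass
  Cfsg.Agent.Lib.Helper4.ZassG Cfsg.Agent.Lib.Helper4.ZassK Cfsg.Agent.Lib.Helper4.ZassM
  Cfsg.Agent.Lib.Helper4.ZassMain

variable {G Ω : Type*} [Group G] [MulAction G Ω]

/-- If the kernel is abelian and `h - 1 = 2 e` with `e` odd, there is no normal subgroup whose
index is the full power of a prime divisor of `e`. -/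
theorem no_normal_compl [Finite G] [Fintype Ω] (hZ : IsZassenhausGroup G Ω) {a b : Ω}
    (hab : a ≠ b) (h e : ℕ) (hh : Fintype.card Ω = h + 1)
    (he : Nat.card ↥(stabilizer G a ⊓ stabilizer G b : Subgroup G) = e) (hodd : Odd e)
    (h2e : h = 2 * e + 1)
    (H : Subgroup G) (hHa : H ≤ stabilizer G a) (hHcard : Nat.card H + 1 = Fintype.card Ω)
    (hHfix : ∀ u ∈ H, u ≠ 1 → ∀ c : Ω, u • c = c → c = a)
    (hHcomm : ∀ u ∈ H, ∀ v ∈ H, u * v = v * u) :
    ∀ q : ℕ, q.Prime → q ∣ Nat.card ↥(stabilizer G a ⊓ stabilizer G b : Subgroup G) →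
      ¬ ∃ N : Subgroup G, N.Normal ∧ N.index = q ^ (Nat.card G).factorization q := by
  rintro q hq hqe ⟨M, hMn, hMidx⟩
  haveI := hMn
  have hepos : 0 < e := hodd.pos
  have h3 : 3 ≤ Fintype.card Ω := by omega
  have hqG : q ∣ Nat.card G := dvd_trans hqe (Subgroup.card_subgroup_dvd_card _)
  rw [he] at hqe
  have hqh := prime_dvd_sub_one hZ hab h e hh he hq hqe
  have hHh : Nat.card H = h := by omega
  have hqnh : ¬ q ∣ h := by
    intro hqh'
    have h1 : h = (h - 1) + 1 := by omega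
    rw [h1] at hqh'
    have h2 : q ∣ 1 := (Nat.dvd_add_right hqh).1 hqh'
    exact hq.one_lt.ne' (Nat.dvd_one.1 h2)
  obtain ⟨k, hk⟩ : ∃ k, k = (Nat.card G).factorization q := ⟨_, rfl⟩
  rw [← hk] at hMidx
  have hfac : 1 ≤ k := by
    rw [hk]
    exact hq.factorization_pos_of_dvd Nat.card_pos.ne' hqG
  have hcopH : Nat.Coprime (Nat.card H) M.index := by
    rw [hHh, hMidx]
    exact Nat.Coprime.pow_right _ ((Nat.Prime.coprime_iff_not_dvd hq).2 hqnh).symm
  have hHM : H ≤ M := le_of_coprime_index M H hcopH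
  have hcop : Nat.Coprime (Fintype.card Ω) (Nat.card (stabilizer G a)) := by
    rw [hh, card_stab hZ hab h e hh he]
    refine Nat.Coprime.mul_right ?_ ?_
    · simp
    · refine Nat.coprime_of_dvd ?_
      intro r hr hr1 hr2
      have hr3 := prime_dvd_sub_one hZ hab h e hh he hr hr2
      have h1 : h + 1 = (h - 1) + 2 := by omega
      rw [h1] at hr1
      have h2 : r ∣ 2 := (Nat.dvd_add_right hr3).1 hr1
      have h4 : r = 2 := (Nat.prime_dvd_prime_iff_eq hr Nat.prime_two).1 h2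
      rw [h4] at hr2
      exact (Nat.not_even_iff_odd.2 hodd) (even_iff_two_dvd.2 hr2)
  by_cases hE : (stabilizer ↥M a ⊓ stabilizer ↥M b : Subgroup ↥M) = ⊥
  · exact sub_frob_false hZ hab H hHa hHcard hHfix M hHM h3 hE
  · have hZM := sub_zass hZ hab H hHa hHcard hHfix M hHM h3 hcop hE
    obtain ⟨e₁, he₁⟩ : ∃ e₁ : ℕ,
        Nat.card ↥(stabilizer ↥M a ⊓ stabilizer ↥M b : Subgroup ↥M) = e₁ := ⟨_, rfl⟩
    have hdvd : e₁ ∣ e := by
      rw [← he₁, ← he, ← Subgroup.card_map_of_injective (Subgroup.subtype_injective M)]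
      refine Subgroup.card_dvd_of_le ?_
      rintro x ⟨m, hm, rfl⟩
      rw [SetLike.mem_coe, Subgroup.mem_inf, mem_stabilizer_iff, mem_stabilizer_iff] at hm
      rw [Subgroup.mem_inf, mem_stabilizer_iff, mem_stabilizer_iff]
      exact ⟨hm.1, hm.2⟩
    have hodd₁ : Odd e₁ := Odd.of_dvd_nat hodd hdvd
    have he₁pos : 0 < e₁ := hodd₁.pos
    have hG := card_G hZ hab h e hh he
    have hM := card_G hZM hab h e₁ hh he₁
    have hidx := Subgroup.card_mul_index M
    rw [hMidx, hG, hM] at hidx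
    obtain ⟨m, hm⟩ : ∃ m, m = e₁ * q ^ k := ⟨_, rfl⟩
    have hme : m = e := by
      have h5 : (h + 1) * h * m = (h + 1) * h * e := by
        rw [← hidx, hm]; ring
      have h6 : 0 < (h + 1) * h := by
        apply Nat.mul_pos (Nat.succ_pos h); omega
      exact Nat.eq_of_mul_eq_mul_left h6 h5
    have hqk : 2 ≤ q ^ k := by
      have h7 : 1 < q ^ k := Nat.one_lt_pow (by omega) hq.one_lt
      omega
    have hlt : e₁ < e := by
      have h8 : e₁ * 2 ≤ e₁ * q ^ k := Nat.mul_le_mul_left _ hqk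
      rw [← hm, hme] at h8
      omega
    obtain ⟨H₁, hH₁⟩ : ∃ H₁ : Subgroup ↥M, H₁ = H.subgroupOf M := ⟨_, rfl⟩
    have memH₁ : ∀ m : ↥M, m ∈ H₁ ↔ (m : G) ∈ H := fun m => by
      rw [hH₁, Subgroup.mem_subgroupOf]
    have hHa₁ : H₁ ≤ stabilizer ↥M a := by
      intro m hm
      rw [mem_stabilizer_iff]
      exact hHa ((memH₁ m).1 hm)
    have hHcard₁ : Nat.card H₁ + 1 = Fintype.card Ω := by
      rw [← hHcard, hH₁, Nat.card_congr (Subgroup.subgroupOfEquivOfLe hHM).toEquiv]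
    have hHfix₁ : ∀ u ∈ H₁, u ≠ 1 → ∀ c : Ω, u • c = c → c = a := by
      intro u hu hu1 c hc
      exact hHfix (u : G) ((memH₁ u).1 hu) (fun h => hu1 (Subtype.ext h)) c hc
    have key := feit_zass hZM hab h e₁ hh he₁ hodd₁ H₁ hHa₁ hHcard₁ hHfix₁
    rcases key with key | ⟨-, ⟨u, v, huv⟩, -⟩
    · omega
    · apply huv
      apply Subtype.ext
      apply Subtype.ext
      exact hHcomm _ ((memH₁ u.1).1 u.2) _ ((memH₁ v.1).1 v.2)

/-- A Zassenhaus group with abelian kernel whose two-point stabiliser has odd order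
`e = (q - 1) / 2` is `PSL₂(q)`. -/
theorem zass_odd_psl [Finite G] [Fintype Ω] (hZ : IsZassenhausGroup G Ω) {a b : Ω}
    (hab : a ≠ b)
    (hodd : Odd (Nat.card ↥(stabilizer G a ⊓ stabilizer G b : Subgroup G)))
    (h2e : Fintype.card Ω
      = 2 * Nat.card ↥(stabilizer G a ⊓ stabilizer G b : Subgroup G) + 2)
    (K : Subgroup G) (hKle : K ≤ stabilizer G a)
    (hKn : (K.subgroupOf (stabilizer G a)).Normal)
    (hKcomm : ∀ x ∈ K, ∀ y ∈ K, x * y = y * x)
    (hreg : ∀ y z : Ω, y ≠ a → z ≠ a → ∃! u : K, (u : G) • y = z) :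
    ∃ (F : Type) (_ : Field F) (_ : Fintype F), ringChar F ≠ 2 ∧
      Nonempty (G ≃* Matrix.ProjectiveSpecialLinearGroup (Fin 2) F) := by
  classical
  have h3 := hZ.2.2.1
  obtain ⟨H, hH⟩ : ∃ H : Subgroup G,
    H = MulAction.stabilizer G a ⊓ MulAction.stabilizer G b := ⟨_, rfl⟩
  have memH : ∀ g : G, g ∈ H ↔ g • a = a ∧ g • b = b := by
    intro g
    rw [hH, Subgroup.mem_inf, MulAction.mem_stabilizer_iff, MulAction.mem_stabilizer_iff]
  obtain ⟨d, hdef⟩ : ∃ d, d = Nat.card H := ⟨_, rfl⟩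
  have hoddd : Odd d := by rw [hdef, hH]; exact hodd
  have hcardΩ' : Fintype.card Ω = 2 * d + 2 := by rw [hdef, hH]; exact h2e
  have hdpos : 0 < d := hoddd.pos
  have hKa : ∀ k ∈ K, k • a = a := fun k hk => MulAction.mem_stabilizer_iff.mp (hKle hk)
  have hKnorm : ∀ g : G, g • a = a → ∀ k ∈ K, g * k * g⁻¹ ∈ K := by
    intro g hg k hk
    have h1 := hKn.conj_mem ⟨k, hKle hk⟩ (Subgroup.mem_subgroupOf.mpr hk)
      ⟨g, MulAction.mem_stabilizer_iff.mpr hg⟩
    exact Subgroup.mem_subgroupOf.mp h1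
  have hKtr : ∀ y : Ω, y ≠ a → ∃ k ∈ K, k • b = y := by
    intro y hy
    obtain ⟨u, hu, -⟩ := hreg b y (Ne.symm hab) hy
    exact ⟨u, u.2, hu⟩
  have hKreg : ∀ k ∈ K, ∀ y : Ω, y ≠ a → k • y = y → k = 1 := by
    intro k hk y hy hky
    obtain ⟨u, -, huniq⟩ := hreg y y hy hy
    have h1 := huniq ⟨k, hk⟩ hky
    have h2 := huniq 1 (by show ((1 : K) : G) • y = y; rw [Subgroup.coe_one, one_smul])
    have h4 : (⟨k, hk⟩ : K) = 1 := h1.trans h2.symm
    exact congrArg Subtype.val h4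
  obtain ⟨-, p, f, hp, -, hcardΩ⟩ := Cfsg.Agent.S0738.result hZ hab
    (by rw [← hH, ← hdef]; omega) K hKle hKn hreg
  have hcardK : Nat.card K = p ^ f := by
    have h1 : Nat.card K = ((fun k : G => k • b) '' (K : Set G)).ncard := by
      rw [Set.InjOn.ncard_image]
      · rfl
      · intro k hk k' hk' hkk
        have hkk' : k • b = k' • b := hkk
        have : k'⁻¹ * k = 1 := hKreg _ (K.mul_mem (K.inv_mem hk') hk) b (Ne.symm hab)
          (by rw [mul_smul, hkk', inv_smul_smul])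
        exact (inv_mul_eq_one.mp this).symm
    have h2 : (fun k : G => k • b) '' (K : Set G) = {a}ᶜ := by
      ext y
      constructor
      · rintro ⟨k, hk, rfl⟩
        intro h
        have h' : k • b = k • a := by rw [hKa k hk]; exact h
        exact hab (smul_left_cancel _ h').symm
      · intro hy
        obtain ⟨k, hk, hkb⟩ := hKtr y hy
        exact ⟨k, hk, hkb⟩
    rw [h1, h2, Set.ncard_compl, Set.ncard_singleton, Nat.card_eq_fintype_card, hcardΩ]
    rfl
  have hpf : p ^ f = 2 * d + 1 := by omega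
  have hp2 : p ≠ 2 := by
    rintro rfl
    have hf0 : f ≠ 0 := by
      rintro rfl
      rw [pow_zero] at hpf
      omega
    have : 2 ∣ 2 ^ f := dvd_pow_self 2 hf0
    omega
  -- no normal complements, hence the swapping elements invert `H`
  have hKfix : ∀ u ∈ K, u ≠ 1 → ∀ c : Ω, u • c = c → c = a := by
    intro u hu hu1 c hc
    by_contra hca
    exact hu1 (hKreg u hu c hca hc)
  have hKcard1 : Nat.card K + 1 = Fintype.card Ω := by rw [hcardK, hcardΩ]
  have hed : Nat.card ↥(stabilizer G a ⊓ stabilizer G b : Subgroup G) = d := by rw [hdef, hH]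
  have hnil := no_normal_compl hZ hab (2 * d + 1) d (by omega) hed hoddd rfl K hKle hKcard1
    hKfix hKcomm
  obtain ⟨-, -, hinvE⟩ := Cfsg.Agent.S0739.result hZ hab hodd hnil
  have hinvH : ∀ s : G, s • a = b → s • b = a → ∀ h ∈ H, s * h * s⁻¹ = h⁻¹ := by
    intro s hsa hsb h hh
    rw [hH] at hh
    exact hinvE s hsa hsb h hh
  have hHodd : ∀ h ∈ H, h * h = 1 → h = 1 := by
    intro h hh hh2
    have h1 : orderOf h ∣ 2 := orderOf_dvd_of_pow_eq_one (by rw [sq]; exact hh2)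
    have h2 : orderOf h ∣ d := by rw [hdef]; exact Subgroup.orderOf_dvd_natCard H hh
    have h4 : orderOf h = 1 := by
      rcases (Nat.dvd_prime Nat.prime_two).1 h1 with h | h
      · exact h
      · exfalso
        rw [h] at h2
        exact (Nat.not_even_iff_odd.2 hoddd) (even_iff_two_dvd.2 h2)
    exact orderOf_eq_one_iff.1 h4
  have hswap_sq : ∀ g : G, g • a = b → g • b = a → g * g = 1 := by
    intro g hga hgb
    have hgg : g * g ∈ H :=
      (memH _).mpr ⟨by rw [mul_smul, hga, hgb], by rw [mul_smul, hgb, hga]⟩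
    have h1 := hinvH g hga hgb (g * g) hgg
    have h2 : g * (g * g) * g⁻¹ = g * g := by group
    rw [h2] at h1
    apply hHodd _ hgg
    have h4 : g * g * (g * g) = g * g * (g * g)⁻¹ := by rw [← h1]
    rw [h4, mul_inv_cancel]
  -- `H` is commutative
  obtain ⟨σ, hσa, hσb⟩ := zass_two_trans hZ hab (Ne.symm hab)
  have hσσ := hswap_sq σ hσa hσb
  have hσH : ∀ h ∈ H, σ * h * σ = h⁻¹ := by
    intro h hh
    have h1 := hswap_sq (σ * h) (by rw [mul_smul, ((memH h).mp hh).1, hσa])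
      (by rw [mul_smul, ((memH h).mp hh).2, hσb])
    have h2 : σ * h * σ * h = 1 := by rw [← h1]; group
    exact eq_inv_of_mul_eq_one_left h2
  have hHcomm : ∀ x ∈ H, ∀ y ∈ H, x * y = y * x := by
    intro x hx y hy
    have h1 := hσH (x * y) (H.mul_mem hx hy)
    have h2 : σ * (x * y) * σ = (σ * x * σ) * (σ * y * σ) := by
      have e : (σ * x * σ) * (σ * y * σ) = σ * x * (σ * σ) * y * σ := by group
      rw [e, hσσ]; group
    rw [h2, hσH x hx, hσH y hy, mul_inv_rev] at h1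
    have h4 : (x⁻¹ * y⁻¹)⁻¹ = (y⁻¹ * x⁻¹)⁻¹ := by rw [h1]
    rw [mul_inv_rev, mul_inv_rev, inv_inv, inv_inv] at h4
    exact h4.symm
  have hnorm : ∀ h ∈ H, ∀ k ∈ K, h * k * h⁻¹ ∈ K :=
    fun h hh k hk => hKnorm h ((memH h).mp hh).1 k hk
  have F1 : ∀ c ∈ H, ∀ k ∈ K, k ≠ 1 → c * k = k * c → c = 1 := by
    intro c hc k hk hk1 hck
    have hkb : k • b ≠ b := fun h => hk1 (hKreg k hk b (Ne.symm hab) h)
    have hka : k • b ≠ a := by
      intro h
      have h' : k • b = k • a := by rw [hKa k hk]; exact h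
      exact hab (smul_left_cancel _ h').symm
    have hfix : c • k • b = k • b := by
      rw [← mul_smul, hck, mul_smul, ((memH c).mp hc).2]
    exact h3 c a b (k • b) hab (Ne.symm hkb) (Ne.symm hka) ((memH c).mp hc).1
      ((memH c).mp hc).2 hfix
  have F2 : ∀ h ∈ H, ∀ h' ∈ H, ∀ k ∈ K, k ≠ 1 → h * k * h⁻¹ = h' * k * h'⁻¹ → h = h' := by
    intro h hh h' hh' k hk hk1 e
    have hc : (h'⁻¹ * h) * k = k * (h'⁻¹ * h) := by
      have e1 : (h'⁻¹ * h) * k = h'⁻¹ * (h * k * h⁻¹) * h := by group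
      rw [e1, e]; group
    have := F1 _ (H.mul_mem (H.inv_mem hh') hh) k hk hk1 hc
    exact (inv_mul_eq_one.mp this).symm
  have hKnt : K ≠ ⊥ := by
    intro h
    rw [h, Subgroup.card_bot] at hcardK
    omega
  have hirr : ∀ L : Subgroup G, L ≤ K → (∀ h ∈ H, ∀ x ∈ L, h * x * h⁻¹ ∈ L) →
      L = ⊥ ∨ L = K := by
    intro L hLK hLinv
    by_contra hcon
    push Not at hcon
    obtain ⟨hLbot, hLK'⟩ := hcon
    obtain ⟨x, hxL, hx1⟩ : ∃ x ∈ L, x ≠ 1 := by
      by_contra hall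
      push Not at hall
      exact hLbot ((Subgroup.eq_bot_iff_forall L).mpr hall)
    obtain ⟨y, hyK, hyL⟩ : ∃ y ∈ K, y ∉ L := by
      by_contra hall
      push Not at hall
      exact hLK' (le_antisymm hLK hall)
    have hy1 : y ≠ 1 := fun h => hyL (h ▸ L.one_mem)
    have c1 : d ≤ (L : Set G).ncard - 1 := by
      have hsub : (fun h : G => h * x * h⁻¹) '' (H : Set G) ⊆ (L : Set G) \ {1} := by
        rintro _ ⟨h, hh, rfl⟩
        refine ⟨hLinv h hh x hxL, ?_⟩
        intro h1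
        apply hx1
        have h1' : h * x * h⁻¹ = 1 := h1
        have e : x = h⁻¹ * (h * x * h⁻¹) * h := by group
        rw [e, h1']; group
      have hinj : Set.InjOn (fun h : G => h * x * h⁻¹) (H : Set G) := by
        intro h hh h' hh' e
        exact F2 h hh h' hh' x (hLK hxL) hx1 e
      have h5 := Set.ncard_le_ncard hsub (Set.toFinite _)
      rw [Set.InjOn.ncard_image hinj, Set.ncard_sdiff_singleton_of_mem L.one_mem] at h5
      rw [hdef]
      exact h5
    have c2 : d ≤ (K : Set G).ncard - (L : Set G).ncard := by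
      have hsub : (fun h : G => h * y * h⁻¹) '' (H : Set G) ⊆ (K : Set G) \ (L : Set G) := by
        rintro _ ⟨h, hh, rfl⟩
        refine ⟨hnorm h hh y hyK, ?_⟩
        intro h1
        apply hyL
        have h6 := hLinv h⁻¹ (H.inv_mem hh) _ h1
        have e : h⁻¹ * (h * y * h⁻¹) * h⁻¹⁻¹ = y := by group
        rwa [e] at h6
      have hinj : Set.InjOn (fun h : G => h * y * h⁻¹) (H : Set G) := by
        intro h hh h' hh' e
        exact F2 h hh h' hh' y hyK hy1 e
      have h5 := Set.ncard_le_ncard hsub (Set.toFinite _)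
      rw [Set.InjOn.ncard_image hinj, Set.ncard_sdiff hLK (Set.toFinite _)] at h5
      rw [hdef]
      exact h5
    have hKc : (K : Set G).ncard = 2 * d + 1 := by rw [← hpf, ← hcardK]; rfl
    have hLc : (L : Set G).ncard ∣ (K : Set G).ncard := Subgroup.card_dvd_of_le hLK
    have hL1 : (L : Set G).ncard = d + 1 := by omega
    rw [hL1, hKc] at hLc
    exact absurd (succ_dvd_two_mul_succ hLc) hdpos.ne'
  -- the field
  have : Fact p.Prime := ⟨hp⟩
  obtain ⟨F, instF, instFin, θ, lam, hcardF, hθK, hθsurj, hθinj, hθadd, hlamconj, hlammul,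
    hlamone⟩ := field_of_subgroups K H hKcomm hHcomm hnorm hirr hKnt hcardK
  have hθ0 : θ 0 = 1 := by
    have h := hθadd 0 0
    rw [add_zero] at h
    exact mul_left_cancel (a := θ 0) (by rw [← h, mul_one])
  have hθneg : ∀ z, θ (-z) = (θ z)⁻¹ := by
    intro z
    apply eq_inv_of_mul_eq_one_left
    rw [← hθadd, neg_add_cancel, hθ0]
  have hθ1 : θ 1 ≠ 1 := by
    intro h
    rw [← hθ0] at h
    exact one_ne_zero (hθinj h)
  have hlaminj : ∀ h ∈ H, ∀ h' ∈ H, lam h = lam h' → h = h' := by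
    intro h hh h' hh' e
    apply F2 h hh h' hh' (θ 1) (hθK 1) hθ1
    rw [hlamconj h hh, hlamconj h' hh', e]
  have hlamne : ∀ h ∈ H, lam h ≠ 0 := by
    intro h hh e
    have h1 := hlamconj h hh 1
    rw [e, zero_mul, hθ0] at h1
    apply hθ1
    have e2 : θ 1 = h⁻¹ * (h * θ 1 * h⁻¹) * h := by group
    rw [e2, h1]; group
  have hlaminv : ∀ h ∈ H, lam h⁻¹ = (lam h)⁻¹ := by
    intro h hh
    have h1 := hlammul h hh h⁻¹ (H.inv_mem hh)
    rw [mul_inv_cancel, hlamone] at h1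
    exact eq_inv_of_mul_eq_one_right h1.symm
  have hcardF2 : Fintype.card F = 2 * d + 1 := by rw [hcardF, hpf]
  have hchar : ringChar F ≠ 2 := by
    intro h2
    have := FiniteField.even_card_iff_char_two.mp h2
    omega
  have hF2 : (2 : F) ≠ 0 := Ring.two_ne_zero hchar
  -- the multiplier group
  obtain ⟨Λ, hΛ⟩ : ∃ Λ : Set F, Λ = lam '' (H : Set G) := ⟨_, rfl⟩
  have memΛ : ∀ x : F, x ∈ Λ ↔ ∃ h ∈ H, lam h = x := by
    intro x
    rw [hΛ]
    rfl
  have hΛcard : Λ.ncard = d := by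
    rw [hΛ, Set.InjOn.ncard_image, hdef]
    · rfl
    · intro h hh h' hh' e
      exact hlaminj h hh h' hh' e
  have hΛmul : ∀ x ∈ Λ, ∀ y ∈ Λ, x * y ∈ Λ := by
    intro x hx y hy
    obtain ⟨h, hh, rfl⟩ := (memΛ x).mp hx
    obtain ⟨h', hh', rfl⟩ := (memΛ y).mp hy
    exact (memΛ _).mpr ⟨h * h', H.mul_mem hh hh', hlammul h hh h' hh'⟩
  have hΛinv : ∀ x ∈ Λ, x⁻¹ ∈ Λ := by
    intro x hx
    obtain ⟨h, hh, rfl⟩ := (memΛ x).mp hx
    exact (memΛ _).mpr ⟨h⁻¹, H.inv_mem hh, hlaminv h hh⟩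
  have hΛ0 : (0 : F) ∉ Λ := by
    intro h0
    obtain ⟨h, hh, e⟩ := (memΛ 0).mp h0
    exact hlamne h hh e
  have hΛneg : (-1 : F) ∉ Λ := by
    intro hmem
    obtain ⟨t, htH, hlt⟩ := (memΛ _).mp hmem
    have h1 : lam (t * t) = 1 := by rw [hlammul t htH t htH, hlt]; ring
    have h2 : t * t = 1 := hlaminj _ (H.mul_mem htH htH) 1 H.one_mem (by rw [h1, hlamone])
    have h4 := hHodd t htH h2
    rw [h4, hlamone] at hlt
    apply hF2
    linear_combination hlt
  have hidx : ∀ x v : F, x ≠ 0 → v ≠ 0 → v ∉ Λ → x ∉ Λ → x * v⁻¹ ∈ Λ := by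
    intro x v hx hv hvΛ hxΛ
    obtain ⟨M, hM⟩ : ∃ M : Set F, M = (fun y => y * v) '' Λ := ⟨_, rfl⟩
    have hMcard : M.ncard = d := by
      rw [hM, Set.ncard_image_of_injective _ (mul_left_injective₀ hv), hΛcard]
    have hdisj : Disjoint Λ M := by
      rw [Set.disjoint_left]
      intro y hy hyM
      rw [hM] at hyM
      obtain ⟨z, hz, hzy⟩ := hyM
      apply hvΛ
      have hz0 : z ≠ 0 := fun h => hΛ0 (h ▸ hz)
      have e : v = z⁻¹ * y := by
        have hzy' : z * v = y := hzy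
        rw [← hzy']
        field_simp
      rw [e]
      exact hΛmul _ (hΛinv z hz) y hy
    have hsub : Λ ∪ M ⊆ ({0} : Set F)ᶜ := by
      intro y hy
      rcases hy with hy | hy
      · intro h0
        have h0' : y = 0 := h0
        exact hΛ0 (h0' ▸ hy)
      · rw [hM] at hy
        obtain ⟨z, hz, hzy⟩ := hy
        intro h0
        have hz0 : z ≠ 0 := fun h => hΛ0 (h ▸ hz)
        have hzy' : z * v = y := hzy
        have h0' : y = 0 := h0
        rw [h0'] at hzy'
        exact (mul_ne_zero hz0 hv) hzy'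
    have hcompl : (({0} : Set F)ᶜ).ncard = 2 * d := by
      rw [Set.ncard_compl, Set.ncard_singleton, Nat.card_eq_fintype_card, hcardF2]
      rfl
    have heq : Λ ∪ M = ({0} : Set F)ᶜ := by
      apply Set.eq_of_subset_of_ncard_le hsub _ (Set.toFinite _)
      rw [hcompl, Set.ncard_union_eq hdisj (Set.toFinite _) (Set.toFinite _), hΛcard, hMcard]
      omega
    have hxmem : x ∈ Λ ∪ M := by
      rw [heq]
      exact hx
    rcases hxmem with h | h
    · exact absurd h hxΛ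
    · rw [hM] at h
      obtain ⟨z, hz, hzx⟩ := h
      have hzx' : z * v = x := hzx
      have e : x * v⁻¹ = z := by
        rw [← hzx']
        field_simp
      rw [e]
      exact hz
  have hsq : ∀ h ∈ H, ∃ r : F, lam h = r ^ 2 := by
    intro h hh
    have hpow : ∀ n : ℕ, lam (h ^ n) = lam h ^ n := by
      intro n
      induction n with
      | zero => rw [pow_zero, pow_zero, hlamone]
      | succ n ih => rw [pow_succ, pow_succ, hlammul _ (H.pow_mem hh n) h hh, ih]
    have hhd : h ^ d = 1 := by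
      have h1 := pow_card_eq_one' (G := ↥H) (x := ⟨h, hh⟩)
      have h2 := congrArg Subtype.val h1
      rw [hdef]
      exact h2
    have h1 : lam h ^ (Fintype.card F / 2) = 1 := by
      have e : Fintype.card F / 2 = d := by omega
      rw [e, ← hpow, hhd, hlamone]
    obtain ⟨r, hr⟩ := (FiniteField.isSquare_iff hchar (hlamne h hh)).mpr h1
    exact ⟨r, by rw [hr, sq]⟩
  -- points
  have hθa : ∀ z : F, θ z • a = a := fun z => hKa _ (hθK z)
  have hθfree : ∀ z : F, θ z • b = b → z = 0 := by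
    intro z hz
    have h1 := hKreg _ (hθK z) b (Ne.symm hab) hz
    rw [← hθ0] at h1
    exact hθinj h1
  have hptna : ∀ z : F, θ z • b ≠ a := by
    intro z h
    have h1 : θ z • b = θ z • a := by rw [hθa]; exact h
    exact hab (smul_left_cancel _ h1).symm
  have hHpt : ∀ h ∈ H, ∀ z : F, h • (θ z • b) = θ (lam h * z) • b := by
    intro h hh z
    have hb : h • b = b := ((memH h).mp hh).2
    have e : h * θ z = (h * θ z * h⁻¹) * h := by group
    rw [← mul_smul, e, mul_smul, hb, hlamconj h hh]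
  have hθsurj' : ∀ y : Ω, y ≠ a → ∃ z : F, θ z • b = y := by
    intro y hy
    obtain ⟨k, hk, hkb⟩ := hKtr y hy
    obtain ⟨z, hz⟩ := hθsurj k hk
    exact ⟨z, by rw [hz]; exact hkb⟩
  have hσconj : ∀ s : G, s • a = b → s • b = a → ∀ h ∈ H, s * h = h⁻¹ * s := by
    intro s hsa hsb h hh
    have h1 := hinvH s hsa hsb h hh
    rw [← h1]
    group
  -- the image of the point `1` under `σ`
  have hσ1a : σ • (θ 1 • b) ≠ a := by
    intro h
    rw [← hσb] at h
    have h1 := smul_left_cancel _ h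
    exact one_ne_zero (hθfree 1 h1)
  obtain ⟨c, hc⟩ := hθsurj' _ hσ1a
  have hc0 : c ≠ 0 := by
    rintro rfl
    rw [hθ0, one_smul] at hc
    have h1 : σ • a = σ • (θ 1 • b) := by rw [hσa]; exact hc
    have h2 := smul_left_cancel _ h1
    exact hptna 1 h2.symm
  have hstabodd : Odd (Nat.card (stabilizer G a)) := by
    rw [card_stab hZ hab (2 * d + 1) d (by omega) hed]
    exact Odd.mul (by exact ⟨d, by ring⟩) hoddd
  have hnofix : ∀ s : G, s • a = b → s • b = a → ∀ x : Ω, s • x ≠ x := by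
    intro s hsa hsb x hsx
    have hss := hswap_sq s hsa hsb
    have hs1 : s ≠ 1 := by
      intro h
      rw [h, one_smul] at hsa
      exact hab hsa
    obtain ⟨g, hg⟩ : ∃ g : G, g • a = x := by
      by_cases hxa : a = x
      · exact ⟨1, by rw [one_smul, hxa]⟩
      · obtain ⟨g, hg, -⟩ := zass_two_trans hZ hxa (Ne.symm hxa)
        exact ⟨g, hg⟩
    have hmem : g⁻¹ * s * g ∈ stabilizer G a := by
      rw [mem_stabilizer_iff, mul_smul, mul_smul, hg, hsx, ← hg, inv_smul_smul]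
    have h1 : (g⁻¹ * s * g) * (g⁻¹ * s * g) = 1 := by
      have e : (g⁻¹ * s * g) * (g⁻¹ * s * g) = g⁻¹ * (s * s) * g := by group
      rw [e, hss]; group
    have h2 : g⁻¹ * s * g ≠ 1 := by
      intro h
      apply hs1
      have e : s = g * (g⁻¹ * s * g) * g⁻¹ := by group
      rw [e, h]; group
    haveI : Fact (Nat.Prime 2) := ⟨Nat.prime_two⟩
    have h4 : orderOf (g⁻¹ * s * g) = 2 := orderOf_eq_prime (by rw [sq]; exact h1) h2
    have h5 : 2 ∣ Nat.card (stabilizer G a) := by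
      rw [← h4]
      exact Subgroup.orderOf_dvd_natCard _ hmem
    exact (Nat.not_even_iff_odd.2 hstabodd) (even_iff_two_dvd.2 h5)
  have hcΛ : c ∉ Λ := by
    intro hmem
    obtain ⟨h0, hh0, hl0⟩ := (memΛ c).mp hmem
    have hhd : h0 ^ d = 1 := by
      have h1 := pow_card_eq_one' (G := ↥H) (x := ⟨h0, hh0⟩)
      have h2 := congrArg Subtype.val h1
      rw [hdef]
      exact h2
    obtain ⟨h', hh', hh'2⟩ : ∃ h' ∈ H, h' * h' = h0 := by
      refine ⟨h0 ^ ((d + 1) / 2), H.pow_mem hh0 _, ?_⟩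
      rw [← pow_add]
      have e : (d + 1) / 2 + (d + 1) / 2 = d + 1 := by
        obtain ⟨j, hj⟩ := hoddd
        omega
      rw [e, pow_succ, hhd, one_mul]
    have hl'0 : lam h' ≠ 0 := hlamne h' hh'
    have hfix : σ • (θ (lam h') • b) = θ (lam h') • b := by
      calc σ • (θ (lam h') • b) = σ • (h' • (θ 1 • b)) := by rw [hHpt h' hh', mul_one]
        _ = (σ * h') • (θ 1 • b) := (mul_smul _ _ _).symm
        _ = (h'⁻¹ * σ) • (θ 1 • b) := by rw [hσconj σ hσa hσb h' hh']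
        _ = h'⁻¹ • (σ • (θ 1 • b)) := mul_smul _ _ _
        _ = h'⁻¹ • (θ c • b) := by rw [hc]
        _ = θ (lam h'⁻¹ * c) • b := hHpt _ (H.inv_mem hh') c
        _ = θ (lam h') • b := by
              rw [hlaminv h' hh', ← hl0, ← hh'2, hlammul h' hh' h' hh']
              have e : (lam h')⁻¹ * (lam h' * lam h') = lam h' := by field_simp
              rw [e]
    exact hnofix σ hσa hσb _ hfix
  have hnc : c * (-1 : F)⁻¹ ∈ Λ := hidx c (-1) hc0 (neg_ne_zero.mpr one_ne_zero) hΛneg hcΛ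
  obtain ⟨h0, hh0, hl0⟩ := (memΛ _).mp hnc
  obtain ⟨τ, hτdef⟩ : ∃ τ : G, τ = h0⁻¹ * σ := ⟨_, rfl⟩
  have hh0a := ((memH h0).mp hh0).1
  have hh0b := ((memH h0).mp hh0).2
  have hτa : τ • a = b := by rw [hτdef, mul_smul, hσa, inv_smul_eq_iff, hh0b]
  have hτb : τ • b = a := by rw [hτdef, mul_smul, hσb, inv_smul_eq_iff, hh0a]
  have hττ := hswap_sq τ hτa hτb
  have hτ1 : τ • (θ 1 • b) = θ (-1) • b := by
    rw [hτdef, mul_smul, ← hc, hHpt _ (H.inv_mem hh0), hlaminv h0 hh0, hl0]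
    have e : (c * (-1 : F)⁻¹)⁻¹ * c = -1 := by field_simp
    rw [e]
  have hτm1 : τ • (θ (-1) • b) = θ 1 • b := by
    rw [← hτ1, ← mul_smul, hττ, one_smul]
  have hτ : ∀ x : F, x ≠ 0 → τ • zpt θ b x = zpt θ b (-x⁻¹) := by
    intro x hx
    show τ • (θ x • b) = θ (-x⁻¹) • b
    by_cases hxΛ : x ∈ Λ
    · obtain ⟨h, hh, rfl⟩ := (memΛ x).mp hxΛ
      calc τ • (θ (lam h) • b) = τ • (h • (θ 1 • b)) := by rw [hHpt h hh, mul_one]
        _ = (τ * h) • (θ 1 • b) := (mul_smul _ _ _).symm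
        _ = (h⁻¹ * τ) • (θ 1 • b) := by rw [hσconj τ hτa hτb h hh]
        _ = h⁻¹ • (τ • (θ 1 • b)) := mul_smul _ _ _
        _ = h⁻¹ • (θ (-1) • b) := by rw [hτ1]
        _ = θ (lam h⁻¹ * -1) • b := hHpt _ (H.inv_mem hh) _
        _ = θ (-(lam h)⁻¹) • b := by rw [hlaminv h hh, mul_neg, mul_one]
    · have hx1 := hidx x (-1) hx (neg_ne_zero.mpr one_ne_zero) hΛneg hxΛ
      obtain ⟨h, hh, hl⟩ := (memΛ _).mp hx1
      have ex : lam h * -1 = x := by rw [hl]; field_simp
      have e2 : (lam h)⁻¹ = -x⁻¹ := by rw [hl]; field_simp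
      calc τ • (θ x • b) = τ • (h • (θ (-1) • b)) := by rw [hHpt h hh, ex]
        _ = (τ * h) • (θ (-1) • b) := (mul_smul _ _ _).symm
        _ = (h⁻¹ * τ) • (θ (-1) • b) := by rw [hσconj τ hτa hτb h hh]
        _ = h⁻¹ • (τ • (θ (-1) • b)) := mul_smul _ _ _
        _ = h⁻¹ • (θ 1 • b) := by rw [hτm1]
        _ = θ (lam h⁻¹ * 1) • b := hHpt _ (H.inv_mem hh) _
        _ = θ (-x⁻¹) • b := by rw [hlaminv h hh, mul_one, e2]
  have Z : ZFieldO G Ω F a b H θ lam :=
    { hab := hab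
      three := h3
      memH := memH
      θ_add := hθadd
      θ_a := hθa
      θ_surj := hθsurj'
      θ_free := hθfree
      lam_conj := hlamconj
      lam_mul := hlammul
      lam_one := hlamone
      swap_sq := hswap_sq
      sigma := ⟨τ, hτa, hτb, hτ⟩
      sq := hsq
      two := hF2 }
  exact ⟨F, instF, instFin, hchar, Z.psl_iso⟩

end Cfsg.Agent.Lib.Helper4.ZassO
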