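import Mathlib
import Cfsg.Agent.Lib.Helper4.ZassO2
import Cfsg.Agent.S0741
import Cfsg.Agent.S0742

/-!
# Zassenhaus groups with abelian kernel

A finite Zassenhaus group whose point stabiliser has an abelian regular normal subgroup is
sharply triply transitive or `PSL₂(q)` with `q` odd.
-/

set_option autoImplicit false

namespace Cfsg.Agent.Lib.Helper4.ZassO

open MulAction Cfsg Cfsg.Agent.Lib.Helper13 Cfsg.Agent.Lib.Helper83 Cfsg.Agent.Lib.Helper4.Zass
  Cfsg.Agent.Lib.Helper4.ZassG Cfsg.Agent.Lib.Helper4.ZassK Cfsg.Agent.Lib.Helper4.ZassM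
  Cfsg.Agent.Lib.Helper4.ZassMain

/-- A free action on an invariant subset: the group order divides the size of the subset. -/
theorem card_dvd_ncard_free {Γ α : Type*} [Group Γ] [MulAction Γ α] (S : Set α)
    (hinv : ∀ g : Γ, ∀ x ∈ S, g • x ∈ S) (hfree : ∀ g : Γ, ∀ x ∈ S, g • x = x → g = 1) :
    Nat.card Γ ∣ S.ncard := by
  let S' : SubMulAction Γ α := { carrier := S, smul_mem' := fun g x hx => hinv g x hx }
  have hstab : ∀ b : S', MulAction.stabilizer Γ b = ⊥ := by
    intro b
    ext g
    rw [MulAction.mem_stabilizer_iff, Subgroup.mem_bot]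
    constructor
    · intro hg
      have h1 := congrArg Subtype.val hg
      exact hfree g b.1 b.2 h1
    · rintro rfl
      exact one_smul _ _
  have e := MulAction.selfEquivOrbitsQuotientProd hstab
  have h1 : Nat.card S' = Nat.card (Quotient (MulAction.orbitRel Γ S')) * Nat.card Γ := by
    rw [Nat.card_congr e, Nat.card_prod]
  have h2 : Nat.card S' = S.ncard := Nat.card_coe_set_eq S
  rw [← h2, h1]
  exact dvd_mul_left _ _

variable {G Ω : Type*} [Group G] [MulAction G Ω]

/-- The order of the two-point stabiliser divides the number of remaining points. -/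
theorem card_two_stab_dvd [Finite G] [Fintype Ω] (hZ : IsZassenhausGroup G Ω) {a b : Ω}
    (hab : a ≠ b) :
    Nat.card ↥(stabilizer G a ⊓ stabilizer G b : Subgroup G) ∣ Fintype.card Ω - 2 := by
  classical
  have h1 := card_dvd_ncard_free (Γ := ↥(stabilizer G a ⊓ stabilizer G b : Subgroup G))
    (α := Ω) ({a, b}ᶜ : Set Ω) ?_ ?_
  · rw [Set.ncard_compl, Set.ncard_pair hab, Nat.card_eq_fintype_card (α := Ω)] at h1
    exact h1
  · intro g y hy hgy
    have hg := Subgroup.mem_inf.1 g.2
    have hga : (g : G) • a = a := hg.1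
    have hgb : (g : G) • b = b := hg.2
    have hgy' : (g : G) • y = (g : G) • a ∨ (g : G) • y = (g : G) • b := by
      rcases hgy with h | h
      · left; rw [hga]; exact h
      · right; rw [hgb]; exact h
    apply hy
    rcases hgy' with h | h
    · exact Or.inl (smul_left_cancel _ h)
    · exact Or.inr (smul_left_cancel _ h)
  · intro g y hy hgy
    have hg := Subgroup.mem_inf.1 g.2
    have hga : (g : G) • a = a := hg.1
    have hgb : (g : G) • b = b := hg.2
    have hya : y ≠ a := fun h => hy (Or.inl h)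
    have hyb : y ≠ b := fun h => hy (Or.inr h)
    apply Subtype.ext
    exact hZ.2.2.1 (g : G) a b y hab (Ne.symm hyb) (Ne.symm hya) hga hgb hgy

/-- A Zassenhaus group whose two-point stabiliser has as many elements as there are remaining
points is sharply triply transitive. -/
theorem sharp_three [Finite G] [Fintype Ω] (hZ : IsZassenhausGroup G Ω) {a b : Ω} (hab : a ≠ b)
    (hcard : Nat.card ↥(stabilizer G a ⊓ stabilizer G b : Subgroup G) + 2 = Fintype.card Ω) :
    IsMultiplyPretransitive G Ω 3 ∧ ∀ t : Fin 3 ↪ Ω, stabilizer G t = ⊥ := by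
  classical
  have h3 := hZ.2.2.1
  -- transitivity of the two-point stabiliser on the remaining points
  have htrans : ∀ c c' : Ω, c ≠ a → c ≠ b → c' ≠ a → c' ≠ b →
      ∃ k : G, k • a = a ∧ k • b = b ∧ k • c = c' := by
    intro c c' hca hcb hc'a hc'b
    obtain ⟨S, hS⟩ : ∃ S : Set Ω, S = {a, b}ᶜ := ⟨_, rfl⟩
    have hSmem : ∀ y : Ω, y ∈ S ↔ y ≠ a ∧ y ≠ b := by
      intro y
      rw [hS]
      simp
    have hScard : Nat.card ↥S = Fintype.card Ω - 2 := by
      rw [Nat.card_coe_set_eq, hS, Set.ncard_compl, Set.ncard_pair hab, Nat.card_eq_fintype_card]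
    have hmap : ∀ k : ↥(stabilizer G a ⊓ stabilizer G b : Subgroup G), (k : G) • c ∈ S := by
      intro k
      have hk := Subgroup.mem_inf.1 k.2
      have hka : (k : G) • a = a := hk.1
      have hkb : (k : G) • b = b := hk.2
      rw [hSmem]
      constructor
      · intro h
        exact hca (smul_left_cancel _ (h.trans hka.symm))
      · intro h
        exact hcb (smul_left_cancel _ (h.trans hkb.symm))
    obtain ⟨f, hf⟩ : ∃ f : ↥(stabilizer G a ⊓ stabilizer G b : Subgroup G) → ↥S,
        ∀ k, (f k : Ω) = (k : G) • c := ⟨fun k => ⟨(k : G) • c, hmap k⟩, fun _ => rfl⟩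
    have hinj : Function.Injective f := by
      intro k k' hkk
      have h1 : (k : G) • c = (k' : G) • c := by rw [← hf, ← hf, hkk]
      have hk := Subgroup.mem_inf.1 k.2
      have hk' := Subgroup.mem_inf.1 k'.2
      have hka : (k : G) • a = a := hk.1
      have hkb : (k : G) • b = b := hk.2
      have hk'a : (k' : G) • a = a := hk'.1
      have hk'b : (k' : G) • b = b := hk'.2
      have h2 : ((k' : G)⁻¹ * (k : G)) = 1 := by
        apply h3 _ a b c hab (Ne.symm hcb) (Ne.symm hca)
        · rw [mul_smul, hka, inv_smul_eq_iff, hk'a]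
        · rw [mul_smul, hkb, inv_smul_eq_iff, hk'b]
        · rw [mul_smul, h1, inv_smul_smul]
      apply Subtype.ext
      exact (inv_mul_eq_one.mp h2).symm
    have hbij := hinj.bijective_of_nat_card_le (by rw [hScard]; omega)
    obtain ⟨k, hk⟩ := hbij.2 ⟨c', (hSmem c').2 ⟨hc'a, hc'b⟩⟩
    have hkm := Subgroup.mem_inf.1 k.2
    refine ⟨(k : G), hkm.1, hkm.2, ?_⟩
    rw [← hf, hk]
  refine ⟨⟨fun t t' => ?_⟩, fun t => ?_⟩
  · have h01 : t 0 ≠ t 1 := fun h => by
      have := t.injective h
      exact absurd this (by decide)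
    have h02 : t 0 ≠ t 2 := fun h => by
      have := t.injective h
      exact absurd this (by decide)
    have h12 : t 1 ≠ t 2 := fun h => by
      have := t.injective h
      exact absurd this (by decide)
    have h01' : t' 0 ≠ t' 1 := fun h => by
      have := t'.injective h
      exact absurd this (by decide)
    have h02' : t' 0 ≠ t' 2 := fun h => by
      have := t'.injective h
      exact absurd this (by decide)
    have h12' : t' 1 ≠ t' 2 := fun h => by
      have := t'.injective h
      exact absurd this (by decide)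
    obtain ⟨g1, hg1a, hg1b⟩ := zass_two_trans hZ h01 hab
    obtain ⟨g2, hg2a, hg2b⟩ := zass_two_trans hZ h01' hab
    have hc1a : g1 • t 2 ≠ a := by
      intro h
      rw [← hg1a] at h
      exact h02 (smul_left_cancel _ h).symm
    have hc1b : g1 • t 2 ≠ b := by
      intro h
      rw [← hg1b] at h
      exact h12 (smul_left_cancel _ h).symm
    have hc2a : g2 • t' 2 ≠ a := by
      intro h
      rw [← hg2a] at h
      exact h02' (smul_left_cancel _ h).symm
    have hc2b : g2 • t' 2 ≠ b := by
      intro h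
      rw [← hg2b] at h
      exact h12' (smul_left_cancel _ h).symm
    obtain ⟨k, hka, hkb, hkc⟩ := htrans _ _ hc1a hc1b hc2a hc2b
    refine ⟨g2⁻¹ * k * g1, ?_⟩
    ext i
    rw [Function.Embedding.smul_apply]
    fin_cases i
    · show (g2⁻¹ * k * g1) • t 0 = t' 0
      rw [mul_smul, mul_smul, hg1a, hka, ← hg2a, inv_smul_smul]
    · show (g2⁻¹ * k * g1) • t 1 = t' 1
      rw [mul_smul, mul_smul, hg1b, hkb, ← hg2b, inv_smul_smul]
    · show (g2⁻¹ * k * g1) • t 2 = t' 2
      rw [mul_smul, mul_smul, hkc, inv_smul_smul]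
  · rw [Subgroup.eq_bot_iff_forall]
    intro g hg
    rw [mem_stabilizer_iff] at hg
    have hgi : ∀ i : Fin 3, g • t i = t i := by
      intro i
      rw [← Function.Embedding.smul_apply, hg]
    have h01 : t 0 ≠ t 1 := fun h => by
      have := t.injective h
      exact absurd this (by decide)
    have h02 : t 0 ≠ t 2 := fun h => by
      have := t.injective h
      exact absurd this (by decide)
    have h12 : t 1 ≠ t 2 := fun h => by
      have := t.injective h
      exact absurd this (by decide)
    exact h3 g (t 0) (t 1) (t 2) h01 h12 h02 (hgi 0) (hgi 1) (hgi 2)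

/-- A finite Zassenhaus group whose point stabiliser has an abelian regular normal subgroup is
sharply triply transitive or `PSL₂` of a finite field of odd characteristic. -/
theorem zass_abelian_kernel [Finite G] [Fintype Ω] (hZ : IsZassenhausGroup G Ω) (x : Ω)
    (F : Subgroup G) (hFle : F ≤ stabilizer G x)
    (hFn : (F.subgroupOf (stabilizer G x)).Normal) (hFab : IsMulCommutative F)
    (hreg : ∀ y z : Ω, y ≠ x → z ≠ x → ∃! u : F, (u : G) • y = z) :
    (IsMultiplyPretransitive G Ω 3 ∧ ∀ t : Fin 3 ↪ Ω, stabilizer G t = ⊥) ∨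
      ∃ (K : Type) (_ : Field K) (_ : Fintype K), ringChar K ≠ 2 ∧
        Nonempty (G ≃* Matrix.ProjectiveSpecialLinearGroup (Fin 2) K) := by
  classical
  obtain ⟨g₀, hg₀, a', b', hab', hga', hgb'⟩ := hZ.2.2.2.1
  obtain ⟨c', hc'⟩ := zass_exists_moved hZ hg₀
  have hc'a : c' ≠ a' := fun h => hc' (h ▸ hga')
  have hc'b : c' ≠ b' := fun h => hc' (h ▸ hgb')
  have h3pts : 3 ≤ Fintype.card Ω := by
    have hsub : ({a', b', c'} : Finset Ω) ⊆ Finset.univ := Finset.subset_univ _
    have hcard3 : ({a', b', c'} : Finset Ω).card = 3 := by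
      rw [Finset.card_insert_of_notMem, Finset.card_insert_of_notMem, Finset.card_singleton]
      · simp only [Finset.mem_singleton]
        exact Ne.symm hc'b
      · simp only [Finset.mem_insert, Finset.mem_singleton, not_or]
        exact ⟨hab', Ne.symm hc'a⟩
    have := Finset.card_le_card hsub
    rw [hcard3, Finset.card_univ] at this
    exact this
  obtain ⟨b, hxb⟩ : ∃ b : Ω, x ≠ b := by
    by_cases h : x = a'
    · exact ⟨b', h ▸ hab'⟩
    · exact ⟨a', h⟩
  obtain ⟨e, he⟩ : ∃ e, Nat.card ↥(stabilizer G x ⊓ stabilizer G b : Subgroup G) = e :=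
    ⟨_, rfl⟩
  have hepos : 0 < e := by rw [← he]; exact Nat.card_pos
  have hFcomm : ∀ u ∈ F, ∀ v ∈ F, u * v = v * u := by
    intro u hu v hv
    have := hFab.is_comm.comm (⟨u, hu⟩ : F) ⟨v, hv⟩
    exact congrArg Subtype.val this
  have hFa : ∀ k ∈ F, k • x = x := fun k hk => mem_stabilizer_iff.mp (hFle hk)
  have hFtr : ∀ y : Ω, y ≠ x → ∃ k ∈ F, k • b = y := by
    intro y hy
    obtain ⟨u, hu, -⟩ := hreg b y (Ne.symm hxb) hy
    exact ⟨u, u.2, hu⟩
  have hFreg : ∀ k ∈ F, ∀ y : Ω, y ≠ x → k • y = y → k = 1 := by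
    intro k hk y hy hky
    obtain ⟨u, -, huniq⟩ := hreg y y hy hy
    have h1 := huniq ⟨k, hk⟩ hky
    have h2 := huniq 1 (by show ((1 : F) : G) • y = y; rw [Subgroup.coe_one, one_smul])
    have h4 : (⟨k, hk⟩ : F) = 1 := h1.trans h2.symm
    exact congrArg Subtype.val h4
  have hFfix : ∀ u ∈ F, u ≠ 1 → ∀ c : Ω, u • c = c → c = x := by
    intro u hu hu1 c hc
    by_contra hca
    exact hu1 (hFreg u hu c hca hc)
  have hFcard : Nat.card F + 1 = Fintype.card Ω := by
    have h1 : Nat.card F = ((fun k : G => k • b) '' (F : Set G)).ncard := by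
      rw [Set.InjOn.ncard_image]
      · rfl
      · intro k hk k' hk' hkk
        have hkk' : k • b = k' • b := hkk
        have : k'⁻¹ * k = 1 := hFreg _ (F.mul_mem (F.inv_mem hk') hk) b (Ne.symm hxb)
          (by rw [mul_smul, hkk', inv_smul_smul])
        exact (inv_mul_eq_one.mp this).symm
    have h2 : (fun k : G => k • b) '' (F : Set G) = {x}ᶜ := by
      ext y
      constructor
      · rintro ⟨k, hk, rfl⟩
        intro h
        have h' : k • b = k • x := by rw [hFa k hk]; exact h
        exact hxb (smul_left_cancel _ h').symm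
      · intro hy
        obtain ⟨k, hk, hkb⟩ := hFtr y hy
        exact ⟨k, hk, hkb⟩
    rw [h1, h2, Set.ncard_compl, Set.ncard_singleton, Nat.card_eq_fintype_card]
    omega
  obtain ⟨h, hh⟩ : ∃ h, Fintype.card Ω = h + 1 := ⟨Fintype.card Ω - 1, by omega⟩
  have hdvd : e ∣ h - 1 := by
    have h1 := card_two_stab_dvd hZ hxb
    rw [he, hh] at h1
    have e1 : h + 1 - 2 = h - 1 := by omega
    rwa [e1] at h1
  have hle : h - 1 ≤ 2 * e := by
    rcases Nat.even_or_odd e with heven | hodd
    · have h1 := Cfsg.Agent.S0741.result hZ hxb (by rw [he]; exact heven)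
      rw [he] at h1
      omega
    · rcases feit_zass hZ hxb h e hh he hodd F hFle hFcard hFfix with h1 | ⟨-, ⟨u, v, huv⟩, -⟩
      · exact h1
      · exact absurd (hFab.is_comm.comm u v) huv
  obtain ⟨k, hk⟩ := hdvd
  have hk12 : k = 1 ∨ k = 2 := by
    have hk0 : k ≠ 0 := by
      rintro rfl
      rw [mul_zero] at hk
      omega
    have hk2 : k ≤ 2 := by
      by_contra hcon
      push Not at hcon
      have h1 : e * 3 ≤ e * k := Nat.mul_le_mul_left _ hcon
      omega
    omega
  rcases hk12 with rfl | rfl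
  · left
    exact sharp_three hZ hxb (by rw [he]; omega)
  · right
    rcases Nat.even_or_odd e with heven | hodd
    · obtain ⟨p, f, K, instK, instFin, hp, hp2, hcardK, -, hiso⟩ :=
        Cfsg.Agent.S0742.result hZ hxb (by rw [he]; exact heven) (by rw [he]; omega)
      refine ⟨K, instK, instFin, ?_, hiso⟩
      intro h2
      have h5 := FiniteField.even_card_iff_char_two.mp h2
      rw [hcardK] at h5
      have hoddp : Odd (p ^ f) := (hp.odd_of_ne_two hp2).pow
      rcases hoddp with ⟨j, hj⟩
      omega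
    · exact zass_odd_psl hZ hxb (by rw [he]; exact hodd) (by rw [he]; omega) F hFle hFn hFcomm
        hreg

end Cfsg.Agent.Lib.Helper4.ZassO
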